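import Cfsg.Agent.H85.ZN.Walk

/-!
The two maximal 2-local subgroups over a maximal straddling subgroup are `S₄` or `S₄ × 2`.
-/

set_option autoImplicit false
set_option linter.style.haveILetI false
set_option linter.unusedSectionVars false

namespace Cfsg.Agent.H85.ZN

open Subgroup Cfsg.Agent.Thompson

variable {G : Type*} [Group G] [Finite G]

theorem zpow2_cases {x : G} (hx : x * x = 1) {y : G} (hy : y ∈ zpowers x) : y = 1 ∨ y = x := by
  rcases mem_sup_zpowers_two (H := ⊥) hx (fun e he => by rw [mem_bot.mp he]; exact Commute.one_left x)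
    (mem_sup_right hy) with h | h
  · exact .inl (mem_bot.mp h)
  · exact .inr ((eq_inv_of_mul_eq_one_left (mem_bot.mp h)).trans (inv_eq_of_mul_eq_one_right hx))

theorem card_sup_of_le_normalizer {A B : Subgroup G} (h : B ≤ normalizer (A : Set G))
    (hd : A ⊓ B = ⊥) : Nat.card ↥(A ⊔ B : Subgroup G) = Nat.card A * Nat.card B := by
  haveI := normal_subgroupOf_of_le_normalizer
    (sup_le le_normalizer h : A ⊔ B ≤ normalizer (A : Set G))
  have e1 : A.relIndex (A ⊔ B) = A.relIndex B := by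
    rw [← relIndex_subgroupOf (le_refl (A ⊔ B)), ← relIndex_subgroupOf le_sup_right (H := A),
      subgroupOf_self, show (⊤ : Subgroup ↥(A ⊔ B)) =
        B.subgroupOf (A ⊔ B) ⊔ A.subgroupOf (A ⊔ B) by
        rw [← subgroupOf_sup le_sup_right le_sup_left, sup_comm B A, subgroupOf_self],
      relIndex_sup_right]
  have e2 : A.relIndex B = Nat.card B := by
    rw [← inf_relIndex_right, hd, relIndex_bot_left]
  have e3 := relIndex_mul_relIndex ⊥ A (A ⊔ B) bot_le le_sup_left
  rw [relIndex_bot_left, relIndex_bot_left, e1, e2] at e3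
  exact e3.symm

/-- A group of order 24 with a self-centralising normal four-group and a complement is `S₄`. -/
theorem perm_four_of {P : Type*} [Group P] [Finite P] (hP : Nat.card P = 24) (W R : Subgroup P)
    [W.Normal] (hR : Nat.card R = 6) (hd : W ⊓ R = ⊥)
    (hC : R ⊓ centralizer (W : Set P) = ⊥) : Nonempty (P ≃* Equiv.Perm (Fin 4)) := by
  classical
  have hidx : R.index = 4 := by
    have := card_mul_index R; rw [hR, hP] at this; omega
  haveI := Fintype.ofFinite (P ⧸ R)
  have hQ : Fintype.card (P ⧸ R) = 4 := by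
    rw [← Nat.card_eq_fintype_card]; exact hidx
  set φ : P →* Equiv.Perm (P ⧸ R) := MulAction.toPermHom P (P ⧸ R) with hφ
  have hinj : Function.Injective φ := by
    rw [← MonoidHom.ker_eq_bot_iff, hφ, ← normalCore_eq_ker, eq_bot_iff]
    intro n hn
    refine hC.le ⟨normalCore_le R hn, mem_centralizer_iff.mpr fun w hw => ?_⟩
    have h1 : n * w * n⁻¹ * w⁻¹ ∈ W :=
      W.mul_mem ((inferInstance : W.Normal).conj_mem w hw n) (W.inv_mem hw)
    have h2 : n * w * n⁻¹ * w⁻¹ ∈ R.normalCore := by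
      have := (normalCore_normal R).conj_mem n⁻¹ (R.normalCore.inv_mem hn) w
      rw [show n * w * n⁻¹ * w⁻¹ = n * (w * n⁻¹ * w⁻¹) by group]
      exact R.normalCore.mul_mem hn this
    have h3 : n * w * n⁻¹ * w⁻¹ = 1 := mem_bot.mp (hd.le ⟨h1, normalCore_le R h2⟩)
    exact (mul_inv_eq_iff_eq_mul.mp (mul_inv_eq_one.mp h3)).symm
  have hcard : Nat.card P = Nat.card (Equiv.Perm (P ⧸ R)) := by
    rw [hP, Nat.card_eq_fintype_card, Fintype.card_perm, hQ]; decide
  exact ⟨(MulEquiv.ofBijective φ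
    ((Nat.bijective_iff_injective_and_card φ).mpr ⟨hinj, hcard⟩)).trans
      (Equiv.permCongrHom (Fintype.equivFinOfCardEq hQ))⟩

section

variable {M : Subgroup G} {S : Sylow 2 G} {T L K : Subgroup G} (X : TopHyp M S T L K)
include X

theorem TopHyp.side (hN : T ≤ normalizer (K : Set G)) (h4 : Nat.card (zJ T) ≤ 4) :
    ∃ k a c, Side T K k a c := by
  have Z := X.m.zn
  obtain ⟨a, ha, hKa⟩ := X.lh.exists_eq_comp Z X.jc X.kl
  obtain ⟨k, hkL, hkK, hk3, hak, hkQ, hkd, hk1, hpiece⟩ := X.lh.exists_k3 Z ha.tvL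
  obtain ⟨c, hc1, hcW, hcZ, hline, hcK⟩ := X.lh.exists_c Z ha
  have hkK' : k ∈ K := hKa ▸ hkK
  have hWK : Cfsg.wOf K = planeA L a := by rw [hKa]; exact X.lh.wOf_comp Z ha
  set S' := X.lh.setup Z with hS'
  have hWV : planeA L a ≤ Vc L := planeA_le S' ha.tvL
  have hW4 : Nat.card (planeA L a) = 4 := card_planeA S' ha.tvL
  have hom := X.om_eq hN h4
  have hwfix : ∀ x ∈ planeA L a, Commute k x → x = 1 := by
    intro x hx hkx
    rw [planeA_eq S' ha.tvL] at hx
    obtain ⟨v, hv, rfl⟩ := hx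
    have hfix : img L ⟨k, hkL⟩ • v = v := (img_smul_eq_iff _ v).mpr hkx
    have : v = 1 := by
      refine S'.eq_one_of_dOf_fixed ha.tvL.tv ?_ hv
      rcases zpow3_cases (S'.orderOf_dOf ha.tvL.tv) hkd with e | e | e
      · exact absurd e hk1
      · rwa [e] at hfix
      · rw [e, mul_smul] at hfix
        have h5 := congrArg (S'.dOf ha.tvL.tv • ·) hfix
        simp only [S'.dOf_cube ha.tvL.tv] at h5
        exact h5.symm
    simp [this]
  have hkW : k ∈ normalizer (Cfsg.wOf K : Set G) :=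
    normalizer_le_normalizer_wOf K (le_normalizer hkK')
  refine ⟨k, a, c, X.lh.syl.2.1, hkK', hk3, ?_, ha.tvL.1, hak, hWK ▸ hcW, hc1, hom ▸ hcZ,
    hWK ▸ hW4, fun w hw => om_sq (hWV (hWK ▸ hw)),
    fun w hw w' hw' => om_comm (hWV (hWK ▸ hw)) (hWV (hWK ▸ hw')),
    hWK ▸ hWV.trans (X.lh.Vc_le Z), hkW, hN.trans (normalizer_le_normalizer_wOf K),
    fun w hw => hwfix w (hWK ▸ hw), ?_, ?_, ?_, ?_⟩
  · obtain ⟨A, hA, haA, -⟩ := id ha; exact ⟨A, hA, haA⟩
  · intro h
    have hwW : k * c * k⁻¹ ∈ planeA L a := hWK ▸ (mem_normalizer_iff.mp hkW c).mp (hWK ▸ hcW)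
    rcases hline _ hwW h with e | e
    · exact hc1 (conj_eq_one_iff.mp e)
    · exact hc1 (hwfix c hcW (mul_inv_eq_iff_eq_mul.mp e))
  · -- `k` normalises the kernel
    refine H61.mem_normalizer_of_conj_mem fun q hq => ⟨?_, mem_centralizer_iff.mpr fun w hw => ?_⟩
    swap
    · have hw' : k⁻¹ * w * k ∈ Cfsg.wOf K := by
        have := (mem_normalizer_iff.mp ((normalizer _).inv_mem hkW) w).mp hw
        rwa [inv_inv] at this
      have h1 : Commute (k⁻¹ * w * k) q := mem_centralizer_iff.mp hq.2 _ hw'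
      have := h1.map (MulAut.conj k).toMonoidHom
      simpa [mul_assoc] using this.eq
    set κ := k * q * k⁻¹ * q⁻¹ with hκ
    have hκK : κ ∈ K := by
      rw [hκ, show k * q * k⁻¹ * q⁻¹ = k * (q * k⁻¹ * q⁻¹) by group]
      exact K.mul_mem hkK' ((mem_normalizer_iff.mp (hN hq.1) _).mp (K.inv_mem hkK'))
    have hκc : Commute κ c := by
      have hcW' : k⁻¹ * c * k ∈ Cfsg.wOf K := by
        have := (mem_normalizer_iff.mp ((normalizer _).inv_mem hkW) c).mp (hWK ▸ hcW)
        rwa [inv_inv] at this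
      have h1 : Commute (k⁻¹ * c * k) q := mem_centralizer_iff.mp hq.2 _ hcW'
      have h2 : Commute (k * q * k⁻¹) c := by
        have := (h1.map (MulAut.conj k).toMonoidHom).symm
        simpa [mul_assoc] using this
      have h3 : Commute q c := (mem_centralizer_iff.mp hq.2 c (hWK ▸ hcW)).symm
      exact h2.mul_left h3.inv_left
    obtain ⟨hκL, hκp⟩ := (hpiece κ).mp (oddCl_le _ (by rw [hKa] at hκK; exact hκK))
    have hord : orderOf (proj L ⟨k, hkL⟩) = 3 := by
      haveI : Fact (Nat.Prime 3) := ⟨Nat.prime_three⟩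
      refine orderOf_eq_prime ?_ fun e => hkQ ((proj_eq_one (x := (⟨k, hkL⟩ : L))).mp e)
      rw [← map_pow, show (⟨k, hkL⟩ : L) ^ 3 = 1 from Subtype.ext (by simpa [pow_three'] using hk3),
        map_one]
    have hκT : κ ∈ T := by
      rcases zpow3_cases hord hκp with e | e | e
      · exact pCoreOf_le_sylowTwoIn X.lh.syl ((proj_eq_one (x := (⟨κ, hκL⟩ : L))).mp e)
      all_goals exfalso
      · have hr : k⁻¹ * κ ∈ Cfsg.pCoreOf 2 L :=
          (proj_eq_one (x := (⟨k, hkL⟩ : L)⁻¹ * ⟨κ, hκL⟩)).mp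
            (by rw [map_mul, map_inv, e, inv_mul_cancel])
        have hrc : Commute (k⁻¹ * κ) c :=
          (mem_centralizer_iff.mp (pCoreOf_le_Cn L hr).2 c (hWV hcW)).symm
        refine hc1 (hwfix c hcW ?_)
        have := hrc.mul_left hκc.inv_left
        rw [mul_inv_cancel_right] at this
        simpa using this.inv_left
      · have hr : (k * k)⁻¹ * κ ∈ Cfsg.pCoreOf 2 L :=
          (proj_eq_one (x := ((⟨k, hkL⟩ : L) * ⟨k, hkL⟩)⁻¹ * ⟨κ, hκL⟩)).mp
            (by rw [map_mul, map_inv, map_mul, e, inv_mul_cancel])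
        have hrc : Commute ((k * k)⁻¹ * κ) c :=
          (mem_centralizer_iff.mp (pCoreOf_le_Cn L hr).2 c (hWV hcW)).symm
        refine hc1 (hwfix c hcW ?_)
        have := hrc.mul_left hκc.inv_left
        rw [mul_inv_cancel_right] at this
        rwa [show (k * k)⁻¹ = k by rw [inv_eq_iff_mul_eq_one]; exact hk3] at this
    rw [show k * q * k⁻¹ = κ * q by rw [hκ, inv_mul_cancel_right]]
    exact T.mul_mem hκT hq.1
  · -- `Z₀` over the fixed points of `K`
    intro x hx
    rw [hom] at hx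
    have hkH : ∀ e ∈ hC T K, Commute k e := fun e he => mem_centralizer_iff.mp he.2 k hkK'
    by_cases hbot : ∀ e ∈ hC T K, e = 1
    · have hb := X.lh.jcomp_card Z X.jc X.kl
      rw [(Subgroup.eq_bot_iff_forall (hC T K)).mpr hbot, card_bot] at hb
      rcases two_cases (by omega : Nat.card (zJ T) ≤ 2) hcZ hc1 x hx with e | e
      · exact .inl (e ▸ Commute.one_right k)
      · exact .inr (by rw [e, om_sq hcZ]; exact Commute.one_right k)
    push Not at hbot
    obtain ⟨h, hh, hh1⟩ := hbot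
    have hch : c ≠ h := fun e => hc1 (hwfix c hcW (e ▸ hkH h hh))
    rcases four_cases h4 hcZ hh.1 hc1 hh1 hch (om_sq hcZ) x hx with e | e | e | e
    · exact .inl (e ▸ Commute.one_right k)
    · exact .inr (by rw [e, om_sq hcZ]; exact Commute.one_right k)
    · exact .inl (e ▸ hkH h hh)
    · refine .inr ?_
      rw [e, (om_comm hcZ hh.1).eq, mul_assoc, om_sq hcZ, mul_one]
      exact hkH h hh
  · rw [hKa]
    exact (X.lh.comp_le_sup Z ha hkK hkQ).trans (sup_le_sup_left jay_le _)

theorem TopHyp.hnn {k a c : G} (s : Side T K k a c) {M' : Subgroup G} {S' : Sylow 2 G}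
    {L' K' : Subgroup G} (X' : TopHyp M' S' T L' K') {k' a' c' : G} (s' : Side T K' k' a' c')
    (hne : L' ≠ L) : ∀ R : Subgroup G, R ≤ T → T ≤ normalizer (R : Set G) →
      k ∈ normalizer (R : Set G) → k' ∈ normalizer (R : Set G) → R = ⊥ := by
  intro R hR hT hk hk'
  by_contra hne0
  have hle := X.local_le (isTwoLocal_normalizer (X.lh.syl.2.1.to_le hR) hne0)
    (sup_le (s.gen.trans (sup_le (zpowers_le.mpr hk) hT)) (jay_le.trans hT))
  have h2 : K' ⊔ jay 2 T ≤ L := (sup_le (s'.gen.trans (sup_le (zpowers_le.mpr hk') hT))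
    (jay_le.trans hT)).trans hle
  exact hne (X'.m.top_unique X'.max X'.jc X'.nm X'.loc X'.sup_jay_le X.loc h2).symm

theorem TopHyp.unique_centralising {k a c c' : G} (s : Side T K k a c) (h4 : Nat.card (zJ T) ≤ 4)
    (hc' : c' ∈ hC T K) (hc'1 : c' ≠ 1) {K₁ : Subgroup G} (hK₁ : Cfsg.IsJComponent T K₁)
    (hK₁L : K₁ ≤ L) (hK₁c : K₁ ≤ centralizer ({c'} : Set G)) : K₁ = K := by
  by_contra hne
  have hcH : c ∈ hC T K₁ := ⟨om_le_om_jay s.cZ, mem_centralizer_iff.mpr fun x hx =>
    (mem_centralizer_iff.mp (X.lh.jcomp_centralizes X.m.zn X.jc X.kl hK₁ hK₁L hne hx) c s.cW).symm⟩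
  have hc'H : c' ∈ hC T K₁ := ⟨hc'.1, mem_centralizer_iff.mpr fun x hx =>
    mem_centralizer_singleton_iff.mp (hK₁c hx)⟩
  obtain ⟨c₁, -, -, hc₁Z, -, hc₁K⟩ := X.lh.jcomp_c X.m.zn hK₁ hK₁L
  have hnot : c₁ ∉ hC T K₁ := fun h => hc₁K fun x hx =>
    mem_centralizer_singleton_iff.mpr (mem_centralizer_iff.mp h.2 x hx)
  have h2 := two_mul_card_le (lt_of_le_of_ne (inf_le_left : hC T K₁ ≤ zJ T)
    fun e => hnot (e.ge hc₁Z))
  rcases two_cases (show Nat.card (hC T K₁) ≤ 2 by
    have h4' : Nat.card (zJ T) ≤ 4 := h4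
    exact Nat.le_of_mul_le_mul_left (h2.trans h4') (by norm_num)) hc'H hc'1 c hcH with e | e
  · exact s.c1 e
  · exact s.c1 (s.wfix c s.cW (e ▸ mem_centralizer_iff.mp hc'.2 k s.kK))

/-- **The four-groups of two components with different tops do not commute.** -/
theorem TopHyp.not_commute {M' : Subgroup G} {S' : Sylow 2 G} {L' K' : Subgroup G}
    (X' : TopHyp M' S' T L' K') (hne : L' ≠ L) {k a c k' a' c' : G} (s : Side T K k a c)
    (s' : Side T K' k' a' c') : ¬ ∀ x ∈ Cfsg.wOf K, ∀ y ∈ Cfsg.wOf K', Commute x y := by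
  intro hcomm
  have hnn := X.hnn s X' s' hne
  have h4 := X.card_zJ_le_four X' rfl hne
  have hkc : Commute k c' := s.fixed_of_commute s' hnn hcomm
  have hkc' : Commute k' c := s'.fixed_of_commute s (fun R h1 h2 h3 h4' => hnn R h1 h2 h4' h3)
    fun x hx y hy => (hcomm y hy x hx).symm
  have hcc : c ≠ c' := fun e => s.c1 (s.wfix c s.cW (e ▸ hkc))
  have hzc : c ∈ zJ T := om_le_om_jay s.cZ
  have hzc' : c' ∈ zJ T := om_le_om_jay s'.cZ
  have hKc' : K ≤ centralizer ({c'} : Set G) := s.gen.trans (sup_le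
    (zpowers_le.mpr (mem_centralizer_singleton_iff.mpr hkc.eq))
    fun t ht => mem_centralizer_singleton_iff.mpr (s'.tc ht).eq)
  have hKc : K' ≤ centralizer ({c} : Set G) := s'.gen.trans (sup_le
    (zpowers_le.mpr (mem_centralizer_singleton_iff.mpr hkc'.eq))
    fun t ht => mem_centralizer_singleton_iff.mpr (s.tc ht).eq)
  -- facts about one side, applied to both
  have side : ∀ {M : Subgroup G} {S : Sylow 2 G} {L K K' : Subgroup G} {k a c k' a' c' : G},
      TopHyp M S T L K → Side T K k a c → Side T K' k' a' c' → Cfsg.IsJComponent T K' → c ≠ c' →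
      K ≤ centralizer ({c'} : Set G) → K' ≤ centralizer ({c} : Set G) →
      centralizer ({c'} : Set G) ≤ normalizer (Cfsg.wOf K : Set G) ∧
      (∀ t : G, t * t = 1 → Commute t c → Commute t c' → t ∈ T) ∧
      (∀ y : G, y * c * y⁻¹ = c' → ∃ l : G, Commute l c' ∧ l * y * c' * (l * y)⁻¹ = c) := by
    intro M S L K K' k a c k' a' c' X s s' hjc' hcc hKc' hKc
    have Z := X.m.zn
    have hzc : c ∈ zJ T := om_le_om_jay s.cZ
    have hzc' : c' ∈ zJ T := om_le_om_jay s'.cZ
    have hc'H : c' ∈ hC T K := ⟨hzc', mem_centralizer_iff.mpr fun x hx =>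
      mem_centralizer_singleton_iff.mp (hKc' hx)⟩
    have hCL : centralizer ({c'} : Set G) ≤ L :=
      X.centralizer_le s'.c1 (om_sq hzc') hKc' (jay_le_centralizer_zJ hzc')
    refine ⟨fun y hy => normalizer_le_normalizer_wOf K (Thompson.mem_normalizer_of_map_conj ?_),
      fun t ht htc htc' => ?_, fun y hy => ?_⟩
    · obtain ⟨a0, ha0, hKa⟩ := X.lh.exists_eq_comp Z X.jc X.kl
      obtain ⟨b, hb, htv, hpl⟩ := X.lh.conj_adm Z (hCL hy) ha0
      have hcj : cj y K = compOf L b := by
        rw [hKa, X.lh.cj_compOf Z ha0.tvL (hCL hy), compOf, compOf,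
          (X.lh.piece_congr Z hb.tvL htv hpl).1]
      refine hcj.trans (X.unique_centralising s h4 hc'H s'.c1 (X.lh.isJComponent_comp Z hb)
        (X.lh.comp_le Z) ?_)
      rw [← hcj]
      refine (cj_le_cj hKc').trans (le_of_eq ?_)
      rw [cj_centralizer_singleton, mem_centralizer_singleton_iff.mp hy, mul_inv_cancel_right]
    · obtain ⟨P, hTP⟩ := X.lh.syl.2.1.exists_le_sylow
      have hcases := four_cases h4 hzc hzc' s.c1 s'.c1 hcc (om_sq hzc)
      have htN : t ∈ normalizer ((P : Subgroup G) : Set G) := by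
        refine Z.zc P (mem_centralizer_iff.mpr fun e he => ?_)
        rcases hcases e (om_le_om_jay (X.om_sylow_le P hTP he)) with f | f | f | f <;> rw [f]
        · simp
        · exact htc.eq.symm
        · exact htc'.eq.symm
        · exact (htc.mul_right htc').eq.symm
      have hPN : Cfsg.IsSylowTwoIn (P : Subgroup G) (normalizer ((P : Subgroup G) : Set G)) :=
        ⟨le_normalizer, P.isPGroup', by
          haveI : Fact (Nat.Prime 2) := ⟨Nat.prime_two⟩
          exact Odd.of_dvd_nat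
            (Nat.not_even_iff_odd.mp fun h => P.not_dvd_index (even_iff_two_dvd.mp h))
            (Dvd.intro _ (relIndex_mul_index le_normalizer))⟩
      obtain ⟨l, hl, hle⟩ := sylowTwoIn_conj hPN (isPGroup_zpowers_two ht) (zpowers_le.mpr htN)
      rw [cj_of_mem_normalizer hl] at hle
      exact (sylowTwoIn_eq_of_le X.lh.syl (P.isPGroup'.to_le inf_le_left) inf_le_right
        (le_inf hTP X.lh.syl.1) : (P : Subgroup G) ⊓ L = T).le
        ⟨hle (mem_zpowers t), hCL (mem_centralizer_singleton_iff.mpr htc'.eq)⟩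
    · have hTC : T ≤ centralizer ({c'} : Set G) :=
        fun t ht => mem_centralizer_singleton_iff.mpr (s'.tc ht).eq
      have hsyl : Cfsg.IsSylowTwoIn T (centralizer ({c'} : Set G)) :=
        ⟨hTC, X.lh.syl.2.1, Odd.of_dvd_nat X.lh.syl.2.2
          ⟨_, (relIndex_mul_relIndex T _ L hTC hCL).symm⟩⟩
      have hyT : cj y T ≤ centralizer ({c'} : Set G) := by
        rw [← hy, ← cj_centralizer_singleton]
        exact cj_le_cj fun t ht => mem_centralizer_singleton_iff.mpr (s.tc ht).eq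
      obtain ⟨l0, hl0, hle⟩ := sylowTwoIn_conj hsyl (isPGroup_cj X.lh.syl.2.1) hyT
      have heq : cj y T = cj l0 T := Subgroup.eq_of_le_of_card_ge hle (by rw [card_cj, card_cj])
      have hlc : Commute l0⁻¹ c' :=
        Commute.inv_left (mem_centralizer_singleton_iff.mp hl0 : Commute l0 c')
      refine ⟨l0⁻¹, hlc, ?_⟩
      set m := l0⁻¹ * y with hm
      have hmT : cj m T = T := by rw [hm, cj_mul, heq, cj_inv_cj]
      have hmc : m * c * m⁻¹ = c' := by
        calc m * c * m⁻¹ = l0⁻¹ * (y * c * y⁻¹) * l0⁻¹⁻¹ := by rw [hm]; group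
          _ = c' := by rw [hy, hlc.eq, mul_inv_cancel_right]
      have hK1c : cj m K' ≤ centralizer ({c'} : Set G) := by
        rw [← hmc, ← cj_centralizer_singleton]; exact cj_le_cj hKc
      have hK1 : Cfsg.IsJComponent T (cj m K') := by
        have := jcomp_cj m hjc'
        rwa [hmT] at this
      have hKK := X.unique_centralising s h4 hc'H s'.c1 hK1 (hK1c.trans hCL) hK1c
      have hmW : m * c' * m⁻¹ ∈ Cfsg.wOf K := by
        rw [← hKK, ← cj_wOf]; exact conj_mem_cj s'.cW
      have hcomma : Commute a (m * c' * m⁻¹) := by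
        have ha' : m⁻¹ * a * m ∈ T := mem_cj.mp (by rw [hmT]; exact s.aT)
        have := (s'.tc ha').map (MulAut.conj m).toMonoidHom
        simpa [mul_assoc] using this
      rcases s.cases _ hmW with e | e | e | e
      · exact absurd (conj_eq_one_iff.mp e) s'.c1
      · exact e
      · exact absurd (e ▸ hcomma) s.amove
      · refine absurd ?_ s.amove
        have h1 := (s.tc s.aT).mul_right hcomma
        rwa [e, ← mul_assoc, s.Wsq c s.cW, one_mul] at h1
  obtain ⟨hA, hedge, hsw⟩ := side X s s' X'.jc hcc hKc' hKc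
  obtain ⟨hB, -, hsw'⟩ := side X' s' s X.jc hcc.symm hKc hKc'
  exact Dbl.false ⟨s, s', hnn, hcomm, hkc, hkc', hedge, hA, hB, hsw, hsw'⟩

omit X in
theorem Side.not_commute_gen {K' : Subgroup G} {k a c k' a' c' : G} (s : Side T K k a c)
    (s' : Side T K' k' a' c') (h : ¬ ∀ x ∈ Cfsg.wOf K, ∀ y ∈ Cfsg.wOf K', Commute x y) :
    ¬ Commute (k * c * k⁻¹) (k' * c' * k'⁻¹) := by
  intro hcom
  refine h fun x hx y hy => ?_
  have h1 : ∀ e, e ∈ T → Commute c e := fun e he => (s.tc he).symm
  have h2 : ∀ e, e ∈ T → Commute e c' := fun e he => s'.tc he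
  have ho := s.WT s.oW
  rcases s.cases x hx with e | e | e | e <;> subst e
  · exact Commute.one_left y
  · exact h1 y (s'.WT hy)
  all_goals rcases s'.cases y hy with f | f | f | f <;> subst f
  · exact Commute.one_right _
  · exact h2 _ ho
  · exact hcom
  · exact (h2 _ ho).mul_right hcom
  · exact Commute.one_right _
  · exact (h2 _ (s.WT s.cW)).mul_left (h2 _ ho)
  · exact (h1 _ (s'.WT s'.oW)).mul_left hcom
  · exact (((h2 _ (s.WT s.cW)).mul_left (h2 _ ho))).mul_right
      ((h1 _ (s'.WT s'.oW)).mul_left hcom)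

/-- The kernels are elementary abelian, meeting in `Ω₁Z(T)`. -/
theorem TopHyp.kernel_structure {M' : Subgroup G} {S' : Sylow 2 G} {L' K' : Subgroup G}
    (X' : TopHyp M' S' T L' K') (hne : L' ≠ L) {k a c k' a' c' : G} (s : Side T K k a c)
    (s' : Side T K' k' a' c') :
    (∀ q ∈ qOf T K, q * q = 1) ∧
      Nat.card (qOf T K) = 2 * Nat.card (Cfsg.omegaCenterOf T) ∧
      qOf T K ≤ Cfsg.wOf K ⊔ Cfsg.omegaCenterOf T := by
  have hnn := X.hnn s X' s' hne
  have hno := s.not_commute_gen s' (X.not_commute X' hne s s')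
  set Q := qOf T K with hQ
  set Q' := qOf T K' with hQ'
  set o := k * c * k⁻¹ with ho
  set u := k' * c' * k'⁻¹ with hu
  have hoQ : o ∈ Q := s.W_le_q s.oW
  have huQ' : u ∈ Q' := s'.W_le_q s'.oW
  have hoQ' : o ∉ Q' := fun h => hno (s'.q_act h u s'.oW)
  have huQ : u ∉ Q := fun h => hno (s.q_act h o s.oW).symm
  have hoinv : o⁻¹ = o := inv_eq_of_mul_eq_one_right (s.Wsq o s.oW)
  have hsplit : ∀ q ∈ Q, q ∈ Q' ∨ o * q ∈ Q' := by
    intro q hq
    rcases s'.t_act hq.1 with e | e
    · exact .inl (s'.mem_q hq.1 (mul_inv_eq_iff_eq_mul.mp e))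
    refine .inr (s'.mem_q (T.mul_mem hoQ.1 hq.1) (mul_inv_eq_iff_eq_mul.mp ?_))
    have eo := (s'.t_act hoQ.1).resolve_left fun h => hno (mul_inv_eq_iff_eq_mul.mp h)
    have hc' : o * c' * o⁻¹ = c' := by rw [(s'.tc hoQ.1).eq, mul_inv_cancel_right]
    calc o * q * u * (o * q)⁻¹ = o * (q * u * q⁻¹) * o⁻¹ := by group
      _ = o * u * o⁻¹ * (o * c' * o⁻¹) := by rw [e, hu]; group
      _ = u := by rw [eo, hc', mul_assoc, om_sq s'.cZ, mul_one]
  have hsq : ∀ q ∈ Q, (o * q) * (o * q) = q * q := fun q hq => by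
    have h1 : Commute q o := s.q_act hq o s.oW
    calc o * q * (o * q) = o * (q * o) * q := by group
      _ = o * (o * q) * q := by rw [h1.eq]
      _ = q * q := by rw [← mul_assoc o o, s.Wsq o s.oW, one_mul]
  -- squares
  set R := closure {e : G | ∃ d ∈ Q, e = d * d} with hR
  have hR' : R = closure {e : G | ∃ d ∈ Q ⊓ Q', e = d * d} := by
    refine le_antisymm ((closure_le _).mpr ?_)
      (closure_mono fun e ⟨d, hd, he⟩ => ⟨d, hd.1, he⟩)
    rintro _ ⟨d, hd, rfl⟩
    rcases hsplit d hd with h | h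
    · exact subset_closure ⟨d, ⟨hd, h⟩, rfl⟩
    · exact subset_closure ⟨o * d, ⟨Q.mul_mem hoQ hd, h⟩, (hsq d hd).symm⟩
  have hnormR : ∀ (P : Subgroup G), normalizer (P : Set G) ≤
      normalizer ((closure {e : G | ∃ d ∈ P, e = d * d}) : Set G) := fun P g hg =>
    H61.mem_normalizer_of_conj_mem fun y hy => by
      induction hy using closure_induction with
      | mem y hy =>
        obtain ⟨d, hd, rfl⟩ := hy
        exact subset_closure ⟨g * d * g⁻¹, (mem_normalizer_iff.mp hg d).mp hd, by group⟩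
      | one => simp [(closure {e : G | ∃ d ∈ P, e = d * d}).one_mem]
      | mul x y _ _ p q => simpa [mul_assoc] using mul_mem p q
      | inv x _ p => simpa [mul_assoc] using inv_mem p
  -- the same for the other side
  have hR2 : closure {e : G | ∃ d ∈ Q', e = d * d} = closure {e : G | ∃ d ∈ Q ⊓ Q', e = d * d} := by
    refine le_antisymm ((closure_le _).mpr ?_)
      (closure_mono fun e ⟨d, hd, he⟩ => ⟨d, hd.2, he⟩)
    rintro _ ⟨d, hd, rfl⟩
    rcases s.t_act hd.1 with e | e
    · exact subset_closure ⟨d, ⟨s.mem_q hd.1 (mul_inv_eq_iff_eq_mul.mp e), hd⟩, rfl⟩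
    refine subset_closure ⟨u * d, ⟨s.mem_q (T.mul_mem huQ'.1 hd.1) (mul_inv_eq_iff_eq_mul.mp ?_),
      Q'.mul_mem huQ' hd⟩, ?_⟩
    · have eu := (s.t_act huQ'.1).resolve_left fun h => hno (mul_inv_eq_iff_eq_mul.mp h).symm
      have hc : u * c * u⁻¹ = c := by rw [(s.tc huQ'.1).eq, mul_inv_cancel_right]
      calc u * d * o * (u * d)⁻¹ = u * (d * o * d⁻¹) * u⁻¹ := by group
        _ = u * o * u⁻¹ * (u * c * u⁻¹) := by rw [e, ho]; group
        _ = o := by rw [eu, hc, mul_assoc, om_sq s.cZ, mul_one]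
    · have h1 : Commute d u := s'.q_act hd u s'.oW
      calc d * d = d * (u * u) * d := by rw [s'.Wsq u s'.oW, mul_one]
        _ = d * u * (u * d) := by group
        _ = u * d * (u * d) := by rw [h1.eq]
  have hbot : R = ⊥ := by
    refine hnn R ((closure_le _).mpr fun _ ⟨d, hd, e⟩ => e ▸ T.mul_mem hd.1 hd.1)
      (s.q_normal.trans (hnormR Q)) (hnormR Q s.kQ) ?_
    rw [hR', ← hR2]
    exact hnormR Q' s'.kQ
  have hexp : ∀ q ∈ Q, q * q = 1 := fun q hq => mem_bot.mp (hbot.le (subset_closure ⟨q, hq, rfl⟩))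
  have habel : ∀ p ∈ Q, ∀ q ∈ Q, Commute p q := fun p hp q hq => by
    have h := hexp _ (Q.mul_mem hp hq)
    have := inv_eq_of_mul_eq_one_right h
    rw [mul_inv_rev, inv_eq_of_mul_eq_one_right (hexp p hp),
      inv_eq_of_mul_eq_one_right (hexp q hq)] at this
    exact this.symm
  -- `Q ∩ Q'` is `Ω₁Z(T)`
  have hD : Q ⊓ Q' = Cfsg.omegaCenterOf T := by
    refine le_antisymm (fun d hd => mem_om.mpr ⟨hd.1.1, fun t ht => ?_, ?_⟩) fun d hd => ?_
    · rcases s.q_cases ht with h | h
      · exact habel t h d hd.1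
      have hau := (s.q_cases huQ'.1).resolve_left huQ
      have hdu : Commute u d := (s'.q_act hd.2 u s'.oW).symm
      have hda : Commute a d := by
        have h1 := (habel _ hau d hd.1).mul_left hdu.inv_left
        rwa [mul_inv_cancel_right] at h1
      have h2 := hda.mul_left (habel _ h d hd.1)
      rwa [← mul_assoc, s.aa, one_mul] at h2
    · rw [pow_two]; exact hexp d hd.1
    · obtain ⟨hdT, hc, -⟩ := mem_om.mp hd
      exact ⟨⟨hdT, mem_centralizer_iff.mpr fun w hw => (hc w (s.WT hw)).eq⟩,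
        ⟨hdT, mem_centralizer_iff.mpr fun w hw => (hc w (s'.WT hw)).eq⟩⟩
  refine ⟨hexp, ?_, fun q hq => ?_⟩
  · refine le_antisymm ?_ ?_
    · rw [← hD]
      exact card_le_two_mul (a := o) fun q hq => (hsplit q hq).imp (fun h => ⟨hq, h⟩)
        fun h => ⟨Q.mul_mem hoQ hq, h⟩
    · rw [← hD]
      exact two_mul_card_le (lt_of_le_of_ne inf_le_left fun e => hoQ' (e.ge hoQ).2)
  · rcases hsplit q hq with h | h
    · exact mem_sup_right (hD.le ⟨hq, h⟩)
    · rw [show q = o * (o * q) by rw [← mul_assoc, s.Wsq o s.oW, one_mul]]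
      exact mul_mem (mem_sup_left s.oW) (mem_sup_right (hD.le ⟨Q.mul_mem hoQ hq, h⟩))

set_option maxHeartbeats 1000000 in
/-- The top is `S₄` or `S₄ × 2`. -/
theorem TopHyp.iso {M' : Subgroup G} {S' : Sylow 2 G} {L' K' : Subgroup G}
    (X' : TopHyp M' S' T L' K') (hne : L' ≠ L) :
    (Nat.card (zJ T) = 2 ∧ Nonempty (↥L ≃* Equiv.Perm (Fin 4))) ∨
    (Nat.card (zJ T) = 4 ∧ Nonempty (↥L ≃* Equiv.Perm (Fin 4) × Multiplicative (ZMod 2))) := by
  have Z := X.m.zn
  have hN := X.le_normalizer_two X' hne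
  have hN' := X'.le_normalizer_two X hne.symm
  have h4 := X.card_zJ_le_four X' rfl hne
  obtain ⟨k, a, c, s⟩ := X.side hN h4
  obtain ⟨k', a', c', s'⟩ := X'.side hN' h4
  obtain ⟨hexp, hcardQ, hQsup⟩ := X.kernel_structure X' hne s s'
  have hom := X.om_eq hN h4
  obtain ⟨hCP, hsyl, h6, -, -, -⟩ := X.pprops hN h4
  set Q := qOf T K with hQ
  set W := Cfsg.wOf K with hW
  set H := hC T K with hH
  set o := k * c * k⁻¹ with ho
  have hkH : ∀ e ∈ H, Commute k e := fun e he => mem_centralizer_iff.mp he.2 k s.kK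
  have hmemH : ∀ x ∈ Cfsg.omegaCenterOf T, Commute k x → x ∈ H := fun x hx hkx =>
    ⟨hom ▸ hx, mem_centralizer_iff.mpr fun y hy => by
      have hle : K ≤ centralizer ({x} : Set G) := s.gen.trans (sup_le
        (zpowers_le.mpr (mem_centralizer_singleton_iff.mpr hkx.eq))
        fun t ht => mem_centralizer_singleton_iff.mpr ((mem_om.mp hx).2.1 t ht).eq)
      exact mem_centralizer_singleton_iff.mp (hle hy)⟩
  have hHT : ∀ e ∈ H, ∀ t ∈ T, Commute t e := fun e he t ht => (mem_om.mp (hom.symm ▸ he.1)).2.1 t ht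
  have hHQ : H ≤ Q := fun e he => ⟨(mem_om.mp (hom.symm ▸ he.1)).1,
    mem_centralizer_iff.mpr fun w hw => (hHT e he w (s.WT hw)).eq⟩
  have hQWH : Q ≤ W ⊔ H := hQsup.trans (sup_le le_sup_left fun x hx => by
    rcases s.split x hx with h | h
    · exact mem_sup_right (hmemH x hx h)
    · rw [show x = x * c * c by rw [mul_assoc, om_sq s.cZ, mul_one]]
      exact mul_mem (mem_sup_right (hmemH _ (mul_mem hx s.cZ) h)) (mem_sup_left s.cW))
  have hWH : W ⊓ H = ⊥ := eq_bot_iff.mpr fun x hx => mem_bot.mpr (s.wfix x hx.1 (hkH x hx.2))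
  have hHW : H ≤ normalizer (W : Set G) := fun e he => s.TW ((hHQ he).1)
  have hQeq : Q = W ⊔ H := le_antisymm hQWH (sup_le s.W_le_q hHQ)
  have hcQ : Nat.card Q = 4 * Nat.card H := by
    rw [hQeq, card_sup_of_le_normalizer hHW hWH, hW, s.W4]
  -- the core of `⟨K, T⟩`
  set P := K ⊔ T with hP
  have hkP : k ∈ P := mem_sup_left s.kK
  have hPQ : P ≤ normalizer (Q : Set G) :=
    sup_le (s.gen.trans (sup_le (zpowers_le.mpr s.kQ) s.q_normal)) s.q_normal
  have hcore : Cfsg.pCoreOf 2 P = Q := by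
    refine le_antisymm (fun q hq => ?_)
      (le_pCoreOf (s.p.to_le inf_le_left) (inf_le_left.trans le_sup_right) hPQ)
    have hqT := pCoreOf_le_sylowTwoIn hsyl hq
    refine s.mem_q hqT ?_
    have hq' : k⁻¹ * q * k ∈ T := by
      have := (mem_normalizer_iff.mp (le_normalizer_pCoreOf P (P.inv_mem hkP)) q).mp hq
      rw [inv_inv] at this
      exact pCoreOf_le_sylowTwoIn hsyl this
    have := (s.tc hq').map (MulAut.conj k).toMonoidHom
    simpa [mul_assoc] using this
  have hcP : Nat.card P = 6 * Nat.card Q := by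
    rw [hcore] at h6
    have := relIndex_mul_relIndex ⊥ Q P bot_le ((inf_le_left).trans le_sup_right)
    rw [relIndex_bot_left, relIndex_bot_left, h6] at this
    omega
  -- the core of `L`
  have hPL : P ≤ L := sup_le X.kl X.lh.syl.1
  have hQL : Cfsg.pCoreOf 2 L = Q := by
    have h1 : Cfsg.pCoreOf 2 L ≤ Q := hcore ▸ le_pCoreOf (isPGroup_pCoreOf L)
      ((pCoreOf_le_sylowTwoIn X.lh.syl).trans le_sup_right)
      (hPL.trans (le_normalizer_pCoreOf L))
    refine le_antisymm h1 (le_trans (fun q hq => mem_centralizer_iff.mpr fun x hx => ?_) X.lh.cent)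
    have h := hexp _ (Q.mul_mem (h1 hx) hq)
    have := inv_eq_of_mul_eq_one_right h
    rw [mul_inv_rev, inv_eq_of_mul_eq_one_right (hexp x (h1 hx)),
      inv_eq_of_mul_eq_one_right (hexp q hq)] at this
    exact this.symm
  -- `W` is normal in `L`
  obtain ⟨a0, ha0, hKa⟩ := X.lh.exists_eq_comp Z X.jc X.kl
  have hWa : W = planeA L a0 := by rw [hW, hKa]; exact X.lh.wOf_comp Z ha0
  have hWmem : ∀ x ∈ Q, ∃ w ∈ W, ∃ e ∈ H, x = w * e := by
    intro x hx
    have hx' : x ∈ ((W ⊔ H : Subgroup G) : Set G) := hQWH hx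
    rw [sup_comm, Subgroup.coe_mul_of_left_le_normalizer_right H W hHW] at hx'
    obtain ⟨e, he, w, hw, rfl⟩ := hx'
    exact ⟨w, hw, e, he, (hHT e he w (s.WT hw)).eq.symm⟩
  have hH2 : Nat.card H ≤ 2 := by
    have hne' : H < zJ T := lt_of_le_of_ne inf_le_left fun e =>
      s.c1 (s.wfix c s.cW (hkH c (e.symm ▸ om_le_om_jay s.cZ)))
    have := two_mul_card_le hne'
    omega
  have hWL : L ≤ normalizer (W : Set G) := by
    intro l hl
    obtain ⟨b, hb, htv, hpl⟩ := X.lh.conj_adm Z hl ha0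
    have hb0 : planeA L b = planeA L a0 := by
      by_contra hne'
      have hcen := X.lh.comp_le_centralizer Z hb.tvL ha0.tvL (Ne.symm hne')
      have hle : planeA L b ≤ H := by
        intro x hx
        have hxV := planeA_le (X.lh.setup Z) hb.tvL hx
        have hxQ : x ∈ Q := hQL ▸ om_le _ hxV
        have hkx : Commute k x :=
          (mem_centralizer_iff.mp (hcen (hKa ▸ s.kK)) x hx).symm
        obtain ⟨w, hw, e, he, rfl⟩ := hWmem x hxQ
        have hkw : Commute k w := by
          have := hkx.mul_right (hkH e he).inv_right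
          rwa [mul_inv_cancel_right] at this
        rw [s.wfix w hw hkw, one_mul]; exact he
      have := card_le_of_le hle
      rw [card_planeA (X.lh.setup Z) hb.tvL] at this
      omega
    refine Thompson.mem_normalizer_of_map_conj ?_
    rw [← cj, hWa, ← planeA_conj (X.lh.setup Z) ha0.tvL hl, hpl, hb0]
  -- elements of `L` fixing `W` lie in `Q`
  have hker : L ⊓ centralizer (W : Set G) ≤ Q := by
    have hC2 : ∀ l ∈ L ⊓ centralizer (W : Set G), l * l ∈ Q := by
      rintro l ⟨hl, hlW⟩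
      rw [← hQL]
      refine X.lh.cent (mem_centralizer_iff.mpr fun x hx => ?_)
      rw [hQL] at hx
      refine (?_ : Commute (l * l) x).eq.symm
      obtain ⟨w, hw, e, he, rfl⟩ := hWmem x hx
      have hlw : ∀ w ∈ W, Commute l w := fun w hw => (mem_centralizer_iff.mp hlW w hw).symm
      refine ((hlw w hw).mul_left (hlw w hw)).mul_right ?_
      rcases eq_or_ne e 1 with rfl | he1
      · exact Commute.one_right _
      have hel : l * e * l⁻¹ ∈ Q := by
        have hn := le_normalizer_pCoreOf L hl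
        rw [hQL] at hn
        exact (mem_normalizer_iff.mp hn e).mp (hHQ he)
      obtain ⟨w', hw', e', he', hwe⟩ := hWmem _ hel
      have he'e : e' = e := by
        rcases two_cases hH2 he he1 e' he' with rfl | rfl
        · exfalso
          refine he1 (mem_bot.mp (hWH.le ⟨?_, he⟩))
          rw [mul_one] at hwe
          have : e = l⁻¹ * w' * l := by rw [← hwe]; group
          rwa [this, mul_assoc, ← (hlw w' hw').eq, inv_mul_cancel_left]
        · rfl
      rw [he'e] at hwe
      refine mul_inv_eq_iff_eq_mul.mp ?_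
      calc l * l * e * (l * l)⁻¹ = l * (l * e * l⁻¹) * l⁻¹ := by group
        _ = l * (w' * e) * l⁻¹ := by rw [hwe]
        _ = l * w' * l⁻¹ * (l * e * l⁻¹) := by group
        _ = e := by
            rw [(hlw w' hw').eq, mul_inv_cancel_right, hwe, ← mul_assoc, s.Wsq w' hw', one_mul]
    have h2 : IsPGroup 2 ↥(L ⊓ centralizer (W : Set G) : Subgroup G) := fun x =>
      ⟨2, Subtype.ext (by
        rw [coe_pow, coe_one, show (2 : ℕ) ^ 2 = 2 + 2 from rfl, pow_add, pow_two]
        exact hexp _ (hC2 x x.2))⟩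
    rw [← hQL]
    refine le_pCoreOf h2 inf_le_left fun g hg => H61.mem_normalizer_of_conj_mem fun x hx => ?_
    refine ⟨L.mul_mem (L.mul_mem hg hx.1) (L.inv_mem hg), mem_centralizer_iff.mpr fun w hw => ?_⟩
    have hw' : g⁻¹ * w * g ∈ W := by
      have := (mem_normalizer_iff.mp (hWL (L.inv_mem hg)) w).mp hw; rwa [inv_inv] at this
    have h1 : Commute (g⁻¹ * w * g) x := mem_centralizer_iff.mp hx.2 _ hw'
    have := h1.map (MulAut.conj g).toMonoidHom
    simpa [mul_assoc] using this.eq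
  -- `L = P`
  have hLP : L = P := by
    refine le_antisymm (fun l hl => ?_) hPL
    obtain ⟨κ, hκ, hκc⟩ : ∃ κ ∈ P, Commute (κ * l) c := by
      have hm : l * c * l⁻¹ ∈ W := (mem_normalizer_iff.mp (hWL hl) c).mp s.cW
      have hk2 : k⁻¹ * (k * c * k⁻¹) * k⁻¹⁻¹ = c := by group
      rcases s.cases _ hm with e | e | e | e
      · exact absurd (conj_eq_one_iff.mp e) s.c1
      · exact ⟨1, P.one_mem, by rw [one_mul]; exact mul_inv_eq_iff_eq_mul.mp e⟩
      · refine ⟨k⁻¹, P.inv_mem hkP, mul_inv_eq_iff_eq_mul.mp ?_⟩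
        calc k⁻¹ * l * c * (k⁻¹ * l)⁻¹ = k⁻¹ * (l * c * l⁻¹) * k := by group
          _ = c := by rw [e]; group
      · refine ⟨k, hkP, mul_inv_eq_iff_eq_mul.mp ?_⟩
        have hm2 : k * (k * c * k⁻¹) * k⁻¹ ∈ W := (mem_normalizer_iff.mp s.kW _).mp s.oW
        have e2 : k * (k * c * k⁻¹) * k⁻¹ = c * (k * c * k⁻¹) := by
          rcases s.cases _ hm2 with f | f | f | f
          · exact absurd (conj_eq_one_iff.mp f) s.o_ne_one
          · refine absurd ?_ s.o_ne_c
            have f' := congrArg (fun x => k * x * k⁻¹) f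
            try simp only at f'
            rw [show k * (k * (k * c * k⁻¹) * k⁻¹) * k⁻¹ = k * k * k * c * (k * k * k)⁻¹ by group,
              s.k3, one_mul, inv_one, mul_one] at f'
            exact f'
          · exact absurd (mul_left_cancel (mul_right_cancel f)).symm s.o_ne_c
          · exact f
        calc k * l * c * (k * l)⁻¹ = k * (l * c * l⁻¹) * k⁻¹ := by group
          _ = k * c * k⁻¹ * (k * (k * c * k⁻¹) * k⁻¹) := by rw [e]; group
          _ = k * c * k⁻¹ * (c * (k * c * k⁻¹)) := by rw [e2]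
          _ = c := by
              rw [← mul_assoc, (s.Wcomm _ s.oW _ s.cW).eq, mul_assoc, s.Wsq _ s.oW, mul_one]
    set l' := κ * l with hl'
    have hl'L : l' ∈ L := L.mul_mem (hPL hκ) hl
    have hfix : ∀ x, x ∈ L → Commute x c → Commute x o → x ∈ Q := fun x hx h1 h2 =>
      hker ⟨hx, mem_centralizer_iff.mpr fun w hw => by
        rcases s.cases w hw with f | f | f | f <;> rw [f]
        · simp
        · exact h1.eq.symm
        · exact h2.eq.symm
        · exact (h1.mul_right h2).eq.symm⟩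
    have hQP : Q ≤ P := inf_le_left.trans le_sup_right
    have haP : a ∈ P := mem_sup_right s.aT
    have hl'P : l' ∈ P := by
      have hm : l' * o * l'⁻¹ ∈ W := (mem_normalizer_iff.mp (hWL hl'L) o).mp s.oW
      rcases s.cases _ hm with e | e | e | e
      · exact absurd (conj_eq_one_iff.mp e) s.o_ne_one
      · refine absurd ?_ s.o_ne_c
        have : l' * o * l'⁻¹ = l' * c * l'⁻¹ := by rw [e, hκc.eq, mul_inv_cancel_right]
        exact (mul_left_cancel (mul_right_cancel this)).symm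
      · exact hQP (hfix l' hl'L hκc (mul_inv_eq_iff_eq_mul.mp e))
      · have hal : a * l' ∈ Q := by
          refine hfix _ (L.mul_mem (hPL haP) hl'L) ((s.tc s.aT).mul_left hκc)
            (mul_inv_eq_iff_eq_mul.mp ?_)
          have ea := (s.t_act s.aT).resolve_left fun h => s.amove (mul_inv_eq_iff_eq_mul.mp h)
          calc a * l' * o * (a * l')⁻¹ = a * (l' * o * l'⁻¹) * a⁻¹ := by group
            _ = a * c * a⁻¹ * (a * o * a⁻¹) := by rw [e, ho]; group
            _ = c * (o * c) := by rw [ea, (s.tc s.aT).eq, mul_inv_cancel_right]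
            _ = o := by
                rw [← mul_assoc, (s.Wcomm _ s.cW _ s.oW).eq, mul_assoc, s.Wsq c s.cW, mul_one]
        have := P.mul_mem haP (hQP hal)
        rwa [← mul_assoc, s.aa, one_mul] at this
    have := P.mul_mem (P.inv_mem hκ) hl'P
    rwa [hl', inv_mul_cancel_left] at this
  -- the complement
  set R := zpowers k ⊔ zpowers a with hRdef
  have hak : zpowers a ≤ normalizer (zpowers k : Set G) := zpowers_le.mpr <|
    H61.mem_normalizer_of_conj_mem fun y hy => by
      obtain ⟨n, rfl⟩ := mem_zpowers_iff.mp hy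
      rw [← conj_zpow, s.ainv, s.ak]
      exact zpow_mem (inv_mem (mem_zpowers k)) n
  have hk1 : k ≠ 1 := fun e => s.c1 (s.wfix c s.cW (e ▸ Commute.one_left c))
  have hkord : orderOf k = 3 := by
    haveI : Fact (Nat.Prime 3) := ⟨Nat.prime_three⟩
    exact orderOf_eq_prime (by rw [pow_three']; exact s.k3) hk1
  have ha1 : a ≠ 1 := fun e => s.amove (e ▸ Commute.one_left _)
  have haord : orderOf a = 2 := orderOf_eq_prime (by rw [pow_two]; exact s.aa) ha1
  have hkcase : ∀ y ∈ zpowers k, Commute y c → y = 1 := by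
    intro y hy hyc
    rcases zpow3_cases hkord hy with e | e | e
    · exact e
    · exact absurd (s.wfix c s.cW (e ▸ hyc)) s.c1
    · refine absurd (s.wfix c s.cW ?_) s.c1
      have h1 : Commute k⁻¹ c := by rw [s.k2]; exact e ▸ hyc
      simpa using h1.inv_left
  have hka : zpowers k ⊓ zpowers a = ⊥ := eq_bot_iff.mpr fun y hy => mem_bot.mpr
    (hkcase y hy.1 (by rcases zpow2_cases s.aa hy.2 with rfl | rfl
                       exacts [Commute.one_left c, s.tc s.aT]))
  have hRcard : Nat.card R = 6 := by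
    rw [hRdef, card_sup_of_le_normalizer hak hka, Nat.card_zpowers, Nat.card_zpowers, hkord, haord]
  have hRC : R ⊓ centralizer (W : Set G) = ⊥ := by
    refine eq_bot_iff.mpr ?_
    rintro y ⟨hy, hyW⟩
    replace hy : y ∈ ((zpowers k ⊔ zpowers a : Subgroup G) : Set G) := hy
    rw [sup_comm, Subgroup.coe_mul_of_left_le_normalizer_right _ _ hak] at hy
    obtain ⟨α, hα, κ, hκ, rfl⟩ := hy
    rw [mem_bot]
    show α * κ = 1
    have hαc : Commute α c := by
      rcases zpow2_cases s.aa hα with rfl | rfl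
      exacts [Commute.one_left c, s.tc s.aT]
    have hκc : Commute κ c := by
      have := hαc.inv_left.mul_left (mem_centralizer_iff.mp hyW c s.cW).symm
      rwa [inv_mul_cancel_left] at this
    rw [hkcase κ hκ hκc, mul_one]
    rcases zpow2_cases s.aa hα with e | e
    · exact e
    · refine absurd ?_ s.amove
      have := (mem_centralizer_iff.mp hyW o s.oW).symm
      simp only [hkcase κ hκ hκc, mul_one, e] at this
      exact this
  have hWR : W ⊓ R = ⊥ := eq_bot_iff.mpr fun y hy => hRC.le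
    ⟨hy.2, mem_centralizer_iff.mpr fun w hw => s.Wcomm w hw y hy.1⟩
  have hRW : R ≤ normalizer (W : Set G) :=
    sup_le (zpowers_le.mpr s.kW) (zpowers_le.mpr (s.TW s.aT))
  set P0 := W ⊔ R with hP0
  have hP0card : Nat.card P0 = 24 := by
    rw [hP0, card_sup_of_le_normalizer hRW hWR, hRcard, hW, s.W4]
  have hP0iso : Nonempty (↥P0 ≃* Equiv.Perm (Fin 4)) := by
    haveI := normal_subgroupOf_of_le_normalizer
      (sup_le le_normalizer hRW : P0 ≤ normalizer (W : Set G))
    refine perm_four_of hP0card (W.subgroupOf P0) (R.subgroupOf P0) ?_ ?_ ?_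
    · rw [Nat.card_congr (subgroupOfEquivOfLe le_sup_right).toEquiv, hRcard]
    · refine eq_bot_iff.mpr fun y hy => mem_bot.mpr (Subtype.ext ?_)
      exact mem_bot.mp (hWR.le ⟨hy.1, hy.2⟩)
    · refine eq_bot_iff.mpr fun y hy => mem_bot.mpr (Subtype.ext ?_)
      exact mem_bot.mp (hRC.le ⟨hy.1, mem_centralizer_iff.mpr fun w hw =>
        congrArg Subtype.val (mem_centralizer_iff.mp hy.2 ⟨w, mem_sup_left hw⟩ hw)⟩)
  have hP0P : P0 ≤ P := sup_le (s.WT.trans le_sup_right)
    (sup_le (zpowers_le.mpr hkP) (zpowers_le.mpr (mem_sup_right s.aT)))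
  have hHP : ∀ e ∈ H, ∀ x ∈ P, Commute x e := fun e he x hx => by
    have hle : P ≤ centralizer ({e} : Set G) := sup_le
      (fun y hy => mem_centralizer_singleton_iff.mpr (mem_centralizer_iff.mp he.2 y hy))
      fun t ht => mem_centralizer_singleton_iff.mpr (hHT e he t ht).eq
    exact mem_centralizer_singleton_iff.mp (hle hx)
  have hHP0 : P0 ⊓ H = ⊥ := by
    refine eq_bot_iff.mpr ?_
    rintro y ⟨hy, hyH⟩
    have hy' : y ∈ ((W ⊔ R : Subgroup G) : Set G) := hy
    rw [sup_comm, Subgroup.coe_mul_of_left_le_normalizer_right R W hRW] at hy'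
    obtain ⟨r, hr, w, hw, rfl⟩ := hy'
    have hrW : r ∈ centralizer (W : Set G) := by
      have h1 : r * w ∈ centralizer (W : Set G) := (hHQ hyH).2
      have h2 : w ∈ centralizer (W : Set G) := (s.W_le_q hw).2
      have := mul_mem h1 (inv_mem h2)
      rwa [mul_inv_cancel_right] at this
    have hr1 : r = 1 := mem_bot.mp (hRC.le ⟨hr, hrW⟩)
    subst hr1
    simp only [one_mul] at hyH ⊢
    exact hWH.le ⟨hw, hyH⟩
  have hHP' : H ≤ P := fun e he => mem_sup_right (hHQ he).1
  let f : ↥P0 × ↥H →* ↥P := MonoidHom.noncommCoprod (Subgroup.inclusion hP0P)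
    (Subgroup.inclusion hHP') fun x e => Subtype.ext (hHP e e.2 x (hP0P x.2))
  have hinj : Function.Injective f := by
    rw [injective_iff_map_eq_one]
    rintro ⟨x, e⟩ he
    have he' : (x : G) * (e : G) = 1 := congrArg Subtype.val he
    have hx : (x : G) ∈ P0 ⊓ H :=
      ⟨x.2, by rw [eq_inv_of_mul_eq_one_left he']; exact H.inv_mem e.2⟩
    have hx1 : (x : G) = 1 := mem_bot.mp (hHP0.le hx)
    rw [hx1, one_mul] at he'
    exact Prod.ext (Subtype.ext hx1) (Subtype.ext he')
  have hcard : Nat.card (↥P0 × ↥H) = Nat.card ↥P := by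
    rw [Nat.card_prod, hP0card, hcP, hcQ]; ring
  have e0 : ↥P ≃* ↥P0 × ↥H := (MulEquiv.ofBijective f
    ((Nat.bijective_iff_injective_and_card f).mpr ⟨hinj, hcard⟩)).symm
  obtain ⟨e1⟩ := hP0iso
  have hcz : Nat.card (zJ T) = 2 * Nat.card H := by
    have h1 := hcardQ
    rw [hcQ, hom] at h1
    omega
  have hHpos : 0 < Nat.card H := Nat.card_pos
  rw [hLP]
  rcases (by omega : Nat.card H = 1 ∨ Nat.card H = 2) with h | h
  · haveI : Subsingleton ↥H := (Nat.card_eq_one_iff_unique.mp h).1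
    refine .inl ⟨by omega, ⟨e0.trans (MulEquiv.trans ?_ e1)⟩⟩
    exact
      { toFun := Prod.fst
        invFun := fun x => (x, 1)
        left_inv := fun x => Prod.ext rfl (Subsingleton.elim _ _)
        right_inv := fun _ => rfl
        map_mul' := fun _ _ => rfl }
  · refine .inr ⟨by omega, ⟨e0.trans (MulEquiv.prodCongr e1 ?_)⟩⟩
    haveI : Fact (Nat.Prime 2) := ⟨Nat.prime_two⟩
    exact mulEquivOfPrimeCardEq h (by rw [Nat.card_congr Multiplicative.toAdd, Nat.card_zmod])

end

end Cfsg.Agent.H85.ZN
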