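import Cfsg.Prelude.Def_JComponents
import Cfsg.Agent.Thompson.Jay
import Cfsg.Agent.H61.Basic
import Cfsg.Agent.H61.CharP
import Mathlib.GroupTheory.Sylow

/-!
Generalities for the local analysis of ZN-groups: `Ω₁Z`, Sylow 2-subgroups of subgroups, sizes of
largest elementary abelian subgroups.
-/

set_option autoImplicit false
set_option linter.style.haveILetI false
set_option linter.unusedSectionVars false

namespace Cfsg.Agent.H85.ZN

open Subgroup Cfsg.Agent.Thompson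

variable {G : Type*} [Group G]

/-- The standing hypotheses on a ZN-group of characteristic 2 type. -/
structure ZHyp (G : Type*) [Group G] : Prop where
  char2 : Cfsg.IsCharacteristicTwoType G
  solv : ∀ N : Subgroup G, Cfsg.IsTwoLocal N → Group.IsSolvable ↥N
  zc : ∀ S : Sylow 2 G,
    Subgroup.centralizer (Cfsg.omegaCenterOf (S : Subgroup G) : Set G) ≤
      Subgroup.normalizer ((S : Subgroup G) : Set G)

/-- Conjugate of a subgroup. -/
abbrev cj (g : G) (H : Subgroup G) : Subgroup G := H.map (MulAut.conj g).toMonoidHom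

theorem mem_cj {g y : G} {H : Subgroup G} : y ∈ cj g H ↔ g⁻¹ * y * g ∈ H := by
  rw [cj, mem_map_equiv, MulAut.conj_symm_apply]

theorem conj_mem_cj {g y : G} {H : Subgroup G} (h : y ∈ H) : g * y * g⁻¹ ∈ cj g H := ⟨y, h, rfl⟩

theorem cj_mul (a b : G) (H : Subgroup G) : cj (a * b) H = cj a (cj b H) := by
  ext y; simp only [mem_cj, mul_inv_rev, mul_assoc]

theorem cj_one (H : Subgroup G) : cj 1 H = H := by ext y; simp [mem_cj]

theorem cj_inv_cj (g : G) (H : Subgroup G) : cj g⁻¹ (cj g H) = H := by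
  rw [← cj_mul, inv_mul_cancel, cj_one]

theorem cj_cj_inv (g : G) (H : Subgroup G) : cj g (cj g⁻¹ H) = H := by
  rw [← cj_mul, mul_inv_cancel, cj_one]

theorem cj_le_cj {g : G} {H K : Subgroup G} (h : H ≤ K) : cj g H ≤ cj g K := map_mono h

theorem cj_of_mem_normalizer {g : G} {H : Subgroup G} (h : g ∈ normalizer (H : Set G)) :
    cj g H = H := map_conj_of_mem_normalizer h

theorem cj_le_of_mem {g : G} {H L : Subgroup G} (hg : g ∈ L) (h : H ≤ L) : cj g H ≤ L := by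
  intro y hy
  have := h (mem_cj.mp hy)
  simpa [mul_assoc] using L.mul_mem (L.mul_mem hg this) (L.inv_mem hg)

theorem card_cj (g : G) (H : Subgroup G) : Nat.card (cj g H) = Nat.card H :=
  card_map_of_injective (MulAut.conj g).injective

theorem isPGroup_cj {g : G} {H : Subgroup G} (h : IsPGroup 2 H) : IsPGroup 2 (cj g H) := h.map _

theorem jay_cj (g : G) (P : Subgroup G) : jay 2 (cj g P) = cj g (jay 2 P) :=
  jay_map _ (MulAut.conj g).injective

theorem centralizer_cj (g : G) (H : Subgroup G) :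
    cj g (centralizer (H : Set G)) = centralizer ((cj g H : Subgroup G) : Set G) := by
  ext y
  rw [mem_cj, mem_centralizer_iff, mem_centralizer_iff]
  constructor
  · rintro h _ ⟨x, hx, rfl⟩
    show g * x * g⁻¹ * y = y * (g * x * g⁻¹)
    calc g * x * g⁻¹ * y = g * (x * (g⁻¹ * y * g)) * g⁻¹ := by group
      _ = g * ((g⁻¹ * y * g) * x) * g⁻¹ := by rw [h x hx]
      _ = y * (g * x * g⁻¹) := by group
  · intro h x hx
    have := h (g * x * g⁻¹) (conj_mem_cj hx)
    calc x * (g⁻¹ * y * g) = g⁻¹ * (g * x * g⁻¹ * y) * g := by group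
      _ = g⁻¹ * (y * (g * x * g⁻¹)) * g := by rw [this]
      _ = g⁻¹ * y * g * x := by group

/-! ### `Ω₁Z` -/

theorem mem_om {Y : Subgroup G} {y : G} :
    y ∈ Cfsg.omegaCenterOf Y ↔ y ∈ Y ∧ (∀ a ∈ Y, Commute a y) ∧ y ^ 2 = 1 := by
  refine ⟨fun hy => ?_, fun h => subset_closure ⟨⟨h.1, fun a ha => h.2.1 a ha⟩, h.2.2⟩⟩
  induction hy using closure_induction with
  | mem y hy => exact ⟨hy.1.1, fun a ha => hy.1.2 a ha, hy.2⟩
  | one => exact ⟨one_mem _, fun a _ => Commute.one_right a, one_pow 2⟩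
  | mul a b _ _ ha hb =>
    exact ⟨Y.mul_mem ha.1 hb.1, fun t ht => (ha.2.1 t ht).mul_right (hb.2.1 t ht),
      by rw [(show Commute a b from hb.2.1 a ha.1).mul_pow, ha.2.2, hb.2.2, one_mul]⟩
  | inv a _ ha =>
    exact ⟨Y.inv_mem ha.1, fun t ht => (ha.2.1 t ht).inv_right, by rw [inv_pow, ha.2.2, inv_one]⟩

theorem om_le (Y : Subgroup G) : Cfsg.omegaCenterOf Y ≤ Y := fun _ h => (mem_om.mp h).1

theorem om_comm {Y : Subgroup G} {a b : G} (ha : a ∈ Cfsg.omegaCenterOf Y)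
    (hb : b ∈ Cfsg.omegaCenterOf Y) : Commute a b :=
  (mem_om.mp hb).2.1 a (om_le Y ha)

theorem om_sq {Y : Subgroup G} {a : G} (ha : a ∈ Cfsg.omegaCenterOf Y) : a * a = 1 := by
  rw [← pow_two]; exact (mem_om.mp ha).2.2

theorem isAbExp_om (Y : Subgroup G) : IsAbExp 2 (Cfsg.omegaCenterOf Y) :=
  ⟨isMulCommutative_iff_forall.mpr fun _ ha _ hb => om_comm ha hb, fun _ ha => (mem_om.mp ha).2.2⟩

theorem cj_om (g : G) (Y : Subgroup G) :
    cj g (Cfsg.omegaCenterOf Y) = Cfsg.omegaCenterOf (cj g Y) := by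
  ext y
  rw [mem_cj, mem_om, mem_om, mem_cj]
  refine and_congr_right fun _ => and_congr ⟨fun h => ?_, fun h a ha => ?_⟩ ?_
  · rintro _ ⟨a, ha, rfl⟩
    have := (h a ha).map (MulAut.conj g).toMonoidHom
    simpa [mul_assoc] using this
  · have := (h _ (conj_mem_cj (g := g) ha)).map (MulAut.conj g⁻¹).toMonoidHom
    simpa [mul_assoc] using this
  · rw [show g⁻¹ * y * g = g⁻¹ * y * (g⁻¹)⁻¹ by rw [inv_inv], conj_pow, conj_eq_one_iff]

instance omegaCenterCommGroup (Y : Subgroup G) : CommGroup ↥(Cfsg.omegaCenterOf Y) :=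
  { (inferInstance : Group ↥(Cfsg.omegaCenterOf Y)) with
    mul_comm := fun a b => Subtype.ext (om_comm a.2 b.2) }

/-- A normalizer of `Y` normalizes `Ω₁Z(Y)`. -/
theorem normalizer_le_normalizer_om [Finite G] (Y : Subgroup G) :
    normalizer (Y : Set G) ≤ normalizer (Cfsg.omegaCenterOf Y : Set G) := fun g hg =>
  mem_normalizer_of_map_conj (by rw [← cj, cj_om, cj_of_mem_normalizer hg])

/-- A nontrivial finite 2-group has a nontrivial `Ω₁Z`. -/
theorem om_ne_bot [Finite G] {Y : Subgroup G} (hY : IsPGroup 2 Y) (hne : Y ≠ ⊥) :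
    Cfsg.omegaCenterOf Y ≠ ⊥ := by
  haveI : Fact (Nat.Prime 2) := ⟨Nat.prime_two⟩
  haveI : Nontrivial Y := (nontrivial_iff_ne_bot Y).mpr hne
  haveI := hY.center_nontrivial
  obtain ⟨n, hn0, hn⟩ := (hY.to_subgroup (center Y)).nontrivial_iff_card.mp inferInstance
  obtain ⟨z, hz⟩ := exists_prime_orderOf_dvd_card' 2 (hn ▸ dvd_pow_self 2 (ne_of_gt hn0))
  intro hbot
  have hzm : ((z : Y) : G) ∈ Cfsg.omegaCenterOf Y := mem_om.mpr ⟨(z : Y).2, fun a ha =>
    congrArg Subtype.val (mem_center_iff.mp z.2 ⟨a, ha⟩), by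
      rw [← hz]
      exact congrArg (fun x : center Y => ((x : Y) : G)) (pow_orderOf_eq_one z)⟩
  rw [hbot, mem_bot] at hzm
  have : z = 1 := Subtype.ext (Subtype.ext hzm)
  rw [this, orderOf_one] at hz
  omega

/-! ### largest elementary abelian subgroups -/

/-- The order of a largest elementary abelian 2-subgroup of `P`. -/
theorem maxElemAbelianOrder_eq [Finite G] {P A : Subgroup G} (hA : A ∈ maxIn 2 P) :
    Cfsg.maxElemAbelianOrder P = Nat.card A := by
  have hP : (⊤ : Subgroup P).map P.subtype = P := by rw [← MonoidHom.range_eq_map, range_subtype]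
  have himg : (fun B : Subgroup P => Nat.card B) '' Cfsg.maxElementaryAbelianSubgroups 2 P =
      {Nat.card A} := by
    ext n
    constructor
    · rintro ⟨B, hB, rfl⟩
      rw [← maxIn_prime_top] at hB
      have : B.map P.subtype ∈ maxIn 2 P := by
        have h := maxIn_map (e := 2) (P := (⊤ : Subgroup P)) P.subtype P.subtype_injective
        rw [hP] at h
        rw [h]; exact ⟨B, hB, rfl⟩
      show Nat.card B = Nat.card A
      rw [← card_eq_of_mem_maxIn this hA, card_map_of_injective P.subtype_injective]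
    · rintro rfl
      have h := maxIn_map (e := 2) (P := (⊤ : Subgroup P)) P.subtype P.subtype_injective
      rw [hP] at h
      rw [h] at hA
      obtain ⟨B, hB, rfl⟩ := hA
      refine ⟨B, ?_, (card_map_of_injective P.subtype_injective).symm⟩
      rw [← maxIn_prime_top]; exact hB
  rw [Cfsg.maxElemAbelianOrder, himg, csSup_singleton]

theorem maxElemAbelianOrder_mono [Finite G] {P R : Subgroup G} (h : jay 2 P ≤ R) :
    Cfsg.maxElemAbelianOrder P ≤ Cfsg.maxElemAbelianOrder R := by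
  obtain ⟨A, hA⟩ := maxIn_nonempty 2 P
  obtain ⟨B, hB⟩ := maxIn_nonempty 2 R
  rw [maxElemAbelianOrder_eq hA, maxElemAbelianOrder_eq hB]
  exact hB.2.2 A ((le_jay hA).trans h) hA.2.1

theorem jay_le_jay [Finite G] {P R : Subgroup G} (h : jay 2 P ≤ R)
    (he : Cfsg.maxElemAbelianOrder R ≤ Cfsg.maxElemAbelianOrder P) : jay 2 P ≤ jay 2 R := by
  refine sSup_le fun A hA => le_jay ?_
  obtain ⟨B, hB⟩ := maxIn_nonempty 2 R
  refine mem_maxIn_of_card_eq hB ((le_jay hA).trans h) hA.2.1 ?_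
  refine le_antisymm (hB.2.2 A ((le_jay hA).trans h) hA.2.1) ?_
  rwa [maxElemAbelianOrder_eq hA, maxElemAbelianOrder_eq hB] at he

theorem maxElemAbelianOrder_cj [Finite G] (g : G) (P : Subgroup G) :
    Cfsg.maxElemAbelianOrder (cj g P) = Cfsg.maxElemAbelianOrder P := by
  obtain ⟨A, hA⟩ := maxIn_nonempty 2 P
  have hA' : cj g A ∈ maxIn 2 (cj g P) := by
    rw [cj, maxIn_map _ (MulAut.conj g).injective]; exact ⟨A, hA, rfl⟩
  rw [maxElemAbelianOrder_eq hA', maxElemAbelianOrder_eq hA, card_cj]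

theorem tJ_eq (P : Subgroup G) : Cfsg.thompsonSubgroupOf 2 P = jay 2 P := thompsonSubgroupOf_eq 2 P

theorem jay_ne_bot [Finite G] {P : Subgroup G} (hP : IsPGroup 2 P) (hne : P ≠ ⊥) : jay 2 P ≠ ⊥ := by
  intro hbot
  obtain ⟨A, hA⟩ := maxIn_nonempty 2 P
  have h1 := hA.2.2 _ (om_le P) (isAbExp_om P)
  have hA0 : A = ⊥ := le_bot_iff.mp (by rw [← hbot]; exact le_jay hA)
  rw [hA0, card_bot] at h1
  exact om_ne_bot hP hne (eq_bot_of_card_le _ h1)

/-- An element of `P` centralising a largest elementary abelian subgroup with square one lies in it. -/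
theorem mem_of_commute [Finite G] {P A : Subgroup G} (hA : A ∈ maxIn 2 P) {x : G} (hx : x ∈ P)
    (hx2 : x ^ 2 = 1) (hc : ∀ a ∈ A, Commute a x) : x ∈ A := by
  by_contra hne
  have hle : A ≤ A ⊔ zpowers x := le_sup_left
  have hab : IsAbExp 2 (A ⊔ zpowers x) :=
    isAbExp_sup_zpowers hA.2.1 (fun a ha => (hc a ha).eq) hx2
  have heq := Subgroup.eq_of_le_of_card_ge hle
    (hA.2.2 _ (sup_le hA.1 (zpowers_le.mpr hx)) hab)
  exact hne (heq ▸ mem_sup_right (mem_zpowers x))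

theorem om_le_jay [Finite G] {P : Subgroup G} : Cfsg.omegaCenterOf P ≤ jay 2 P := fun x hx => by
  obtain ⟨A, hA⟩ := maxIn_nonempty 2 P
  obtain ⟨hxP, hc, h2⟩ := mem_om.mp hx
  exact le_jay hA (mem_of_commute hA hxP h2 fun a ha => hc a (hA.1 ha))

theorem om_le_om_jay [Finite G] {P : Subgroup G} :
    Cfsg.omegaCenterOf P ≤ Cfsg.omegaCenterOf (jay 2 P) := fun x hx =>
  mem_om.mpr ⟨om_le_jay hx, fun a ha => (mem_om.mp hx).2.1 a (jay_le ha), (mem_om.mp hx).2.2⟩

/-! ### Sylow 2-subgroups of subgroups -/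

theorem isSylowTwoIn_map [Finite G] {L : Subgroup G} (P : Sylow 2 L) :
    Cfsg.IsSylowTwoIn ((P : Subgroup L).map L.subtype) L := by
  haveI : Fact (Nat.Prime 2) := ⟨Nat.prime_two⟩
  refine ⟨map_subtype_le _, P.isPGroup'.map _, ?_⟩
  rw [relIndex, subgroupOf, comap_map_eq_self_of_injective L.subtype_injective,
    ← Nat.not_even_iff_odd, even_iff_two_dvd]
  exact P.not_dvd_index

theorem exists_sylowTwoIn [Finite G] {L R : Subgroup G} (hR : IsPGroup 2 R) (hRL : R ≤ L) :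
    ∃ T : Subgroup G, Cfsg.IsSylowTwoIn T L ∧ R ≤ T := by
  obtain ⟨P, hP⟩ := (hR.comap_of_injective L.subtype L.subtype_injective).exists_le_sylow
  exact ⟨_, isSylowTwoIn_map P, fun x hx => ⟨⟨x, hRL hx⟩, hP hx, rfl⟩⟩

theorem sylowTwoIn_conj [Finite G] {L T R : Subgroup G} (hT : Cfsg.IsSylowTwoIn T L)
    (hR : IsPGroup 2 R) (hRL : R ≤ L) : ∃ l ∈ L, R ≤ cj l T := by
  haveI : Fact (Nat.Prime 2) := ⟨Nat.prime_two⟩
  obtain ⟨hTL, hT2, hodd⟩ := hT
  obtain ⟨P, hP⟩ := (hR.comap_of_injective L.subtype L.subtype_injective).exists_le_sylow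
  obtain ⟨P0, hP0⟩ := (hT2.comap_of_injective L.subtype L.subtype_injective).exists_le_sylow
  have heq : T.subgroupOf L = P0 := by
    refine le_antisymm hP0 (relIndex_eq_one.mp ?_)
    have h1 := relIndex_mul_index (hP0 : T.subgroupOf L ≤ P0)
    have h2 : Odd ((T.subgroupOf L).relIndex P0) :=
      Odd.of_dvd_nat hodd ⟨_, h1.symm⟩
    obtain ⟨k, hk⟩ := P0.isPGroup'.index ((T.subgroupOf L).subgroupOf P0)
    rw [relIndex, hk] at h2 ⊢
    rcases k with _ | k
    · rfl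
    · rw [Nat.odd_pow_iff (by omega)] at h2; exact absurd h2 (by decide)
  obtain ⟨l, hl⟩ := MulAction.exists_smul_eq L P0 P
  refine ⟨l, l.2, fun x hx => ?_⟩
  have hx' : (⟨x, hRL hx⟩ : L) ∈ (P : Subgroup L) := hP hx
  rw [← hl, Sylow.coe_subgroup_smul] at hx'
  obtain ⟨y, hy, hyx⟩ := hx'
  rw [← heq] at hy
  exact ⟨(y : G), hy, congrArg Subtype.val hyx⟩

theorem sylowTwoIn_card_eq [Finite G] {L T R : Subgroup G} (hT : Cfsg.IsSylowTwoIn T L)
    (hR : Cfsg.IsSylowTwoIn R L) : ∃ l ∈ L, R = cj l T := by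
  obtain ⟨l, hl, hle⟩ := sylowTwoIn_conj hT hR.2.1 hR.1
  obtain ⟨m, hm, hle'⟩ := sylowTwoIn_conj hR hT.2.1 hT.1
  exact ⟨l, hl, eq_of_le_of_card_ge hle (by
    rw [card_cj]; exact (card_le_of_le hle').trans (card_cj m R).le)⟩

theorem sylowTwoIn_eq_of_le [Finite G] {L T R : Subgroup G} (hT : Cfsg.IsSylowTwoIn T L)
    (hR : IsPGroup 2 R) (hRL : R ≤ L) (h : T ≤ R) : R = T := by
  obtain ⟨l, -, hle⟩ := sylowTwoIn_conj hT hR hRL
  exact (eq_of_le_of_card_ge h ((card_le_of_le hle).trans (card_cj l T).le)).symm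

theorem sylowTwoIn_cj [Finite G] {L T : Subgroup G} (hT : Cfsg.IsSylowTwoIn T L) (g : G) :
    Cfsg.IsSylowTwoIn (cj g T) (cj g L) := by
  refine ⟨cj_le_cj hT.1, hT.2.1.map _, ?_⟩
  rw [relIndex_map_map_of_injective _ _ (MulAut.conj g).injective]
  exact hT.2.2

/-- A 2-subgroup normalised by a Sylow 2-subgroup of `L`, inside `L`, lies in it. -/
theorem le_sylowTwoIn [Finite G] {L T R : Subgroup G} (hT : Cfsg.IsSylowTwoIn T L)
    (hR : IsPGroup 2 R) (hRL : R ≤ L) (h : T ≤ normalizer (R : Set G)) : R ≤ T := by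
  haveI : Fact (Nat.Prime 2) := ⟨Nat.prime_two⟩
  rw [← sylowTwoIn_eq_of_le hT (hT.2.1.to_sup_of_normal_right' hR h) (sup_le hT.1 hRL) le_sup_left]
  exact le_sup_right

/-! ### 2-cores -/

theorem pCoreOf_le (p : ℕ) (L : Subgroup G) : Cfsg.pCoreOf p L ≤ L := map_subtype_le _

theorem isPGroup_pCoreOf (L : Subgroup G) : IsPGroup 2 (Cfsg.pCoreOf 2 L) :=
  (H61.isPGroup_pCore (G := L)).map _

theorem le_normalizer_pCoreOf (L : Subgroup G) :
    L ≤ normalizer (Cfsg.pCoreOf 2 L : Set G) := by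
  intro l hl
  rw [mem_normalizer_iff]
  intro x
  haveI := Cfsg.pCore_normal 2 L
  constructor
  · rintro ⟨y, hy, rfl⟩
    exact ⟨⟨l, hl⟩ * y * ⟨l, hl⟩⁻¹, (Cfsg.pCore_normal 2 L).conj_mem y hy _, rfl⟩
  · rintro ⟨y, hy, e⟩
    refine ⟨⟨l, hl⟩⁻¹ * y * ⟨l, hl⟩, by simpa using (Cfsg.pCore_normal 2 L).conj_mem y hy ⟨l, hl⟩⁻¹, ?_⟩
    rw [map_mul, map_mul, e]
    simp [mul_assoc]

theorem le_pCoreOf {L R : Subgroup G} (hR : IsPGroup 2 R) (hRL : R ≤ L)
    (h : L ≤ normalizer (R : Set G)) : R ≤ Cfsg.pCoreOf 2 L := by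
  haveI := normal_subgroupOf_of_le_normalizer h
  have := H61.le_pCore (G := L) (N := R.subgroupOf L) inferInstance
    (hR.comap_of_injective L.subtype L.subtype_injective)
  exact fun x hx => ⟨⟨x, hRL hx⟩, this hx, rfl⟩

theorem pCoreOf_le_sylowTwoIn [Finite G] {L T : Subgroup G} (hT : Cfsg.IsSylowTwoIn T L) :
    Cfsg.pCoreOf 2 L ≤ T :=
  le_sylowTwoIn hT (isPGroup_pCoreOf L) (pCoreOf_le 2 L) (hT.1.trans (le_normalizer_pCoreOf L))

theorem pCoreOf_cj [Finite G] (g : G) (L : Subgroup G) :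
    Cfsg.pCoreOf 2 (cj g L) = cj g (Cfsg.pCoreOf 2 L) := by
  have key : ∀ (g : G) (L : Subgroup G), cj g (Cfsg.pCoreOf 2 L) ≤ Cfsg.pCoreOf 2 (cj g L) :=
    fun g L => le_pCoreOf (isPGroup_cj (isPGroup_pCoreOf L)) (cj_le_cj (pCoreOf_le 2 L)) (by
      intro x hx
      refine H61.mem_normalizer_of_conj_mem fun y hy => ?_
      rw [mem_cj] at hx hy ⊢
      have := (mem_normalizer_iff.mp (le_normalizer_pCoreOf L hx) _).mp hy
      simpa [mul_assoc] using this)
  refine le_antisymm ?_ (key g L)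
  have := key g⁻¹ (cj g L)
  rw [cj_inv_cj] at this
  simpa [cj_cj_inv] using cj_le_cj (g := g) this

end Cfsg.Agent.H85.ZN
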