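import Cfsg.Agent.H85.ZN.Basic
import Mathlib.GroupTheory.IsSubnormal

/-!
Subgroups generated by elements of odd order, and three lemmas on subnormal subgroups.
-/

set_option autoImplicit false
set_option linter.style.haveILetI false
set_option linter.unusedSectionVars false

namespace Cfsg.Agent.H85.ZN

open Subgroup

variable {G : Type*} [Group G] [Finite G]

/-- The subgroup generated by the elements of odd order of `K`. -/
def oddCl (K : Subgroup G) : Subgroup G := closure {g | g ∈ K ∧ Odd (orderOf g)}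

theorem oddCl_le (K : Subgroup G) : oddCl K ≤ K := (closure_le _).mpr fun _ h => h.1

theorem mem_oddCl {K : Subgroup G} {x : G} (hx : x ∈ K) (ho : Odd (orderOf x)) : x ∈ oddCl K :=
  subset_closure ⟨hx, ho⟩

theorem orderOf_cj (g x : G) : orderOf (g * x * g⁻¹) = orderOf x := by
  rw [← MulAut.conj_apply, MulEquiv.orderOf_eq]

theorem cj_oddCl_le (g : G) (K : Subgroup G) : cj g (oddCl K) ≤ oddCl (cj g K) := by
  rw [cj, oddCl, MonoidHom.map_closure, closure_le]
  rintro _ ⟨x, ⟨hx, ho⟩, rfl⟩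
  refine mem_oddCl ⟨x, hx, rfl⟩ ?_
  show Odd (orderOf (g * x * g⁻¹))
  rwa [orderOf_cj]

theorem cj_oddCl (g : G) (K : Subgroup G) : cj g (oddCl K) = oddCl (cj g K) := by
  refine le_antisymm (cj_oddCl_le g K) ?_
  have h := cj_le_cj (g := g) (cj_oddCl_le g⁻¹ (cj g K))
  rwa [cj_inv_cj, cj_cj_inv] at h

theorem normalizer_le_normalizer_oddCl (K : Subgroup G) :
    normalizer (K : Set G) ≤ normalizer (oddCl K : Set G) := fun g hg =>
  Thompson.mem_normalizer_of_map_conj (by rw [← cj, cj_oddCl, cj_of_mem_normalizer hg])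

theorem eq_one_of_odd_two {H : Type*} [Group H] {x : H} (ho : Odd (orderOf x)) {k : ℕ}
    (hk : x ^ 2 ^ k = 1) : x = 1 :=
  orderOf_eq_one_iff.mp (Nat.eq_one_of_dvd_coprimes
    (Nat.Coprime.pow_right k (Nat.coprime_two_right.mpr ho)) dvd_rfl (orderOf_dvd_of_pow_eq_one hk))

/-- An element of odd order lies in every subnormal subgroup of 2-power index. -/
theorem mem_of_isSubnormal_two_index {Y : Type*} [Group Y] {K : Subgroup Y}
    (hK : K.IsSubnormal) {n : ℕ} (hn : K.index = 2 ^ n) {x : Y} (hx : Odd (orderOf x)) :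
    x ∈ K := by
  induction hK generalizing n with
  | top => exact mem_top x
  | step H K hle hsn hN ih =>
    have hmul := relIndex_mul_index hle
    rw [hn] at hmul
    obtain ⟨i, -, hi⟩ := (Nat.dvd_prime_pow Nat.prime_two).mp ⟨_, hmul.symm.trans (mul_comm _ _)⟩
    obtain ⟨j, -, hj⟩ := (Nat.dvd_prime_pow Nat.prime_two).mp ⟨_, hmul.symm⟩
    have hxK : x ∈ K := ih hi
    haveI := hN
    have h1 : ((⟨x, hxK⟩ : K) : K ⧸ H.subgroupOf K) = 1 := by
      refine eq_one_of_odd_two (k := j) ?_ ?_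
      · refine Odd.of_dvd_nat hx ?_
        have := orderOf_map_dvd (QuotientGroup.mk' (H.subgroupOf K)) (⟨x, hxK⟩ : K)
        rwa [Subgroup.orderOf_mk] at this
      · rw [← hj, relIndex, index_eq_card]
        exact pow_card_eq_one'
    exact mem_subgroupOf.mp ((QuotientGroup.eq_one_iff _).mp h1)

/-- A subnormal subgroup of 2-power index generated by elements of odd order is the subgroup
generated by all elements of odd order. -/
theorem eq_oddCl {K Y : Subgroup G} (hle : K ≤ Y) (hsn : (K.subgroupOf Y).IsSubnormal) {n : ℕ}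
    (hn : K.relIndex Y = 2 ^ n) (hK : oddCl K = K) : K = oddCl Y := by
  refine le_antisymm ?_ ((closure_le _).mpr ?_)
  · conv_lhs => rw [← hK]
    exact closure_mono fun x hx => ⟨hle hx.1, hx.2⟩
  · rintro x ⟨hx, ho⟩
    exact mem_subgroupOf.mp (mem_of_isSubnormal_two_index hsn hn (x := (⟨x, hx⟩ : Y))
      (by rwa [Subgroup.orderOf_mk]))

/-- Iterated commutators with an element of a subnormal subgroup end in it. -/
theorem exists_iterate_mem {Y : Type*} [Group Y] {K : Subgroup Y} (hK : K.IsSubnormal) :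
    ∃ N : ℕ, ∀ x : Y, ∀ y ∈ K, ∀ n ≥ N, (fun z => z * y * z⁻¹ * y⁻¹)^[n] x ∈ K := by
  induction hK with
  | top => exact ⟨0, fun _ _ _ _ _ => mem_top _⟩
  | step H K hle hsn hN ih =>
    obtain ⟨N, hNf⟩ := ih
    refine ⟨N + 1, fun x y hy n hn => ?_⟩
    obtain ⟨m, rfl⟩ : ∃ m, n = m + 1 := ⟨n - 1, by omega⟩
    rw [Function.iterate_succ_apply']
    set z := (fun z => z * y * z⁻¹ * y⁻¹)^[m] x
    have hz : z ∈ K := hNf x y (hle hy) m (by omega)
    exact H.mul_mem (mem_subgroupOf.mp (hN.conj_mem (⟨y, hle hy⟩ : K) (mem_subgroupOf.mpr hy)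
      (⟨z, hz⟩ : K))) (H.inv_mem hy)

theorem cj_pCoreOf_of_normalizes {H : Subgroup G} {g : G} (hg : g ∈ normalizer (H : Set G)) :
    cj g (Cfsg.pCoreOf 2 H) = Cfsg.pCoreOf 2 H := by
  rw [← pCoreOf_cj, cj_of_mem_normalizer hg]

theorem normalizer_le_normalizer_pCoreOf (H : Subgroup G) :
    normalizer (H : Set G) ≤ normalizer (Cfsg.pCoreOf 2 H : Set G) := fun _ hg =>
  Thompson.mem_normalizer_of_map_conj (cj_pCoreOf_of_normalizes hg)

/-- A 2-subgroup normal in a subnormal subgroup lies in `O₂`. -/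
theorem le_pCore_of_isSubnormal {H : Subgroup G} (hH : H.IsSubnormal) {R : Subgroup G}
    (hR : IsPGroup 2 R) (hRH : R ≤ H) (hn : H ≤ normalizer (R : Set G)) :
    R ≤ Cfsg.pCore 2 G := by
  induction hH generalizing R with
  | top =>
    exact H61.le_pCore (normalizer_eq_top_iff.mp (top_le_iff.mp hn)) hR
  | step H K hle hsn hN ih =>
    refine (le_pCoreOf hR hRH hn).trans (ih (isPGroup_pCoreOf H) ((pCoreOf_le 2 H).trans hle) ?_)
    exact (normal_subgroupOf_iff_le_normalizer hle).mp hN |>.trans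
      (normalizer_le_normalizer_pCoreOf H)

/-- A 2-subgroup subnormal-normal inside `Y` lies in `O₂(Y)`. -/
theorem le_pCoreOf_of_isSubnormal {H Y R : Subgroup G} (hHY : H ≤ Y)
    (hH : (H.subgroupOf Y).IsSubnormal) (hR : IsPGroup 2 R) (hRH : R ≤ H)
    (hn : H ≤ normalizer (R : Set G)) : R ≤ Cfsg.pCoreOf 2 Y := by
  have h := le_pCore_of_isSubnormal hH (R := R.subgroupOf Y)
    (hR.comap_of_injective Y.subtype Y.subtype_injective) (fun x hx => hRH hx) (fun x hx => by
      rw [mem_normalizer_iff]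
      intro y
      rw [mem_subgroupOf, mem_subgroupOf]
      exact (mem_normalizer_iff.mp (hn (mem_subgroupOf.mp hx)) (y : G)))
  exact fun x hx => ⟨⟨x, hHY (hRH hx)⟩, h hx, rfl⟩

end Cfsg.Agent.H85.ZN
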