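import Cfsg.Agent.H85.ZN.Piece
import Cfsg.Agent.H85.ZN.Elem

/-!
Planes, pieces and their behaviour under conjugation.
-/

set_option autoImplicit false
set_option linter.style.haveILetI false
set_option linter.unusedSectionVars false

namespace Cfsg.Agent.H85.ZN

open Subgroup Cfsg.Agent.Thompson

variable {G : Type*} [Group G] [Finite G] {L T : Subgroup G}

theorem TvL.mem {a : G} (ha : TvL L a) : a ∈ L := ha.2.1

theorem TvL.tv {a : G} (ha : TvL L a) : IsTv ↥(Vc L) (img L ⟨a, ha.mem⟩) := ha.2.2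

theorem TvL.inv_eq {a : G} (ha : TvL L a) : a⁻¹ = a := inv_eq_of_mul_eq_one_right ha.1

/-- The plane of `a` in `V`, as a subgroup of `G`. -/
noncomputable def planeA (L : Subgroup G) (a : G) : Subgroup G :=
  ⨆ (S : Setup ↥(Hq L) ↥(Vc L)) (ha : TvL L a), (S.plane ha.tv).map (Vc L).subtype

/-- The component attached to `a`. -/
def compOf (L : Subgroup G) (a : G) : Subgroup G := oddCl (piece L a)

theorem planeA_eq (S : Setup ↥(Hq L) ↥(Vc L)) {a : G} (ha : TvL L a) :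
    planeA L a = (S.plane ha.tv).map (Vc L).subtype := by
  rw [planeA, iSup_pos S, iSup_pos ha]

theorem TvL.conj (S : Setup ↥(Hq L) ↥(Vc L)) {a g : G} (ha : TvL L a) (hg : g ∈ L) :
    TvL L (g * a * g⁻¹) := by
  refine ⟨?_, L.mul_mem (L.mul_mem hg ha.mem) (L.inv_mem hg), ?_⟩
  · rw [show g * a * g⁻¹ * (g * a * g⁻¹) = g * (a * a) * g⁻¹ by group, ha.1, mul_one,
      mul_inv_cancel]
  · have := S.isTv_conj ha.tv (img L ⟨g, hg⟩)
    rwa [← map_inv, ← map_mul, ← map_mul] at this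

theorem planeA_le (S : Setup ↥(Hq L) ↥(Vc L)) {a : G} (ha : TvL L a) : planeA L a ≤ Vc L := by
  rw [planeA_eq S ha]; exact map_subtype_le _

theorem card_planeA (S : Setup ↥(Hq L) ↥(Vc L)) {a : G} (ha : TvL L a) :
    Nat.card (planeA L a) = 4 := by
  rw [planeA_eq S ha, card_map_of_injective (Vc L).subtype_injective, S.card_plane]

theorem planeA_ne_bot (S : Setup ↥(Hq L) ↥(Vc L)) {a : G} (ha : TvL L a) : planeA L a ≠ ⊥ := by
  intro h
  have := card_planeA S ha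
  rw [h, card_bot] at this
  omega

theorem plane_eq_of_planeA_eq (S : Setup ↥(Hq L) ↥(Vc L)) {a b : G} (ha : TvL L a) (hb : TvL L b)
    (h : planeA L b = planeA L a) : S.plane ha.tv = S.plane hb.tv := by
  rw [planeA_eq S hb, planeA_eq S ha] at h
  exact (map_injective (Vc L).subtype_injective h).symm

theorem planeA_conj (S : Setup ↥(Hq L) ↥(Vc L)) {a g : G} (ha : TvL L a) (hg : g ∈ L) :
    planeA L (g * a * g⁻¹) = cj g (planeA L a) := by
  have hb := ha.conj S hg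
  have hb' : IsTv ↥(Vc L) (img L ⟨g, hg⟩ * img L ⟨a, ha.mem⟩ * (img L ⟨g, hg⟩)⁻¹) :=
    S.isTv_conj ha.tv _
  have key := (S.plane_conj ha.tv (img L ⟨g, hg⟩) hb').2
  have heq : S.plane hb.tv = S.plane hb' := by
    congr 1
    rw [← map_inv, ← map_mul, ← map_mul]; rfl
  rw [planeA_eq S hb, planeA_eq S ha, heq]
  ext x
  rw [mem_cj]
  constructor
  · rintro ⟨v, hv, rfl⟩
    refine ⟨_, (key v).mp hv, ?_⟩
    rw [← map_inv, img_smul, coe_subtype, coe_smul_Vc]
    simp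
  · rintro ⟨v, hv, hvx⟩
    refine ⟨img L ⟨g, hg⟩ • v, (key _).mpr (by rwa [inv_smul_smul]), ?_⟩
    rw [coe_subtype] at hvx
    rw [img_smul, coe_subtype, coe_smul_Vc, hvx]
    simp [mul_assoc]

theorem zpowers_dOf_conj (S : Setup ↥(Hq L) ↥(Vc L)) {t : ↥(Hq L)} (ht : IsTv ↥(Vc L) t)
    (k : ↥(Hq L)) (hk : IsTv ↥(Vc L) (k * t * k⁻¹)) :
    zpowers (S.dOf hk) = zpowers (k * S.dOf ht * k⁻¹) := by
  refine Subgroup.eq_of_le_of_card_ge (zpowers_le.mpr (S.plane_conj ht k hk).1) ?_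
  rw [Nat.card_zpowers, Nat.card_zpowers, S.orderOf_dOf hk, ← MulAut.conj_apply,
    MulEquiv.orderOf_eq, S.orderOf_dOf ht]

theorem pieceSet_conj_le (S : Setup ↥(Hq L) ↥(Vc L)) {a g x : G} (ha : TvL L a) (hg : g ∈ L)
    (hx : x ∈ pieceSet L a) : g * x * g⁻¹ ∈ pieceSet L (g * a * g⁻¹) := by
  obtain ⟨hxL, ⟨S', ha', ht', hmem⟩, hinv⟩ := hx
  have hb := ha.conj S hg
  refine ⟨L.mul_mem (L.mul_mem hg hxL) (L.inv_mem hg), ⟨S', hb.mem, hb.tv, ?_⟩, ?_⟩
  · have hb' : IsTv ↥(Vc L) (img L ⟨g, hg⟩ * img L ⟨a, ha'⟩ * (img L ⟨g, hg⟩)⁻¹) :=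
      S.isTv_conj ht' _
    have heq : S'.dOf hb.tv = S'.dOf hb' := by
      congr 1
      rw [← map_inv, ← map_mul, ← map_mul]; rfl
    rw [heq, zpowers_dOf_conj S' ht' _ hb']
    obtain ⟨n, hn⟩ := hmem
    refine ⟨n, ?_⟩
    show (_ * _ * _) ^ n = _
    rw [conj_zpow, show S'.dOf ht' ^ n = img L ⟨x, hxL⟩ from hn, ← map_inv, ← map_mul, ← map_mul]
    rfl
  · have : g * a * g⁻¹ * (g * x * g⁻¹) * (g * a * g⁻¹) * (g * x * g⁻¹) =
        g * (a * x * a * x) * g⁻¹ := by group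
    rw [this]
    exact (mem_normalizer_iff.mp (le_normalizer_pCoreOf L hg) _).mp hinv

theorem cj_piece_le (S : Setup ↥(Hq L) ↥(Vc L)) {a g : G} (ha : TvL L a) (hg : g ∈ L) :
    cj g (piece L a) ≤ piece L (g * a * g⁻¹) := by
  rw [cj, piece, MonoidHom.map_closure, closure_le]
  rintro _ ⟨x, hx, rfl⟩
  exact subset_closure (pieceSet_conj_le S ha hg hx)

theorem cj_piece (S : Setup ↥(Hq L) ↥(Vc L)) {a g : G} (ha : TvL L a) (hg : g ∈ L) :
    cj g (piece L a) = piece L (g * a * g⁻¹) := by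
  refine le_antisymm (cj_piece_le S ha hg) ?_
  have h := cj_le_cj (g := g) (cj_piece_le S (ha.conj S hg) (L.inv_mem hg))
  rw [cj_cj_inv] at h
  simpa [mul_assoc] using h

theorem piece_le (L : Subgroup G) (a : G) : piece L a ≤ L :=
  (closure_le _).mpr fun _ hx => hx.1

section

variable (Z : ZHyp G) (h : LHyp L T)
include Z h

/-- A generator of the piece modulo `O₂(L)`, with its properties. -/
theorem LHyp.gen {a : G} (ha : TvL L a) : ∃ u : L, (u : G) ∈ gen2 L ∧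
    img L u = (h.setup Z).dOf ha.tv ∧
    proj L ⟨a, ha.mem⟩ * proj L u * proj L ⟨a, ha.mem⟩ = (proj L u)⁻¹ ∧ proj L u ^ 3 = 1 ∧
    (∀ x : G, x ∈ piece L a ↔ ∃ hx : x ∈ L, proj L ⟨x, hx⟩ ∈ zpowers (proj L u)) ∧
    orderOf (proj L u) = 3 := by
  obtain ⟨u, hug, himg, hAUA, hU3, hset⟩ := h.exists_gen Z ha.mem ha.1 ha.tv
  refine ⟨u, hug, himg, hAUA, hU3, fun x => ?_, ?_⟩
  · rw [h.mem_piece Z ha.mem ha.1 ha.tv, hset]; rfl
  · haveI : Fact (Nat.Prime 3) := ⟨Nat.prime_three⟩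
    refine orderOf_eq_prime hU3 fun e => ?_
    have h1 := (mem_Cn u.2).mp (pCoreOf_le_Cn L (proj_eq_one.mp e))
    have h2 := (h.setup Z).orderOf_dOf ha.tv
    rw [← himg, h1, orderOf_one] at h2
    omega

theorem LHyp.core_le_piece {a : G} (ha : TvL L a) : Cfsg.pCoreOf 2 L ≤ piece L a := by
  obtain ⟨u, -, -, -, -, hmem, -⟩ := h.gen Z ha
  intro x hx
  refine (hmem x).mpr ⟨pCoreOf_le 2 L hx, ?_⟩
  rw [proj_eq_one.mpr (show ((⟨x, pCoreOf_le 2 L hx⟩ : L) : G) ∈ _ from hx)]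
  exact one_mem _

/-- Transvections with the same plane have the same piece. -/
theorem LHyp.piece_congr {a b : G} (ha : TvL L a) (hb : TvL L b)
    (hpl : planeA L b = planeA L a) : piece L b = piece L a ∧ b * a ∈ piece L a := by
  set S := h.setup Z
  have hp := plane_eq_of_planeA_eq S ha hb hpl
  obtain ⟨hd, e, he, hbe⟩ := S.eq_of_plane_eq ha.tv hb.tv hp
  obtain ⟨u, hug, himg, hAUA, hU3, hmem, hordU⟩ := h.gen Z ha
  obtain ⟨u', hu'g, himg', hBUB, hU3', hmem', hordU'⟩ := h.gen Z hb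
  set A := proj L ⟨a, ha.mem⟩ with hA
  set B := proj L ⟨b, hb.mem⟩ with hB
  set U := proj L u with hU
  have hag : ∀ {x : G}, TvL L x → x ∈ gen2 L := fun hx =>
    subset_closure ⟨hx.mem, 1, by rw [pow_one, pow_two, hx.1]⟩
  have hAA : A * A = 1 := by rw [hA, ← map_mul, proj_eq_one]; simp [ha.1]
  have hBB : B * B = 1 := by rw [hB, ← map_mul, proj_eq_one]; simp [hb.1]
  obtain ⟨m, rfl⟩ := he
  obtain ⟨n, hn⟩ := hd
  -- the error terms
  set c : L := (u ^ m * ⟨a, ha.mem⟩ * (u ^ m)⁻¹)⁻¹ * ⟨b, hb.mem⟩ with hc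
  have hcC : (c : G) ∈ Cn L := by
    rw [mem_Cn_coe, hc, map_mul, map_inv, map_mul, map_mul, map_inv, map_zpow, himg,
      inv_mul_eq_one]
    exact hbe.symm
  have hBc : B = U ^ m * A * (U ^ m)⁻¹ * proj L c := by
    rw [hc, map_mul, map_inv, map_mul, map_mul, map_inv, map_zpow, mul_inv_cancel_left]
  have hcomA : Commute A (proj L c) := h.proj_commute Z (hag ha) hcC
  have hcomU : Commute U (proj L c) := h.proj_commute Z hug hcC
  have hUm : A * U ^ m * A = (U ^ m)⁻¹ := by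
    have : (A * U * A⁻¹) ^ m = A * U ^ m * A⁻¹ := conj_zpow
    rw [inv_eq_of_mul_eq_one_right hAA, hAUA, inv_zpow] at this
    exact this.symm
  have hc1 : proj L c = 1 := by
    refine h.proj_sq Z hcC ?_
    set X := U ^ m * A * (U ^ m)⁻¹ with hX
    have hXX : X * X = 1 := by
      rw [hX, show U ^ m * A * (U ^ m)⁻¹ * (U ^ m * A * (U ^ m)⁻¹) =
        U ^ m * (A * A) * (U ^ m)⁻¹ by group, hAA, mul_one, mul_inv_cancel]
    have hcX : Commute X (proj L c) :=
      ((hcomU.zpow_left m).mul_left hcomA).mul_left (hcomU.zpow_left m).inv_left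
    have := hBB
    rw [hBc, mul_assoc, ← mul_assoc (proj L c), ← hcX.eq, mul_assoc X (proj L c),
      ← mul_assoc, hXX, one_mul] at this
    exact this
  rw [hc1, mul_one] at hBc
  have hBA : B * A = U ^ m * U ^ m := by
    rw [hBc, mul_assoc (U ^ m * A), ← hUm]
    calc U ^ m * A * (A * U ^ m * A * A) = U ^ m * (A * A) * U ^ m * (A * A) := by group
      _ = _ := by rw [hAA, mul_one, mul_one]
  -- the generator of the second piece
  set c' : L := (u ^ n)⁻¹ * u' with hc'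
  have hc'C : (c' : G) ∈ Cn L := by
    rw [mem_Cn_coe, hc', map_mul, map_inv, map_zpow, himg, himg', inv_mul_eq_one]
    exact hn
  have hU' : proj L u' = U ^ n * proj L c' := by
    rw [hc', map_mul, map_inv, map_zpow, mul_inv_cancel_left]
  have hcU' : Commute U (proj L c') := h.proj_commute Z hug hc'C
  have hcB : Commute B (proj L c') := h.proj_commute Z (hag hb) hc'C
  have hBn : B * U ^ n * B = (U ^ n)⁻¹ := by
    have hB1 : B * U * B = U⁻¹ := by
      rw [hBc]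
      have hBU : U ^ m * A * (U ^ m)⁻¹ * U * (U ^ m * A * (U ^ m)⁻¹) =
          U ^ m * (A * U * A) * (U ^ m)⁻¹ := by group
      rw [hBU, hAUA]; group
    have : (B * U * B⁻¹) ^ n = B * U ^ n * B⁻¹ := conj_zpow
    rw [inv_eq_of_mul_eq_one_right hBB, hB1, inv_zpow] at this
    exact this.symm
  have hc'1 : proj L c' = 1 := by
    refine h.proj_sq Z hc'C ?_
    have h1 : B * proj L u' * B = (proj L u')⁻¹ := hBUB
    rw [hU', ← mul_assoc, mul_assoc (B * U ^ n), ← hcB.eq, ← mul_assoc (B * U ^ n), hBn,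
      mul_inv_rev, ((hcU'.zpow_left n).inv_left).inv_right.eq.symm] at h1
    exact mul_eq_one_iff_eq_inv.mpr (mul_left_cancel h1)
  rw [hc'1, mul_one] at hU'
  have hz : zpowers (proj L u') = zpowers U :=
    Subgroup.eq_of_le_of_card_ge (zpowers_le.mpr ⟨n, hU'.symm⟩)
      (by rw [Nat.card_zpowers, Nat.card_zpowers, hordU, hordU'])
  refine ⟨?_, (hmem _).mpr ⟨L.mul_mem hb.mem ha.mem, ?_⟩⟩
  · ext x
    rw [hmem, hmem', hz]
  · rw [show (⟨b * a, L.mul_mem hb.mem ha.mem⟩ : L) = ⟨b, hb.mem⟩ * ⟨a, ha.mem⟩ from rfl, map_mul,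
      ← hA, ← hB, hBA]
    exact mul_mem (zpow_mem_zpowers U m) (zpow_mem_zpowers U m)

theorem LHyp.mem_normalizer_piece {a g : G} (ha : TvL L a) (hg : g ∈ L)
    (hpl : cj g (planeA L a) = planeA L a) : g ∈ normalizer (piece L a : Set G) := by
  refine Thompson.mem_normalizer_of_map_conj ?_
  rw [← cj, cj_piece (h.setup Z) ha hg]
  exact (h.piece_congr Z ha (ha.conj (h.setup Z) hg)
    (by rw [planeA_conj (h.setup Z) ha hg, hpl])).1

theorem LHyp.mem_normalizer_comp {a g : G} (ha : TvL L a) (hg : g ∈ L)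
    (hpl : cj g (planeA L a) = planeA L a) : g ∈ normalizer (compOf L a : Set G) :=
  normalizer_le_normalizer_oddCl _ (h.mem_normalizer_piece Z ha hg hpl)

theorem LHyp.cj_compOf {a g : G} (ha : TvL L a) (hg : g ∈ L) :
    cj g (compOf L a) = compOf L (g * a * g⁻¹) := by
  rw [compOf, cj_oddCl, cj_piece (h.setup Z) ha hg]; rfl

end

end Cfsg.Agent.H85.ZN
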