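import Cfsg.Agent.H85.ZN.CompW

/-!
`compOf` gives components; components under conjugation.
-/

set_option autoImplicit false
set_option linter.style.haveILetI false
set_option linter.unusedSectionVars false

namespace Cfsg.Agent.H85.ZN

open Subgroup Cfsg.Agent.Thompson
open scoped commutatorElement

variable {G : Type*} [Group G] [Finite G] {L T : Subgroup G}

theorem cj_wOf (g : G) (K : Subgroup G) : cj g (Cfsg.wOf K) = Cfsg.wOf (cj g K) := by
  rw [Cfsg.wOf, Cfsg.wOf, cj, map_commutator, ← cj, ← cj, cj_om, ← pCoreOf_cj]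

theorem normalizer_le_normalizer_wOf (K : Subgroup G) :
    normalizer (K : Set G) ≤ normalizer (Cfsg.wOf K : Set G) := fun g hg =>
  Thompson.mem_normalizer_of_map_conj (by rw [← cj, cj_wOf, cj_of_mem_normalizer hg])

/-- Being a component depends on `J(T)` only. -/
theorem jcomp_congr {T T' K : Subgroup G} (hJ : jay 2 T' = jay 2 T)
    (hK : Cfsg.IsJComponent T K) : Cfsg.IsJComponent T' K := by
  unfold Cfsg.IsJComponent at hK ⊢
  simp only [tJ_eq] at hK ⊢
  rwa [hJ]

theorem jcomp_cj {T K : Subgroup G} (g : G) (hK : Cfsg.IsJComponent T K) :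
    Cfsg.IsJComponent (cj g T) (cj g K) := by
  obtain ⟨h1, h2, h3, h4, h5, h6⟩ := hK
  simp only [tJ_eq] at h2 h4
  refine ⟨?_, ?_, ?_, ?_, ?_, ?_⟩
  · show oddCl (cj g K) = cj g K
    rw [← cj_oddCl]; exact congrArg (cj g) h1
  · rw [tJ_eq, jay_cj, cj, cj, ← map_commutator, h2]
  · rw [pCoreOf_cj, cj, cj, relIndex_map_map_of_injective _ _ (MulAut.conj g).injective, h3]
  · intro S hS hle
    rw [tJ_eq, jay_cj] at hS hle
    rw [tJ_eq, tJ_eq, jay_cj]
    rw [cj, cj, ← Subgroup.map_sup, ← cj] at hS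
    have hS' := sylowTwoIn_cj hS g⁻¹
    rw [cj_inv_cj] at hS'
    have hle' := cj_le_cj (g := g⁻¹) hle
    rw [cj_inv_cj] at hle'
    rw [← h4 _ hS' hle', jay_cj, cj_cj_inv]
  · rw [← cj_wOf, card_cj, h5]
  · rintro _ hw
    rw [← cj_wOf] at hw
    obtain ⟨w, hw, rfl⟩ := hw
    rw [← map_mul, h6 w hw, map_one]

/-- Largest elementary abelian subgroups of `R ≥ J(T)` inside `L`. -/
theorem jay_eq_of_le_sylow {R : Subgroup G} (hT : Cfsg.IsSylowTwoIn T L) (hR : IsPGroup 2 R)
    (hRL : R ≤ L) (hJ : jay 2 T ≤ R) : jay 2 R = jay 2 T := by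
  obtain ⟨l, hl, hle⟩ := sylowTwoIn_conj hT hR hRL
  have h1 : Cfsg.maxElemAbelianOrder R ≤ Cfsg.maxElemAbelianOrder T :=
    (maxElemAbelianOrder_mono (jay_le.trans hle)).trans (maxElemAbelianOrder_cj l T).le
  have h2 : jay 2 R ≤ jay 2 (cj l T) := jay_le_jay (jay_le.trans hle)
    ((maxElemAbelianOrder_cj l T).le.trans (maxElemAbelianOrder_mono hJ))
  refine (Subgroup.eq_of_le_of_card_ge (jay_le_jay hJ h1) ?_).symm
  rw [← card_cj l (jay 2 T), ← jay_cj]
  exact card_le_of_le h2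

section

variable (Z : ZHyp G) (h : LHyp L T)
include Z h

theorem LHyp.isJComponent_comp {a : G} (ha : Adm L T a) :
    Cfsg.IsJComponent T (compOf L a) := by
  have hW := h.wOf_comp Z ha
  have hcomm := h.comm_comp_jay Z ha
  refine ⟨oddCl_idem _, by rw [tJ_eq]; exact hcomm, (h.core_comp Z ha.tvL).2, ?_, ?_, ?_⟩
  · intro S hS hle
    rw [tJ_eq] at hS hle
    rw [tJ_eq, tJ_eq]
    exact jay_eq_of_le_sylow h.syl hS.2.1
      (hS.1.trans (sup_le (h.comp_le Z) (jay_le.trans h.syl.1))) hle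
  · rw [hW, card_planeA (h.setup Z) ha.tvL]
  · intro w hw
    rw [hW] at hw
    exact om_sq (planeA_le (h.setup Z) ha.tvL hw)

/-- Some element of a largest elementary abelian subgroup induces a transvection if `J(T) ≰ Q`. -/
theorem LHyp.jay_split :
    jay 2 T ≤ closure {a | Adm L T a} ⊔ (jay 2 T ⊓ Cfsg.pCoreOf 2 L) := by
  set M := closure {a | Adm L T a} with hM
  have hMJ : M ≤ jay 2 T := (closure_le _).mpr fun _ ha => Adm.mem_jay ha
  have hML : M ≤ L := hMJ.trans (jay_le.trans h.syl.1)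
  have hMN : M ≤ normalizer (Cn L : Set G) := fun m hm =>
    H61.mem_normalizer_of_conj_mem fun c hc => conj_mem_Cn (hML hm) hc
  have hle : jay 2 T ≤ M ⊔ Cn L := sSup_le fun A hA => (h.gen_tv Z hA).trans ((closure_le _).mpr
    (Set.union_subset (fun x hx => mem_sup_left (subset_closure ⟨A, hA, hx.1, hx.2⟩))
      fun x hx => mem_sup_right hx))
  intro x hx
  have hx' := hle hx
  rw [← SetLike.mem_coe, coe_mul_of_left_le_normalizer_right M (Cn L) hMN] at hx'
  obtain ⟨m, hm, c, hc, rfl⟩ := hx'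
  refine mul_mem (mem_sup_left hm) (mem_sup_right ⟨?_, ?_⟩)
  · have := (jay 2 T).mul_mem ((jay 2 T).inv_mem (hMJ hm)) hx
    rwa [inv_mul_cancel_left] at this
  · rw [← h.sylow_inf_Cn Z]
    have := (jay 2 T).mul_mem ((jay 2 T).inv_mem (hMJ hm)) hx
    rw [inv_mul_cancel_left] at this
    exact ⟨jay_le this, hc⟩

theorem LHyp.exists_adm (hJ : ¬ jay 2 T ≤ Cfsg.pCoreOf 2 L) : ∃ a, Adm L T a := by
  by_contra hno
  push Not at hno
  refine hJ ((h.jay_split Z).trans (sup_le ?_ inf_le_right))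
  rw [show {a | Adm L T a} = ∅ from Set.eq_empty_iff_forall_notMem.mpr hno, Subgroup.closure_empty]
  exact bot_le

end

end Cfsg.Agent.H85.ZN
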