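import Cfsg.Agent.H85.ZN.Offend

/-!
An elementary abelian module of a group `S₃` normalised by a largest elementary abelian subgroup
has order at most four.
-/

set_option autoImplicit false
set_option linter.style.haveILetI false
set_option linter.unusedSectionVars false

namespace Cfsg.Agent.H85.ZN

open Subgroup Cfsg.Agent.Thompson

variable {G : Type*} [Group G] [Finite G]

theorem commute_all_of_card_le_two {U B : Subgroup G} (hU : Nat.card U ≤ 2)
    (hBU : B ≤ normalizer (U : Set G)) : ∀ b ∈ B, ∀ u ∈ U, Commute b u := by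
  intro b hb u hu
  have hv : b * u * b⁻¹ ∈ U := (mem_normalizer_iff.mp (hBU hb) u).mp hu
  rcases eq_or_ne u 1 with rfl | hu1
  · exact Commute.one_right b
  have h2 : Nat.card U = 2 := le_antisymm hU
    (Finite.one_lt_card_iff_nontrivial.mpr ⟨⟨u, hu⟩, 1, fun e => hu1 (congrArg Subtype.val e)⟩)
  rcases pair_of_card_two h2 hu hu1 hv with h | h
  · exact absurd (conj_eq_one_iff.mp h) hu1
  · exact mul_inv_eq_iff_eq_mul.mp h

theorem card_le_two_mul {A B : Subgroup G} {a : G} (h : ∀ x ∈ A, x ∈ B ∨ a * x ∈ B) :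
    Nat.card A ≤ 2 * Nat.card B := by
  classical
  let f : A → B × Bool := fun x => if hx : (x : G) ∈ B then ((⟨x, hx⟩ : B), false)
    else (⟨a * x, (h x x.2).resolve_left hx⟩, true)
  have hf : Function.Injective f := by
    intro b c hbc
    have h1 : (f b).2 = (f c).2 := congrArg Prod.snd hbc
    have h2 : ((f b).1 : G) = (f c).1 := congrArg (fun q : B × Bool => (q.1 : G)) hbc
    by_cases hb : (b : G) ∈ B <;> by_cases hc : (c : G) ∈ B <;>
      simp only [f, hb, hc, dite_true, dite_false] at h1 h2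
    · exact Subtype.ext h2
    · exact absurd h1 (by decide)
    · exact absurd h1 (by decide)
    · exact Subtype.ext (mul_left_cancel h2)
  refine (Nat.card_le_card_of_injective f hf).trans ?_
  rw [Nat.card_prod, Nat.card_eq_fintype_card (α := Bool), Fintype.card_bool, mul_comm]

set_option maxHeartbeats 1000000 in
/-- An abelian 2-group fixing at most a line is small. -/
theorem fixed_line_bound : ∀ (n : ℕ) {U B : Subgroup G}, Nat.card U = n → IsAbExp 2 U → U ≠ ⊥ →
    IsAbExp 2 B → B ≤ normalizer (U : Set G) →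
    Nat.card ↥(U ⊓ centralizer (B : Set G)) ≤ 2 →
    2 * Nat.card B ≤ Nat.card U * Nat.card ↥(B ⊓ centralizer (U : Set G)) := by
  intro n
  induction n using Nat.strong_induction_on with
  | _ n IH =>
  intro U B hn hU hUne hB hBU hfix
  by_cases h2 : Nat.card U ≤ 2
  · have hle : B ⊓ centralizer (U : Set G) = B := inf_eq_left.mpr fun b hb =>
      mem_centralizer_iff.mpr fun u hu => (commute_all_of_card_le_two h2 hBU b hb u hu).eq.symm
    rw [hle]
    refine Nat.mul_le_mul_right _ ?_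
    exact Finite.one_lt_card_iff_nontrivial.mpr ((Subgroup.nontrivial_iff_ne_bot U).mpr hUne)
  -- a maximal subgroup of `UB` containing `B`
  set P := U ⊔ B with hP
  have hUB : ¬ U ≤ B := fun h => h2 ((card_le_of_le (le_inf le_rfl fun u hu =>
    mem_centralizer_iff.mpr fun b hb => hB.comm hb (h hu))).trans hfix)
  haveI : Fact (Nat.Prime 2) := ⟨Nat.prime_two⟩
  have hP2 : IsPGroup 2 P := by
    have hU2 : IsPGroup 2 U := fun x => ⟨1, Subtype.ext (by simpa using hU.2 x x.2)⟩
    have hB2 : IsPGroup 2 B := fun x => ⟨1, Subtype.ext (by simpa using hB.2 x x.2)⟩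
    exact hU2.to_sup_of_normal_left' hB2 hBU
  have hne : B.subgroupOf P ≠ ⊤ := fun h => hUB (le_sup_left.trans (subgroupOf_eq_top.mp h))
  obtain ⟨M, hM, hBM⟩ := (eq_top_or_exists_le_coatom (B.subgroupOf P)).resolve_left hne
  haveI : Group.IsNilpotent P := hP2.isNilpotent
  have hMn : M.Normal := Group.normalizerCondition_of_isNilpotent.normal_of_coatom _ hM
  have hMidx : M.index = 2 := by
    haveI := hMn
    haveI : Nontrivial (↥P ⧸ M) := QuotientGroup.nontrivial_iff.mpr hM.1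
    obtain ⟨k, hk⟩ := (hP2.to_quotient M).exists_card_eq
    have h1 : 1 < Nat.card (↥P ⧸ M) := Finite.one_lt_card
    obtain ⟨z, hz⟩ := exists_prime_orderOf_dvd_card' (G := ↥P ⧸ M) 2 (by
      rcases k with _ | k
      · rw [hk] at h1; simp at h1
      · exact hk ▸ dvd_pow_self 2 k.succ_ne_zero)
    have htop : (zpowers z).comap (QuotientGroup.mk' M) = ⊤ := by
      refine hM.2 _ (lt_of_le_of_ne ((QuotientGroup.ker_mk' M).symm.le.trans (ker_le_comap _ _)) ?_)
      intro h
      obtain ⟨y, hy⟩ := QuotientGroup.mk'_surjective M z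
      have h1 : y ∈ (zpowers z).comap (QuotientGroup.mk' M) :=
        mem_comap.mpr (hy ▸ mem_zpowers z)
      rw [← h] at h1
      have h2 : (QuotientGroup.mk' M) y = 1 := (QuotientGroup.eq_one_iff y).mpr h1
      rw [← hy, h2, orderOf_one] at hz
      omega
    have h3 : zpowers z = ⊤ := by
      rw [← map_comap_eq_self_of_surjective (QuotientGroup.mk'_surjective M) (zpowers z), htop,
        map_top_of_surjective _ (QuotientGroup.mk'_surjective M)]
    rw [index_eq_card, ← Subgroup.card_top, ← h3, Nat.card_zpowers, hz]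
  set U' : Subgroup G := U ⊓ M.map P.subtype with hU'
  have hUP : U ≤ P := le_sup_left
  have hUnot : ¬ U ≤ U' := by
    intro h
    refine hM.1 (eq_top_iff.mpr fun x _ => ?_)
    have : P ≤ M.map P.subtype := sup_le (h.trans inf_le_right) fun b hb =>
      ⟨⟨b, mem_sup_right hb⟩, hBM hb, rfl⟩
    obtain ⟨y, hy, hyx⟩ := this x.2
    rwa [← Subtype.ext hyx]
  have hmemM : ∀ {x : G}, x ∈ U → ∀ {y : G}, y ∈ U → x ∉ U' → y ∉ U' → x⁻¹ * y ∈ U' := by
    intro x hx y hy hxn hyn
    have hx' : (⟨x, hUP hx⟩ : P) ∉ M := fun h => hxn ⟨hx, _, h, rfl⟩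
    have hy' : (⟨y, hUP hy⟩ : P) ∉ M := fun h => hyn ⟨hy, _, h, rfl⟩
    refine ⟨U.mul_mem (U.inv_mem hx) hy, (⟨x, hUP hx⟩ : P)⁻¹ * ⟨y, hUP hy⟩, ?_, rfl⟩
    show (⟨x, hUP hx⟩ : P)⁻¹ * ⟨y, hUP hy⟩ ∈ M
    rw [mul_mem_iff_of_index_two hMidx]
    simp [hx', hy']
  have hlt : U' < U := lt_of_le_not_ge inf_le_left hUnot
  have hcard : 2 * Nat.card U' ≤ Nat.card U := by
    obtain ⟨k, hk⟩ := card_dvd_of_le hlt.le
    rcases k with _ | _ | k
    · have := Nat.card_pos (α := U); omega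
    · exact absurd (Subgroup.eq_of_le_of_card_ge hlt.le (by omega)) hlt.ne
    · rw [hk]; nlinarith
  have hBU' : B ≤ normalizer (U' : Set G) := fun b hb => H61.mem_normalizer_of_conj_mem
    fun x hx => by
      refine ⟨(mem_normalizer_iff.mp (hBU hb) x).mp hx.1, ?_⟩
      obtain ⟨y, hy, rfl⟩ := hx.2
      exact ⟨_, hMn.conj_mem y hy ⟨b, mem_sup_right hb⟩, rfl⟩
  obtain ⟨x, hx, hxn⟩ : ∃ x ∈ U, x ∉ U' := SetLike.not_le_iff_exists.mp hUnot
  have hU'ne : U' ≠ ⊥ := by
    intro hbot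
    refine h2 ?_
    have : (U : Set G) ⊆ {1, x} := by
      intro y hy
      by_cases h : y ∈ U'
      · rw [hbot, mem_bot] at h; exact .inl h
      · have := hmemM hx hy hxn h
        rw [hbot, mem_bot, inv_mul_eq_one] at this
        exact .inr this.symm
    exact (Nat.card_mono (Set.toFinite _) this).trans (by
      rw [Nat.card_coe_set_eq]
      exact (Set.ncard_insert_le _ _).trans (by rw [Set.ncard_singleton]))
  have ih := IH _ (by omega) rfl (hU.mono hlt.le) hU'ne hB hBU'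
    ((card_le_of_le (inf_le_inf_right _ hlt.le)).trans hfix)
  set B0 := B ⊓ centralizer (U' : Set G) with hB0
  set B1 := B ⊓ centralizer (U : Set G) with hB1
  -- commutators with `x`
  have hval : ∀ b ∈ B0, x * (b * x * b⁻¹) ∈ U ⊓ centralizer (B : Set G) := by
    intro b hb
    refine ⟨U.mul_mem hx ((mem_normalizer_iff.mp (hBU hb.1) x).mp hx),
      mem_centralizer_iff.mpr fun c hc => ?_⟩
    have hcx : c * x * c⁻¹ ∈ U := (mem_normalizer_iff.mp (hBU hc) x).mp hx
    have hu : x⁻¹ * (c * x * c⁻¹) ∈ U' := hmemM hx hcx hxn fun h => hxn (by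
      have := (mem_normalizer_iff.mp (hBU' hc) x).mpr h
      exact this)
    set u := x⁻¹ * (c * x * c⁻¹) with hudef
    have hbu : b * u * b⁻¹ = u := by
      rw [mul_inv_eq_iff_eq_mul]; exact (mem_centralizer_iff.mp hb.2 u hu).symm
    have hbc : b * c = c * b := hB.comm hb.1 hc
    have hcxe : c * x * c⁻¹ = x * u := by rw [hudef, mul_inv_cancel_left]
    have hcb : c * (b * x * b⁻¹) * c⁻¹ = b * (c * x * c⁻¹) * b⁻¹ := by
      calc c * (b * x * b⁻¹) * c⁻¹ = c * b * x * (c * b)⁻¹ := by group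
        _ = b * c * x * (b * c)⁻¹ := by rw [hbc]
        _ = _ := by group
    have huU : u ∈ U := hlt.le hu
    have hbxU : b * x * b⁻¹ ∈ U := (mem_normalizer_iff.mp (hBU hb.1) x).mp hx
    refine mul_inv_eq_iff_eq_mul.mp ?_
    calc c * (x * (b * x * b⁻¹)) * c⁻¹ = c * x * c⁻¹ * (c * (b * x * b⁻¹) * c⁻¹) := by group
      _ = x * u * ((b * x * b⁻¹) * (b * u * b⁻¹)) := by rw [hcb, hcxe]; group
      _ = x * u * ((b * x * b⁻¹) * u) := by rw [hbu]
      _ = x * (u * u) * (b * x * b⁻¹) := by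
          rw [hU.comm hbxU huU]; group
      _ = _ := by rw [← pow_two, hU.2 u huU, mul_one]
  have hstep : Nat.card B0 ≤ 2 * Nat.card B1 := by
    have hmem1 : ∀ b ∈ B0, ∀ b' ∈ B0, b * x * b⁻¹ = b' * x * b'⁻¹ → b'⁻¹ * b ∈ B1 := by
      intro b hb b' hb' e
      refine ⟨B.mul_mem (B.inv_mem hb'.1) hb.1, mem_centralizer_iff.mpr fun y hy => ?_⟩
      have hcx : Commute (b'⁻¹ * b) x := by
        refine mul_inv_eq_iff_eq_mul.mp ?_
        rw [show b'⁻¹ * b * x * (b'⁻¹ * b)⁻¹ = b'⁻¹ * (b * x * b⁻¹) * b' by group, e]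
        group
      have hc0 : b'⁻¹ * b ∈ B0 := B0.mul_mem (B0.inv_mem hb') hb
      by_cases h : y ∈ U'
      · exact mem_centralizer_iff.mp hc0.2 y h
      · have h' := mem_centralizer_iff.mp hc0.2 _ (hmemM hx hy hxn h)
        have h3 : Commute (x * (x⁻¹ * y)) (b'⁻¹ * b) := hcx.symm.mul_left h'
        rw [mul_inv_cancel_left] at h3
        exact h3.eq
    by_cases hall : ∀ b ∈ B0, b * x * b⁻¹ = x
    · have : B0 ≤ B1 := fun b hb => by
        simpa using hmem1 b hb 1 B0.one_mem (by simpa using hall b hb)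
      exact (card_le_of_le this).trans (by omega)
    push Not at hall
    obtain ⟨b0, hb0, hne0⟩ := hall
    have key : ∀ b ∈ B0, b ∈ B1 ∨ b0⁻¹ * b ∈ B1 := by
      intro b hb
      by_cases h : b * x * b⁻¹ = x
      · exact .inl (by simpa using hmem1 b hb 1 B0.one_mem (by simpa using h))
      refine .inr (hmem1 b hb b0 hb0 ?_)
      have hF2 : Nat.card ↥(U ⊓ centralizer (B : Set G)) = 2 := by
        refine le_antisymm hfix (Finite.one_lt_card_iff_nontrivial.mpr
          ⟨⟨_, hval b0 hb0⟩, 1, fun e => hne0 ?_⟩)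
        have e' : x * (b0 * x * b0⁻¹) = 1 := congrArg Subtype.val e
        rw [← inv_eq_of_mul_eq_one_right e', inv_eq_of_mul_eq_one_right (by rw [← pow_two]; exact hU.2 x hx)]
      have hn1 : ∀ b : G, b * x * b⁻¹ ≠ x → x * (b * x * b⁻¹) ≠ 1 := fun b hb e => hb (by
        rw [← inv_eq_of_mul_eq_one_right e, inv_eq_of_mul_eq_one_right (by rw [← pow_two]; exact hU.2 x hx)])
      rcases pair_of_card_two hF2 (hval b0 hb0) (hn1 b0 hne0) (hval b hb) with e | e
      · exact absurd e (hn1 b h)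
      · exact mul_left_cancel e
    exact card_le_two_mul key
  calc 2 * Nat.card B ≤ Nat.card U' * Nat.card B0 := ih
    _ ≤ Nat.card U' * (2 * Nat.card B1) := Nat.mul_le_mul_left _ hstep
    _ = 2 * Nat.card U' * Nat.card B1 := by ring
    _ ≤ _ := Nat.mul_le_mul_right _ hcard

set_option maxHeartbeats 1000000 in
/-- The module bound. -/
theorem small_module {P A B U : Subgroup G} (hA : A ∈ maxIn 2 P) (hUP : U ≤ P)
    (hUe : IsAbExp 2 U) {a k : G} (ha : a ∈ A) (haU : a ∈ normalizer (U : Set G))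
    (hkU : k ∈ normalizer (U : Set G)) (hk3 : ∀ u ∈ U, Commute (k * k * k) u)
    (hfree : ∀ u ∈ U, Commute k u → u = 1)
    (hak : ∀ u ∈ U, a * (k * u * k⁻¹) * a⁻¹ = k⁻¹ * (a * u * a⁻¹) * k)
    (hBA : B ≤ A) (hBU : B ≤ normalizer (U : Set G)) (hAB : ∀ x ∈ A, x ∈ B ∨ a * x ∈ B)
    (hBk : ∀ b ∈ B, ∀ u ∈ U, Commute b u → Commute b (k * u * k⁻¹)) : Nat.card U ≤ 4 := by
  have ha2 : a * a = 1 := by rw [← pow_two]; exact hA.2.1.2 a ha
  have hainv : a⁻¹ = a := inv_eq_of_mul_eq_one_right ha2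
  set Ua := U ⊓ centralizer ({a} : Set G) with hUa
  have hmemUa : ∀ {u : G}, u ∈ Ua ↔ u ∈ U ∧ Commute u a := by
    intro u; rw [hUa, mem_inf, mem_centralizer_singleton_iff]; rfl
  have hkconj : ∀ {u : G}, u ∈ U → k * u * k⁻¹ ∈ U := fun hu => (mem_normalizer_iff.mp hkU _).mp hu
  have hdis : Ua ⊓ cj k Ua = ⊥ := by
    rw [eq_bot_iff]
    rintro _ ⟨hw, u, hu, rfl⟩
    show k * u * k⁻¹ = 1
    obtain ⟨huU, hua⟩ := hmemUa.mp hu
    obtain ⟨-, hwa⟩ := hmemUa.mp hw
    have e1 : k⁻¹ * (a * u * a⁻¹) * k = k * u * k⁻¹ := by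
      rw [← hak u huU, hainv]
      calc a * (k * u * k⁻¹) * a = k * u * k⁻¹ * a * a := by
            rw [show a * (k * u * k⁻¹) = k * u * k⁻¹ * a from hwa.eq.symm]
        _ = _ := by rw [mul_assoc, ha2, mul_one]
    rw [show a * u * a⁻¹ = u by rw [hua.eq.symm, mul_inv_cancel_right]] at e1
    have h3 : Commute (k * k) u := by
      refine mul_inv_eq_iff_eq_mul.mp ?_
      calc k * k * u * (k * k)⁻¹ = k * (k * u * k⁻¹) * k⁻¹ := by group
        _ = u := by rw [← e1]; group
    have hk : Commute k u := by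
      have := (h3.inv_left).mul_left (hk3 u huU)
      simpa [mul_assoc] using this
    rw [hfree u huU hk, mul_one, mul_inv_cancel]
  -- `|U| ≤ |Ua|²`
  let f : U →* G :=
    { toFun := fun u => (u : G) * (a * u * a⁻¹)
      map_one' := by simp
      map_mul' := fun u v => by
        have hc : Commute (v : G) (a * u * a⁻¹) :=
          hUe.comm v.2 ((mem_normalizer_iff.mp haU _).mp u.2)
        rw [coe_mul, show a * ((u : G) * v) * a⁻¹ = a * u * a⁻¹ * (a * v * a⁻¹) by group,
          mul_assoc (u : G) (v : G), ← mul_assoc (v : G), hc.eq]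
        group }
  have hfr : f.range ≤ Ua := by
    rintro _ ⟨u, rfl⟩
    have hau : a * u * a⁻¹ ∈ U := (mem_normalizer_iff.mp haU _).mp u.2
    refine hmemUa.mpr ⟨U.mul_mem u.2 hau, mul_inv_eq_iff_eq_mul.mp ?_ |>.symm⟩
    show a * ((u : G) * (a * u * a⁻¹)) * a⁻¹ = (u : G) * (a * u * a⁻¹)
    rw [hUe.comm u.2 hau]
    calc a * (a * u * a⁻¹ * u) * a⁻¹ = a * a * u * (a⁻¹ * u * a⁻¹) := by group
      _ = u * (a * u * a⁻¹) := by rw [ha2, one_mul, hainv]
      _ = _ := hUe.comm u.2 hau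
  have hfk : f.ker.map U.subtype ≤ Ua := by
    rintro _ ⟨u, hu, rfl⟩
    refine hmemUa.mpr ⟨u.2, ?_⟩
    have e : (u : G) * (a * u * a⁻¹) = 1 := hu
    have e2 : a * u * a⁻¹ = u := by
      rw [← inv_eq_of_mul_eq_one_right e]
      exact inv_eq_of_mul_eq_one_right (by rw [← pow_two]; exact hUe.2 _ u.2)
    exact (mul_inv_eq_iff_eq_mul.mp e2).symm
  have hUle : Nat.card U ≤ Nat.card Ua * Nat.card Ua := by
    rw [← f.ker.card_mul_index, index_ker]
    refine Nat.mul_le_mul ?_ (card_le_of_le hfr)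
    rw [← card_map_of_injective U.subtype_injective]
    exact card_le_of_le hfk
  -- the fixed points of `A`
  set C := U ⊓ centralizer (A : Set G) with hC
  have hCUa : C ≤ Ua := fun u hu =>
    hmemUa.mpr ⟨hu.1, (mem_centralizer_iff.mp hu.2 a ha).symm⟩
  have hsup : ∀ W ≤ Ua, Nat.card W * Nat.card W ≤ Nat.card ↥(W ⊔ cj k W : Subgroup G) := by
    intro W hW
    have h := card_mul_le W (cj k W)
    have hb : W ⊓ cj k W = ⊥ := eq_bot_iff.mpr ((inf_le_inf hW (cj_le_cj hW)).trans hdis.le)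
    rwa [card_cj, hb, card_bot, mul_one] at h
  have hsupU : ∀ W ≤ Ua, W ⊔ cj k W ≤ U := fun W hW =>
    sup_le (hW.trans inf_le_left) (by
      rintro _ ⟨u, hu, rfl⟩; exact hkconj (inf_le_left (α := Subgroup G) (hW hu)))
  have hC2 : Nat.card C ≤ 2 := by
    have hcomm : ∀ b ∈ B, ∀ u ∈ C ⊔ cj k C, Commute b u := by
      intro b hb u hu
      have hle : C ⊔ cj k C ≤ centralizer ({b} : Set G) := by
        refine sup_le (fun v hv => mem_centralizer_singleton_iff.mpr
          (mem_centralizer_iff.mp hv.2 b (hBA hb)).symm) ?_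
        rintro _ ⟨v, hv, rfl⟩
        exact mem_centralizer_singleton_iff.mpr
          (hBk b hb v hv.1 (mem_centralizer_iff.mp hv.2 b (hBA hb))).eq.symm
      exact (mem_centralizer_singleton_iff.mp (hle hu)).symm
    have h1 := max_bound hA hBA ((hsupU C hCUa).trans hUP) (hUe.mono (hsupU C hCUa)) hcomm
    have h2 : Nat.card A ≤ 2 * Nat.card B := card_le_two_mul hAB
    have h3 : Nat.card ↥((C ⊔ cj k C) ⊓ centralizer (A : Set G)) ≤ Nat.card C :=
      card_le_of_le (inf_le_inf_right _ (hsupU C hCUa))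
    have h4 := hsup C hCUa
    have hBpos := Nat.card_pos (α := B)
    have hCpos := Nat.card_pos (α := C)
    have h5 : Nat.card B * (Nat.card C * Nat.card C) ≤ 2 * Nat.card B * Nat.card C :=
      ((Nat.mul_le_mul_left _ h4).trans h1).trans (Nat.mul_le_mul h2 h3)
    refine Nat.le_of_mul_le_mul_right ?_ (Nat.mul_pos hBpos hCpos)
    linarith
  by_cases hUa0 : Ua = ⊥
  · rw [hUa0, card_bot] at hUle; omega
  have hBUa : B ≤ normalizer (Ua : Set G) := fun b hb => H61.mem_normalizer_of_conj_mem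
    fun u hu => by
      obtain ⟨huU, hua⟩ := hmemUa.mp hu
      have hba : Commute b a := hA.2.1.comm (hBA hb) ha
      exact hmemUa.mpr ⟨(mem_normalizer_iff.mp (hBU hb) u).mp huU,
        (hba.mul_left hua).mul_left hba.inv_left⟩
  have hfixUa : Ua ⊓ centralizer (B : Set G) ≤ C := by
    rintro u ⟨hu, hc⟩
    refine ⟨(hmemUa.mp hu).1, mem_centralizer_iff.mpr fun x hx => ?_⟩
    rcases hAB x hx with h | h
    · exact mem_centralizer_iff.mp hc x h
    · have h' : Commute (a⁻¹ * (a * x)) u := (hmemUa.mp hu).2.symm.inv_left.mul_left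
        (mem_centralizer_iff.mp hc _ h)
      rw [inv_mul_cancel_left] at h'
      exact h'.eq
  have hlin := fixed_line_bound _ rfl (hUe.mono inf_le_left) hUa0 (hA.2.1.mono hBA) hBUa
    ((card_le_of_le hfixUa).trans hC2)
  have hUeq : Ua ⊔ cj k Ua = U :=
    Subgroup.eq_of_le_of_card_ge (hsupU Ua le_rfl) (hUle.trans (hsup Ua le_rfl))
  have hB' : B ⊓ centralizer (Ua : Set G) ≤ centralizer (U : Set G) := by
    rintro b ⟨hb, hc⟩
    rw [mem_centralizer_iff]
    intro u hu
    have hle : Ua ⊔ cj k Ua ≤ centralizer ({b} : Set G) := by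
      refine sup_le (fun v hv => mem_centralizer_singleton_iff.mpr (mem_centralizer_iff.mp hc v hv)) ?_
      rintro _ ⟨v, hv, rfl⟩
      exact mem_centralizer_singleton_iff.mpr
        (hBk b hb v (hmemUa.mp hv).1 (mem_centralizer_iff.mp hc v hv).symm).eq.symm
    exact mem_centralizer_singleton_iff.mp (hle (hUeq.symm ▸ hu))
  have h6 := max_bound hA (inf_le_left.trans hBA) hUP hUe
    (B := B ⊓ centralizer (Ua : Set G)) fun b hb u hu => (mem_centralizer_iff.mp (hB' hb) u hu).symm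
  have h2 : Nat.card A ≤ 2 * Nat.card B := card_le_two_mul hAB
  have hUU : Nat.card Ua * Nat.card Ua ≤ Nat.card U := hUeq ▸ hsup Ua le_rfl
  set β := Nat.card ↥(B ⊓ centralizer (Ua : Set G))
  have hβ : 0 < β := Nat.card_pos
  have h7 : β * (Nat.card Ua * Nat.card Ua) ≤ 2 * Nat.card B * 2 :=
    ((Nat.mul_le_mul_left _ hUU).trans h6).trans (Nat.mul_le_mul h2 hC2)
  have h8 : Nat.card Ua ≤ 2 := by
    refine Nat.le_of_mul_le_mul_right ?_ (Nat.mul_pos hβ (Nat.card_pos (α := Ua)))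
    linarith
  calc Nat.card U ≤ Nat.card Ua * Nat.card Ua := hUle
    _ ≤ 2 * 2 := Nat.mul_le_mul h8 h8

end Cfsg.Agent.H85.ZN
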