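import Cfsg.Agent.H85.ZN.Comp
import Cfsg.Agent.H85.ZN.Small

/-!
The components attached to transvections coming from largest elementary abelian subgroups.
-/

set_option autoImplicit false
set_option linter.style.haveILetI false
set_option linter.unusedSectionVars false

namespace Cfsg.Agent.H85.ZN

open Subgroup Cfsg.Agent.Thompson
open scoped commutatorElement

variable {G : Type*} [Group G] [Finite G] {L T : Subgroup G}

/-- `a` lies in a largest elementary abelian subgroup of `T` and induces a transvection. -/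
def Adm (L T : Subgroup G) (a : G) : Prop := ∃ A ∈ maxIn 2 T, a ∈ A ∧ TvL L a

theorem Adm.tvL {a : G} (h : Adm L T a) : TvL L a := h.choose_spec.2.2

theorem Adm.mem_jay {a : G} (h : Adm L T a) : a ∈ jay 2 T :=
  le_jay h.choose_spec.1 h.choose_spec.2.1

/-- The elements of `L` fixing every plane. -/
noncomputable def plStab (L : Subgroup G) : Subgroup G :=
  L ⊓ ⨅ (b : G) (_ : TvL L b), normalizer (planeA L b : Set G)

theorem mem_plStab {g : G} (hg : g ∈ L) (h : ∀ b, TvL L b → ∀ v ∈ planeA L b, g * v * g⁻¹ ∈ planeA L b) :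
    g ∈ plStab L := by
  refine ⟨hg, ?_⟩
  exact mem_iInf.mpr fun b => mem_iInf.mpr fun hb => H61.mem_normalizer_of_conj_mem (h b hb)

theorem cj_planeA_of_plStab {g b : G} (hg : g ∈ plStab L) (hb : TvL L b) :
    cj g (planeA L b) = planeA L b := by
  exact cj_of_mem_normalizer (mem_iInf.mp (mem_iInf.mp hg.2 b) hb)

theorem oddCl_idem (K : Subgroup G) : oddCl (oddCl K) = oddCl K :=
  le_antisymm (oddCl_le _) ((closure_le _).mpr fun _ hx => mem_oddCl (mem_oddCl hx.1 hx.2) hx.2)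

section

variable (Z : ZHyp G) (h : LHyp L T)
include Z h

theorem LHyp.Cn_le_plStab : Cn L ≤ plStab L := fun g hg => mem_plStab hg.1 fun b hb v hv => by
  rw [← mem_centralizer_iff.mp hg.2 v (planeA_le (h.setup Z) hb hv), mul_inv_cancel_right]
  exact hv

theorem LHyp.smul_plane {a b : G} (ha : TvL L a) (hb : TvL L b) {k : ↥(Hq L)}
    (hk : k ∈ zpowers ((h.setup Z).dOf ha.tv) ∨ k = img L ⟨a, ha.mem⟩) {v : Vc L}
    (hv : v ∈ (h.setup Z).plane hb.tv) : k • v ∈ (h.setup Z).plane hb.tv := by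
  set S := h.setup Z
  by_cases hpl : S.plane ha.tv = S.plane hb.tv
  · rw [← hpl] at hv ⊢
    rcases hk with hk | rfl
    · rcases S.dOf_cases (S.orderOf_dOf ha.tv) hk with rfl | rfl | rfl
      · rwa [one_smul]
      · exact S.dOf_smul_mem ha.tv hv
      · rw [mul_smul]; exact S.dOf_smul_mem ha.tv (S.dOf_smul_mem ha.tv hv)
    · exact S.tv_smul_mem_plane ha.tv hv
  · obtain ⟨h1, h2⟩ := (S.of_plane_ne ha.tv hb.tv hpl).1 v hv
    rcases hk with hk | rfl
    · have : zpowers (S.dOf ha.tv) ≤ MulAction.stabilizer ↥(Hq L) v :=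
        zpowers_le.mpr (MulAction.mem_stabilizer_iff.mpr h1)
      rwa [MulAction.mem_stabilizer_iff.mp (this hk)]
    · rwa [h2]

theorem LHyp.mem_plStab_of_img {a g : G} (ha : TvL L a) (hg : g ∈ L)
    (hk : img L ⟨g, hg⟩ ∈ zpowers ((h.setup Z).dOf ha.tv) ∨ img L ⟨g, hg⟩ = img L ⟨a, ha.mem⟩) :
    g ∈ plStab L := mem_plStab hg fun b hb v hv => by
  rw [planeA_eq (h.setup Z) hb] at hv ⊢
  obtain ⟨w, hw, rfl⟩ := hv
  refine ⟨img L ⟨g, hg⟩ • w, h.smul_plane Z ha hb hk hw, ?_⟩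
  rw [img_smul, coe_subtype, coe_smul_Vc]

theorem LHyp.tv_mem_plStab {a : G} (ha : TvL L a) : a ∈ plStab L :=
  h.mem_plStab_of_img Z ha ha.mem (.inr rfl)

theorem LHyp.piece_le_plStab {a : G} (ha : TvL L a) : piece L a ≤ plStab L := by
  intro x hx
  obtain ⟨hxL, ⟨S, ha', ht', hmem⟩, -⟩ := (h.mem_piece Z ha.mem ha.1 ha.tv).mp hx
  exact h.mem_plStab_of_img Z ha hxL (.inl hmem)

theorem LHyp.jay_le_plStab : jay 2 T ≤ plStab L :=
  (h.jay_le_tv Z).trans ((closure_le _).mpr (Set.union_subset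
    (fun _ ha => h.tv_mem_plStab Z ha.2) (h.Cn_le_plStab Z)))

theorem LHyp.jay_le_normalizer_comp {a : G} (ha : TvL L a) :
    jay 2 T ≤ normalizer (compOf L a : Set G) := fun g hg =>
  have hg' := h.jay_le_plStab Z hg
  h.mem_normalizer_comp Z ha hg'.1 (cj_planeA_of_plStab hg' ha)

theorem LHyp.core_le_normalizer_comp {a : G} (ha : TvL L a) :
    Cfsg.pCoreOf 2 L ≤ normalizer (compOf L a : Set G) := fun g hg =>
  have hg' := h.Cn_le_plStab Z (pCoreOf_le_Cn L hg)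
  h.mem_normalizer_comp Z ha hg'.1 (cj_planeA_of_plStab hg' ha)

/-- The component maps onto the piece modulo `O₂(L)`. -/
theorem LHyp.comp_gen {a : G} (ha : TvL L a) :
    ∃ (u : L) (k : G) (hk : k ∈ L), k ∈ compOf L a ∧ proj L ⟨k, hk⟩ = proj L u ∧
      img L u = (h.setup Z).dOf ha.tv ∧ orderOf (proj L u) = 3 ∧
      proj L ⟨a, ha.mem⟩ * proj L u * proj L ⟨a, ha.mem⟩ = (proj L u)⁻¹ ∧
      (∀ x : G, x ∈ piece L a ↔ ∃ hx : x ∈ L, proj L ⟨x, hx⟩ ∈ zpowers (proj L u)) := by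
  obtain ⟨u, hug, himg, hAUA, hU3, hmem, hord⟩ := h.gen Z ha
  set U := proj L u with hU
  obtain ⟨n, m, hm, hnm⟩ := Nat.exists_eq_pow_mul_and_not_dvd (orderOf_pos u).ne' 2 (by omega)
  -- a power of order prime to two and with exponent one modulo three
  obtain ⟨e, he3, he2⟩ : ∃ e : ℕ, e % 3 = 1 ∧ 2 ^ n ∣ e :=
    ⟨2 ^ n * 2 ^ n, by rw [← pow_add, ← two_mul, pow_mul, Nat.pow_mod]; norm_num, dvd_mul_right _ _⟩
  refine ⟨u, (u : G) ^ e, L.pow_mem u.2 e, ?_, ?_, himg, hord, hAUA, hmem⟩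
  · refine mem_oddCl ((hmem _).mpr ⟨L.pow_mem u.2 e, ?_⟩) ?_
    · rw [show (⟨(u : G) ^ e, L.pow_mem u.2 e⟩ : L) = u ^ e from rfl, map_pow]
      exact pow_mem (mem_zpowers U) e
    · refine Odd.of_dvd_nat (Nat.not_even_iff_odd.mp fun hev => hm (even_iff_two_dvd.mp hev))
        (orderOf_dvd_of_pow_eq_one ?_ : orderOf ((u : G) ^ e) ∣ m)
      obtain ⟨c, rfl⟩ := he2
      rw [← pow_mul, show 2 ^ n * c * m = orderOf u * c by rw [hnm]; ring, pow_mul,
        ← Subgroup.orderOf_coe, pow_orderOf_eq_one, one_pow]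
  · rw [show (⟨(u : G) ^ e, L.pow_mem u.2 e⟩ : L) = u ^ e from rfl, map_pow, ← hU,
      ← pow_mod_orderOf, hord, he3, pow_one]

theorem LHyp.core_comp {a : G} (ha : TvL L a) :
    Cfsg.pCoreOf 2 (compOf L a) = compOf L a ⊓ Cfsg.pCoreOf 2 L ∧
    (Cfsg.pCoreOf 2 (compOf L a)).relIndex (compOf L a) = 3 := by
  obtain ⟨u, k, hkL, hkK, hku, -, hord, -, hmem⟩ := h.comp_gen Z ha
  have hKP : compOf L a ≤ piece L a := oddCl_le _
  have hKL : compOf L a ≤ L := hKP.trans (piece_le L a)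
  have hcore : Cfsg.pCoreOf 2 (compOf L a) = compOf L a ⊓ Cfsg.pCoreOf 2 L := by
    refine le_antisymm (fun x hx => ?_) (le_pCoreOf ((isPGroup_pCoreOf L).to_le inf_le_right)
      inf_le_left ?_)
    · have hxK := pCoreOf_le 2 _ hx
      refine ⟨hxK, ?_⟩
      obtain ⟨hxL, hxU⟩ := (hmem x).mp (hKP hxK)
      obtain ⟨j, hj⟩ := isPGroup_pCoreOf _ ⟨x, hx⟩
      have hj' : x ^ 2 ^ j = 1 := congrArg Subtype.val hj
      have hz : orderOf (proj L ⟨x, hxL⟩) ∣ 3 := by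
        rw [← hord, ← Nat.card_zpowers, ← Nat.card_zpowers]
        exact card_dvd_of_le (zpowers_le.mpr hxU)
      have h1 : proj L ⟨x, hxL⟩ = 1 := eq_one_of_odd_two (k := j)
        (Odd.of_dvd_nat (by decide) hz)
        (by rw [← map_pow, show (⟨x, hxL⟩ : L) ^ 2 ^ j = 1 from Subtype.ext hj', map_one])
      exact proj_eq_one.mp h1
    · intro g hg
      refine H61.mem_normalizer_of_conj_mem fun x hx =>
        ⟨(compOf L a).mul_mem ((compOf L a).mul_mem hg hx.1) ((compOf L a).inv_mem hg), ?_⟩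
      exact (mem_normalizer_iff.mp (le_normalizer_pCoreOf L (hKL hg)) x).mp hx.2
  refine ⟨hcore, ?_⟩
  rw [hcore, inf_relIndex_left, ← relIndex_subgroupOf hKL]
  have hker : (Cfsg.pCoreOf 2 L).subgroupOf L = (proj L).ker := (QuotientGroup.ker_mk' _).symm
  rw [hker, relIndex_ker, ← hord, ← Nat.card_zpowers]
  suffices heq : ((compOf L a).subgroupOf L).map (proj L) = zpowers (proj L u) by rw [heq]
  refine le_antisymm ?_ (zpowers_le.mpr ⟨⟨k, hkL⟩, hkK, hku⟩)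
  rintro _ ⟨⟨x, hxL⟩, hx, rfl⟩
  exact ((hmem x).mp (hKP hx)).2

theorem LHyp.comm_comp_jay {a : G} (ha : Adm L T a) :
    ⁅compOf L a, jay 2 T⁆ = compOf L a := by
  obtain ⟨u, k, hkL, hkK, hku, -, hord, hAUA, hmem⟩ := h.comp_gen Z ha.tvL
  have hKP : compOf L a ≤ piece L a := oddCl_le _
  have hKL : compOf L a ≤ L := hKP.trans (piece_le L a)
  set K := compOf L a with hK
  set N := ⁅K, jay 2 T⁆ with hN
  have hNK : N ≤ K := commutator_le.mpr fun x hx y hy => by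
    rw [commutatorElement_def, mul_assoc x y, mul_assoc x]
    exact K.mul_mem hx
      ((mem_normalizer_iff.mp (h.jay_le_normalizer_comp Z ha.tvL hy) _).mp (K.inv_mem hx))
  have hnorm : ∀ g ∈ K, ∀ x ∈ N, g * x * g⁻¹ ∈ N := by
    intro g hg x hx
    induction hx using closure_induction with
    | mem x hx =>
      obtain ⟨y, hy, z, hz, rfl⟩ := hx
      have : g * ⁅y, z⁆ * g⁻¹ = ⁅g * y, z⁆ * ⁅g, z⁆⁻¹ := by
        simp only [commutatorElement_def]; group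
      rw [this]
      exact N.mul_mem (commutator_mem_commutator (K.mul_mem hg hy) hz)
        (N.inv_mem (commutator_mem_commutator hg hz))
    | one => simp [N.one_mem]
    | mul x y _ _ hx hy => simpa [mul_assoc] using N.mul_mem hx hy
    | inv x _ hx => simpa [mul_assoc] using N.inv_mem hx
  refine le_antisymm hNK ?_
  have hn : ⁅k, a⁆ ∈ N := commutator_mem_commutator hkK ha.mem_jay
  have hU3 : proj L u ^ 3 = 1 := hord ▸ pow_orderOf_eq_one _
  -- its image is a generator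
  have himg : proj L ⟨⁅k, a⁆, hKL (hNK hn)⟩ = proj L u ^ 2 := by
    rw [show (⟨⁅k, a⁆, hKL (hNK hn)⟩ : L) = ⁅(⟨k, hkL⟩ : L), ⟨a, ha.tvL.mem⟩⁆ from rfl,
      commutatorElement_def, map_mul, map_mul, map_mul, map_inv, map_inv, hku]
    have hA : (proj L ⟨a, ha.tvL.mem⟩)⁻¹ = proj L ⟨a, ha.tvL.mem⟩ := by
      rw [← map_inv]; congr 1; exact Subtype.ext ha.tvL.inv_eq
    rw [hA, mul_assoc (proj L u) _ (proj L u)⁻¹, ← hAUA]
    have hAA : proj L ⟨a, ha.tvL.mem⟩ * proj L ⟨a, ha.tvL.mem⟩ = 1 := by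
      nth_rw 2 [← hA]; rw [mul_inv_cancel]
    simp only [mul_assoc, hAA, mul_one]
    rw [← mul_assoc (proj L ⟨a, ha.tvL.mem⟩), hAA, one_mul, pow_two]
  show oddCl (piece L a) ≤ N
  rw [oddCl, closure_le]
  rintro x ⟨hxP, ho⟩
  have hxK : x ∈ K := mem_oddCl hxP ho
  obtain ⟨hxL, j, hj⟩ := (hmem x).mp hxP
  -- `x = n q` with `q` a 2-element
  set q := (⁅k, a⁆ ^ (2 * j))⁻¹ * x with hq
  have hqQ : q ∈ Cfsg.pCoreOf 2 L := by
    have hqL : q ∈ L := L.mul_mem (L.inv_mem (L.zpow_mem (hKL (hNK hn)) _)) hxL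
    refine (proj_eq_one (x := (⟨q, hqL⟩ : L))).mp ?_
    rw [show (⟨q, hqL⟩ : L) = ((⟨⁅k, a⁆, hKL (hNK hn)⟩ : L) ^ (2 * j))⁻¹ * ⟨x, hxL⟩ from
      Subtype.ext (by simp [hq]), map_mul, map_inv, map_zpow, himg, inv_mul_eq_one, ← hj,
      ← zpow_natCast, ← zpow_mul]
    rw [show ((2 : ℕ) : ℤ) * (2 * j) = j + j * 3 by push_cast; ring, zpow_add, mul_comm j 3, zpow_mul,
      show proj L u ^ (3 : ℤ) = 1 from by exact_mod_cast hU3, one_zpow, mul_one]
  obtain ⟨i, hi⟩ := isPGroup_pCoreOf L ⟨q, hqQ⟩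
  have hi' : q ^ 2 ^ i = 1 := congrArg Subtype.val hi
  have hqK : q ∈ K := K.mul_mem (K.inv_mem (K.zpow_mem (hNK hn) _)) hxK
  haveI : (N.subgroupOf K).Normal := ⟨fun y hy g => hnorm g g.2 y hy⟩
  have h1 : (((⟨x, hxK⟩ : K)) : K ⧸ N.subgroupOf K) = ((⟨q, hqK⟩ : K) : K ⧸ N.subgroupOf K) := by
    refine (QuotientGroup.eq).mpr (mem_subgroupOf.mpr ?_)
    show x⁻¹ * q ∈ N
    rw [hq, ← mul_assoc]
    have := hnorm x⁻¹ (K.inv_mem hxK) _ (N.inv_mem (N.zpow_mem hn (2 * j)))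
    rwa [inv_inv] at this
  have h2 : (((⟨x, hxK⟩ : K)) : K ⧸ N.subgroupOf K) = 1 := by
    refine eq_one_of_odd_two (k := i) (Odd.of_dvd_nat ho ?_) ?_
    · have := orderOf_map_dvd (QuotientGroup.mk' (N.subgroupOf K)) (⟨x, hxK⟩ : K)
      rwa [Subgroup.orderOf_mk] at this
    · rw [h1, ← QuotientGroup.mk_pow, show (⟨q, hqK⟩ : K) ^ 2 ^ i = 1 from Subtype.ext hi']
      rfl
  exact mem_subgroupOf.mp ((QuotientGroup.eq_one_iff _).mp h2)

end

end Cfsg.Agent.H85.ZN
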