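import Cfsg.Agent.H85.ZN.CompJ

/-!
The four-group attached to a component, and the verification of the definition of a component.
-/

set_option autoImplicit false
set_option linter.style.haveILetI false
set_option linter.unusedSectionVars false

namespace Cfsg.Agent.H85.ZN

open Subgroup Cfsg.Agent.Thompson
open scoped commutatorElement

variable {G : Type*} [Group G] [Finite G] {L T : Subgroup G}

theorem zpow3_cases {H : Type*} [Group H] {d : H} (hd : orderOf d = 3) {x : H}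
    (hx : x ∈ zpowers d) : x = 1 ∨ x = d ∨ x = d * d := by
  obtain ⟨n, rfl⟩ := hx
  show d ^ n = 1 ∨ d ^ n = d ∨ d ^ n = d * d
  rw [← zpow_mod_orderOf, hd]
  push_cast
  rcases (by omega : n % 3 = 0 ∨ n % 3 = 1 ∨ n % 3 = 2) with h | h | h <;> rw [h]
  · exact .inl (zpow_zero d)
  · exact .inr (.inl (zpow_one d))
  · exact .inr (.inr (by rw [zpow_ofNat, pow_two]))

section

variable (Z : ZHyp G) (h : LHyp L T)
include Z h

theorem LHyp.comp_le {a : G} : compOf L a ≤ L := (oddCl_le _).trans (piece_le L a)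

set_option maxHeartbeats 800000 in
theorem LHyp.wOf_comp {a : G} (ha : Adm L T a) : Cfsg.wOf (compOf L a) = planeA L a := by
  obtain ⟨u, k, hkL, hkK, hku, himgu, hord, hAUA, hmem⟩ := h.comp_gen Z ha.tvL
  obtain ⟨hcore, -⟩ := h.core_comp Z ha.tvL
  obtain ⟨A, hA, haA, -⟩ := id ha
  set S := h.setup Z
  set K := compOf L a with hK
  set Z1 := Cfsg.omegaCenterOf (Cfsg.pCoreOf 2 K) with hZ1
  have hKL : K ≤ L := h.comp_le Z
  have haL := ha.tvL.mem
  have hainv := ha.tvL.inv_eq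
  have hU3 : proj L u ^ 3 = 1 := hord ▸ pow_orderOf_eq_one _
  have hmemQ : ∀ x, x ∈ K → x ∈ Cfsg.pCoreOf 2 L → x ∈ Cfsg.pCoreOf 2 K := fun x h1 h2 => by
    rw [hcore]; exact ⟨h1, h2⟩
  have hcent : ∀ {x z : G}, x ∈ Cfsg.pCoreOf 2 K → z ∈ Z1 → Commute x z := fun hx hz =>
    (mem_om.mp hz).2.1 _ hx
  have hNK : ∀ g : G, g ∈ normalizer (K : Set G) → g ∈ normalizer (Z1 : Set G) := fun g hg =>
    normalizer_le_normalizer_om _ (normalizer_le_normalizer_pCoreOf K hg)
  have hkZ : k ∈ normalizer (Z1 : Set G) := hNK k (le_normalizer hkK)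
  have haK : a ∈ normalizer (K : Set G) := h.jay_le_normalizer_comp Z ha.tvL ha.mem_jay
  have hk3 : ∀ z ∈ Z1, Commute (k * k * k) z := fun z hz => hcent (hmemQ _
    (K.mul_mem (K.mul_mem hkK hkK) hkK) ((proj_eq_one (x := (⟨k, hkL⟩ : L) * ⟨k, hkL⟩ * ⟨k, hkL⟩)).mp
      (by rw [map_mul, map_mul, hku, ← pow_three', hU3]))) hz
  have hq : k * (a * k * a) ∈ Cfsg.pCoreOf 2 K := by
    have hakK : a * k * a ∈ K := by
      have := (mem_normalizer_iff.mp haK k).mp hkK
      rwa [hainv] at this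
    refine hmemQ _ (K.mul_mem hkK hakK)
      ((proj_eq_one (x := (⟨k, hkL⟩ : L) * (⟨a, haL⟩ * ⟨k, hkL⟩ * ⟨a, haL⟩))).mp ?_)
    rw [map_mul, map_mul, map_mul, hku, hAUA, mul_inv_cancel]
  -- the module
  let f : Z1 →* G :=
    { toFun := fun z => (z : G) * (k * z * k⁻¹)
      map_one' := by simp
      map_mul' := fun z w => by
        have hc : Commute (w : G) (k * z * k⁻¹) :=
          om_comm w.2 ((mem_normalizer_iff.mp hkZ _).mp z.2)
        rw [coe_mul, show k * ((z : G) * w) * k⁻¹ = k * z * k⁻¹ * (k * w * k⁻¹) by group,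
          mul_assoc (z : G) (w : G), ← mul_assoc (w : G), hc.eq]
        group }
  set U := f.range with hU
  have hf : ∀ {z : G} (hz : z ∈ Z1), z * (k * z * k⁻¹) ∈ U := fun {z} hz => ⟨⟨z, hz⟩, rfl⟩
  have hUZ : U ≤ Z1 := by
    rintro _ ⟨z, rfl⟩
    exact Z1.mul_mem z.2 ((mem_normalizer_iff.mp hkZ _).mp z.2)
  have hKL' : ∀ x ∈ K, x ∈ L := fun x hx => hKL hx
  have hWU : Cfsg.wOf K ≤ U := by
    rw [Cfsg.wOf, ← hZ1, commutator_le]
    intro z hz x hx
    obtain ⟨hxL, hxU⟩ := (hmem x).mp (oddCl_le _ hx)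
    have hz2 : z⁻¹ = z := inv_eq_of_mul_eq_one_right (om_sq hz)
    have hkey : ∀ (y : G) (hy : y ∈ K), proj L ⟨x, hxL⟩ = proj L ⟨y, hKL' y hy⟩ →
        ⁅z, x⁆ = z * (y * z * y⁻¹) := by
      intro y hy e
      have hq' : y⁻¹ * x ∈ Cfsg.pCoreOf 2 K := hmemQ _ (K.mul_mem (K.inv_mem hy) hx)
        ((proj_eq_one (x := (⟨y, hKL' y hy⟩ : L)⁻¹ * ⟨x, hxL⟩)).mp
          (by rw [map_mul, map_inv, e, inv_mul_cancel]))
      rw [commutatorElement_def, hz2]
      calc z * x * z * x⁻¹ = z * (y * ((y⁻¹ * x) * z * (y⁻¹ * x)⁻¹) * y⁻¹) := by group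
        _ = z * (y * z * y⁻¹) := by rw [(hcent hq' hz).eq, mul_inv_cancel_right]
    rcases zpow3_cases hord hxU with e | e | e
    · rw [hkey 1 K.one_mem (by rw [e]; exact (map_one (proj L)).symm)]
      simp only [one_mul, inv_one, mul_one, om_sq hz]
      exact U.one_mem
    · rw [hkey k hkK (e.trans hku.symm)]
      exact hf hz
    · rw [hkey (k * k) (K.mul_mem hkK hkK) (by
        rw [e, show (⟨k * k, hKL' _ (K.mul_mem hkK hkK)⟩ : L) = ⟨k, hkL⟩ * ⟨k, hkL⟩ from rfl,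
          map_mul, hku])]
      have hw : k * z * k⁻¹ ∈ Z1 := (mem_normalizer_iff.mp hkZ _).mp hz
      have := U.mul_mem (hf hz) (hf hw)
      have e2 : z * (k * z * k⁻¹) * (k * z * k⁻¹ * (k * (k * z * k⁻¹) * k⁻¹)) =
          z * (k * k * z * (k * k)⁻¹) := by
        calc _ = z * ((k * z * k⁻¹) * (k * z * k⁻¹)) * (k * k * z * (k * k)⁻¹) := by group
          _ = _ := by rw [om_sq hw, mul_one]
      rwa [e2] at this
  have hfree : ∀ w ∈ U, Commute k w → w = 1 := by
    rintro _ ⟨⟨z, hz⟩, rfl⟩ hc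
    change Commute k (z * (k * z * k⁻¹)) at hc
    show z * (k * z * k⁻¹) = 1
    set w := k * z * k⁻¹ with hw
    have hwZ : w ∈ Z1 := (mem_normalizer_iff.mp hkZ _).mp hz
    have e1 : w * (k * w * k⁻¹) = z * w := by
      rw [← mul_inv_eq_iff_eq_mul.mpr hc.eq]
      rw [hw]; group
    have e2 : k * w * k⁻¹ = z := by
      rw [show z * w = w * z from om_comm hz hwZ] at e1
      exact mul_left_cancel e1
    have e3 : Commute (k * k) z := by
      refine mul_inv_eq_iff_eq_mul.mp ?_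
      conv_rhs => rw [← e2, hw]
      group
    have e4 : Commute k z := by
      have := e3.inv_left.mul_left (hk3 z hz)
      simpa [mul_assoc] using this
    rw [hw, e4.eq, mul_inv_cancel_right, om_sq hz]
  have hak : ∀ z ∈ Z1, a * (k * z * k⁻¹) * a⁻¹ = k⁻¹ * (a * z * a⁻¹) * k := fun z hz => by
    set z' := a * z * a⁻¹ with hz'
    have hz'Z : z' ∈ Z1 := (mem_normalizer_iff.mp (hNK a haK) _).mp hz
    have haa : ∀ x : G, a * (a * x) = x := fun x => by rw [← mul_assoc, ha.tvL.1, one_mul]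
    calc a * (k * z * k⁻¹) * a⁻¹ = (a * k * a) * z' * (a * k * a)⁻¹ := by
          rw [hz']; simp only [hainv, mul_inv_rev, mul_assoc, haa]
      _ = k⁻¹ * ((k * (a * k * a)) * z' * (k * (a * k * a))⁻¹) * k := by group
      _ = _ := by rw [(hcent hq hz'Z).eq, mul_inv_cancel_right]
  have hfU : ∀ g : G, g ∈ normalizer (Z1 : Set G) →
      (∀ z ∈ Z1, g * (k * z * k⁻¹) * g⁻¹ = k * (g * z * g⁻¹) * k⁻¹) →
      g ∈ normalizer (U : Set G) := by
    intro g hg hcom
    refine H61.mem_normalizer_of_conj_mem ?_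
    rintro _ ⟨⟨z, hz⟩, rfl⟩
    show g * (z * (k * z * k⁻¹)) * g⁻¹ ∈ U
    rw [show g * (z * (k * z * k⁻¹)) * g⁻¹ = g * z * g⁻¹ * (g * (k * z * k⁻¹) * g⁻¹) by group,
      hcom z hz]
    exact hf ((mem_normalizer_iff.mp hg _).mp hz)
  have hkU : k ∈ normalizer (U : Set G) := hfU k hkZ fun z _ => rfl
  have haU : a ∈ normalizer (U : Set G) := by
    refine H61.mem_normalizer_of_conj_mem ?_
    rintro _ ⟨⟨z, hz⟩, rfl⟩
    show a * (z * (k * z * k⁻¹)) * a⁻¹ ∈ U
    have hz' : a * z * a⁻¹ ∈ Z1 := (mem_normalizer_iff.mp (hNK a haK) _).mp hz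
    have hw : k⁻¹ * (a * z * a⁻¹) * k ∈ Z1 := by
      have := (mem_normalizer_iff.mp (inv_mem hkZ) _).mp hz'
      rwa [inv_inv] at this
    rw [show a * (z * (k * z * k⁻¹)) * a⁻¹ = a * z * a⁻¹ * (a * (k * z * k⁻¹) * a⁻¹) by group,
      hak z hz, om_comm hz' hw]
    have := hf hw
    rwa [show k * (k⁻¹ * (a * z * a⁻¹) * k) * k⁻¹ = a * z * a⁻¹ by group] at this
  -- the plane
  have himgk : img L ⟨k, hkL⟩ = S.dOf ha.tvL.tv := by
    have : ((u⁻¹ * ⟨k, hkL⟩ : L) : G) ∈ Cn L :=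
      pCoreOf_le_Cn L (proj_eq_one.mp (by rw [map_mul, map_inv, hku, inv_mul_cancel]))
    rw [mem_Cn_coe, map_mul, map_inv, inv_mul_eq_one] at this
    exact this.symm.trans himgu
  have hQN := h.core_le_normalizer_comp Z ha.tvL
  have hdelta : ∀ v ∈ planeA L a, ∃ w ∈ planeA L a, v = w * (k * w * k⁻¹) := by
    intro v hv
    rw [planeA_eq S ha.tvL] at hv ⊢
    obtain ⟨v', hv', rfl⟩ := hv
    let g : S.plane ha.tvL.tv → S.plane ha.tvL.tv := fun w =>
      ⟨(w : Vc L) * S.dOf ha.tvL.tv • (w : Vc L), mul_mem w.2 (S.dOf_smul_mem _ w.2)⟩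
    have hg : Function.Injective g := by
      intro x y hxy
      have hxy' := congrArg Subtype.val hxy
      refine Subtype.ext ?_
      have hmem' : (x : Vc L) * (y : Vc L) ∈ S.plane ha.tvL.tv := mul_mem x.2 y.2
      have hfix : S.dOf ha.tvL.tv • ((x : Vc L) * y) = (x : Vc L) * y := by
        have e : (x : Vc L) * S.dOf ha.tvL.tv • (x : Vc L) = y * S.dOf ha.tvL.tv • (y : Vc L) := hxy'
        rw [smul_mul']
        calc S.dOf ha.tvL.tv • (x : Vc L) * S.dOf ha.tvL.tv • (y : Vc L) =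
              (x : Vc L) * (x * S.dOf ha.tvL.tv • (x : Vc L)) * S.dOf ha.tvL.tv • (y : Vc L) := by
              rw [mul_self_mul Vc_elem]
          _ = (x : Vc L) * y * (S.dOf ha.tvL.tv • (y : Vc L) * S.dOf ha.tvL.tv • (y : Vc L)) := by
              rw [e]; simp only [mul_assoc]
          _ = _ := by rw [← smul_mul', Vc_elem, smul_one, mul_one]
      have h1 := S.eq_one_of_dOf_fixed _ hfix hmem'
      rw [mul_eq_one_iff_eq_inv, inv_eq Vc_elem] at h1
      exact h1
    obtain ⟨w, hw⟩ := Finite.injective_iff_surjective.mp hg ⟨v', hv'⟩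
    refine ⟨_, ⟨w, w.2, rfl⟩, ?_⟩
    have h1 : (w : Vc L) * S.dOf ha.tvL.tv • (w : Vc L) = v' := congrArg Subtype.val hw
    rw [← himgk, img_smul] at h1
    exact (congrArg Subtype.val h1).symm
  have hplZ : planeA L a ≤ Z1 := by
    intro v hv
    obtain ⟨w, hw, rfl⟩ := hdelta v hv
    have hwV := planeA_le S ha.tvL hw
    have hwQ := om_le _ hwV
    have hvV : w * (k * w * k⁻¹) ∈ Vc L := (Vc L).mul_mem hwV (conj_mem_Vc hkL hwV)
    have hvK : w * (k * w * k⁻¹) ∈ K := by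
      rw [show w * (k * w * k⁻¹) = w * k * w⁻¹ * k⁻¹ by
        rw [inv_eq_of_mul_eq_one_right (om_sq hwV)]; group]
      exact K.mul_mem ((mem_normalizer_iff.mp (hQN hwQ) k).mp hkK) (K.inv_mem hkK)
    refine mem_om.mpr ⟨hmemQ _ hvK (om_le _ hvV), fun q hq => ?_, (mem_om.mp hvV).2.2⟩
    rw [hcore] at hq
    exact (mem_om.mp hvV).2.1 q hq.2
  have hWle : planeA L a ≤ Cfsg.wOf K := by
    intro v hv
    obtain ⟨w, hw, rfl⟩ := hdelta v hv
    have := commutator_mem_commutator (hplZ hw) hkK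
    rwa [commutatorElement_def, inv_eq_of_mul_eq_one_right (om_sq (hplZ hw)), mul_assoc w k w,
      mul_assoc w] at this
  -- the part of `A` fixing the plane
  obtain ⟨c, -, hc1, hcP, hcv, hcf, -⟩ := S.tv_centre_mem ha.tvL.tv
  set τ := img L ⟨a, haL⟩ with hτ
  obtain ⟨⟨wne, hwne⟩, hwne1⟩ : ∃ w : S.plane ha.tvL.tv, w ≠ 1 := by
    haveI := Finite.one_lt_card_iff_nontrivial.mp
      (by rw [S.card_plane]; omega : 1 < Nat.card (S.plane ha.tvL.tv))
    exact exists_ne 1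
  obtain ⟨w0, hw0P, hw0⟩ : ∃ w ∈ S.plane ha.tvL.tv, τ • w ≠ w := by
    by_contra hall
    push Not at hall
    have e := S.tv_smul_dOf ha.tvL.tv wne
    rw [hall _ (S.dOf_smul_mem _ hwne), hall _ hwne] at e
    exact hwne1 (Subtype.ext (S.eq_one_of_dOf_fixed _ (MulAction.injective _ e.symm) hwne))
  have hw0c : τ • w0 = w0 * c := (hcv w0).resolve_left hw0
  set F := S.plane ha.tvL.tv ⊓ fix ↥(Vc L) ({τ} : Set ↥(Hq L)) with hF
  have hF2 : Nat.card F = 2 := by
    have h4 := S.card_plane ha.tvL.tv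
    have hd : Nat.card F ∣ 4 := h4 ▸ card_dvd_of_le inf_le_left
    have hne : Nat.card F ≠ 4 := fun e => hw0 (mem_fix_singleton.mp
      ((SetLike.ext_iff.mp (Subgroup.eq_of_le_of_card_ge (inf_le_left : F ≤ S.plane ha.tvL.tv)
        (by rw [e, h4])) w0).mpr hw0P).2)
    have h1 : 1 < Nat.card F := Finite.one_lt_card_iff_nontrivial.mpr
      ⟨⟨c, hcP, mem_fix_singleton.mpr hcf⟩, 1, fun e => hc1 (congrArg Subtype.val e)⟩
    have := Nat.le_of_dvd (by omega) hd
    interval_cases hh : Nat.card F <;> omega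
  have hfix : ∀ v ∈ S.plane ha.tvL.tv, τ • v = v → v = 1 ∨ v = c := fun v hv e =>
    pair_of_card_two hF2 ⟨hcP, mem_fix_singleton.mpr hcf⟩ hc1 ⟨hv, mem_fix_singleton.mpr e⟩
  -- two elements commuting with `τ` that agree on `w0` agree on the plane
  have hgen : ∀ g : ↥(Hq L), Commute τ g → g • w0 = w0 →
      ∀ v ∈ S.plane ha.tvL.tv, g • v = v := by
    intro g hg hgw v hv
    have hcfx : g • c = c := by
      have : g • (τ • w0) = τ • w0 := by rw [← mul_smul, ← hg.eq, mul_smul, hgw]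
      rw [hw0c, smul_mul', hgw] at this
      exact mul_left_cancel this
    rcases hcv v with e | e
    · rcases hfix v hv e with rfl | rfl
      · exact smul_one g
      · exact hcfx
    · have hvw : τ • (v * w0) = v * w0 := by
        rw [smul_mul', e, hw0c, mul_mul_mul_comm, Vc_elem c, mul_one]
      have hfx : g • (v * w0) = v * w0 := by
        rcases hfix _ (mul_mem hv hw0P) hvw with e' | e' <;> rw [e']
        · exact smul_one g
        · exact hcfx
      rw [smul_mul', hgw] at hfx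
      exact mul_right_cancel hfx
  set B := A ⊓ centralizer (planeA L a : Set G) with hB
  have hAL : A ≤ L := hA.1.trans h.syl.1
  have hAst : A ≤ plStab L := (le_jay hA).trans (h.jay_le_plStab Z)
  have hBmem : ∀ {x : G} (hx : x ∈ A), x ∈ B ↔
      ∀ v ∈ S.plane ha.tvL.tv, img L ⟨x, hAL hx⟩ • v = v := by
    intro x hx
    rw [hB, mem_inf, mem_centralizer_iff, planeA_eq S ha.tvL]
    constructor
    · rintro ⟨-, hc⟩ v hv
      exact (img_smul_eq_iff _ v).mpr (hc _ ⟨v, hv, rfl⟩).symm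
    · intro hc
      refine ⟨hx, ?_⟩
      rintro _ ⟨v, hv, rfl⟩
      exact ((img_smul_eq_iff _ v).mp (hc v hv)).eq.symm
  have hAB : ∀ x ∈ A, x ∈ B ∨ a * x ∈ B := by
    intro x hx
    set ξ := img L ⟨x, hAL hx⟩ with hξ
    have hcomm : Commute τ ξ := by
      rw [hτ, hξ, Commute, SemiconjBy, ← map_mul, ← map_mul]
      congr 1
      exact Subtype.ext (hA.2.1.comm haA hx)
    have hpres : ∀ v ∈ S.plane ha.tvL.tv, ξ • v ∈ S.plane ha.tvL.tv := by
      intro v hv
      have h2 : x * (v : G) * x⁻¹ ∈ planeA L a :=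
        cj_planeA_of_plStab (hAst hx) ha.tvL ▸
          conj_mem_cj (by rw [planeA_eq S ha.tvL]; exact ⟨v, hv, rfl⟩)
      rw [planeA_eq S ha.tvL] at h2
      obtain ⟨v', hv', e⟩ := h2
      have : ξ • v = v' := Subtype.ext (by rw [hξ, img_smul, coe_smul_Vc]; exact e.symm)
      rwa [this]
    have hax : a * x ∈ A := A.mul_mem haA hx
    by_cases hcase : ξ • w0 = w0
    · exact .inl ((hBmem hx).mpr (hgen ξ hcomm hcase))
    refine .inr ((hBmem hax).mpr ?_)
    rw [show img L ⟨a * x, hAL hax⟩ = τ * ξ by rw [hτ, hξ, ← map_mul]; rfl]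
    refine hgen _ ((Commute.refl τ).mul_right hcomm) ?_
    have hcfx : ξ • c = c := by
      rcases hfix _ (hpres c hcP) (by rw [← mul_smul, hcomm.eq, mul_smul, hcf]) with e | e
      · exact absurd (MulAction.injective ξ (e.trans (smul_one ξ).symm)) hc1
      · exact e
    have hτξ : τ • (ξ • w0) = ξ • w0 * c := by
      rw [← mul_smul, hcomm.eq, mul_smul, hw0c, smul_mul', hcfx]
    have h3 : ξ • w0 = w0 * c := by
      rcases hfix _ (mul_mem hw0P (hpres w0 hw0P))
        (by rw [smul_mul', hw0c, hτξ, mul_mul_mul_comm, Vc_elem c, mul_one]) with e | e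
      · exact absurd (by rw [← mul_self_mul Vc_elem w0 (ξ • w0), e, mul_one]) hcase
      · rw [← mul_self_mul Vc_elem w0 (ξ • w0), e]
    rw [mul_smul, h3, smul_mul', hw0c, hcf, mul_assoc, Vc_elem c, mul_one]
  -- `B` commutes with `k` on `Z1`
  have hBk0 : ∀ b ∈ B, b * k * b⁻¹ * k⁻¹ ∈ Cfsg.pCoreOf 2 K := by
    intro b hb
    have hbK : b ∈ normalizer (K : Set G) := h.jay_le_normalizer_comp Z ha.tvL (le_jay hA hb.1)
    have hck : b * k * b⁻¹ ∈ K := (mem_normalizer_iff.mp hbK k).mp hkK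
    refine hmemQ _ (K.mul_mem hck (K.inv_mem hkK)) ?_
    obtain ⟨hcL, hcU⟩ := (hmem _).mp (oddCl_le _ hck)
    refine (proj_eq_one (x := (⟨b * k * b⁻¹, hcL⟩ : L) * (⟨k, hkL⟩ : L)⁻¹)).mp ?_
    rw [map_mul, map_inv, hku, mul_inv_eq_one]
    have himgc : ∀ v ∈ S.plane ha.tvL.tv,
        img L ⟨b * k * b⁻¹, hcL⟩ • v = S.dOf ha.tvL.tv • v := by
      intro v hv
      rw [show (⟨b * k * b⁻¹, hcL⟩ : L) = ⟨b, hAL hb.1⟩ * ⟨k, hkL⟩ * ⟨b, hAL hb.1⟩⁻¹ from rfl,
        map_mul, map_mul, map_inv, himgk, mul_smul, mul_smul,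
        inv_smul_eq_iff.mpr ((hBmem hb.1).mp hb v hv).symm,
        (hBmem hb.1).mp hb _ (S.dOf_smul_mem _ hv)]
    obtain ⟨⟨v, hv⟩, hv1⟩ : ∃ w : S.plane ha.tvL.tv, w ≠ 1 := by
      haveI := Finite.one_lt_card_iff_nontrivial.mp
        (by rw [S.card_plane]; omega : 1 < Nat.card (S.plane ha.tvL.tv))
      exact exists_ne 1
    have himgpow : ∀ z : L, proj L z = proj L u → img L z = S.dOf ha.tvL.tv := by
      intro z hz
      have : ((u⁻¹ * z : L) : G) ∈ Cn L :=
        pCoreOf_le_Cn L (proj_eq_one.mp (by rw [map_mul, map_inv, hz, inv_mul_cancel]))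
      rw [mem_Cn_coe, map_mul, map_inv, inv_mul_eq_one] at this
      exact this.symm.trans himgu
    have hne : S.dOf ha.tvL.tv • v ≠ v := fun e =>
      hv1 (Subtype.ext (S.eq_one_of_dOf_fixed _ e hv))
    rcases zpow3_cases hord hcU with e | e | e
    · exfalso
      have h1 : img L ⟨b * k * b⁻¹, hcL⟩ = 1 :=
        (mem_Cn hcL).mp (pCoreOf_le_Cn L (proj_eq_one.mp e))
      have := himgc v hv
      rw [h1, one_smul] at this
      exact hne this.symm
    · exact e
    · exfalso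
      have h2 : proj L (⟨b * k * b⁻¹, hcL⟩ * u⁻¹) = proj L u := by
        rw [map_mul, map_inv, e, mul_inv_cancel_right]
      have h3 := himgpow _ h2
      rw [map_mul, map_inv, himgu, mul_inv_eq_iff_eq_mul] at h3
      have := himgc v hv
      rw [h3, mul_smul] at this
      exact hne (MulAction.injective (S.dOf ha.tvL.tv) this)
  have hBcomm : ∀ b ∈ B, ∀ z ∈ Z1, b * (k * z * k⁻¹) * b⁻¹ = k * (b * z * b⁻¹) * k⁻¹ := by
    intro b hb z hz
    have hbK : b ∈ normalizer (K : Set G) := h.jay_le_normalizer_comp Z ha.tvL (le_jay hA hb.1)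
    have hz' : b * z * b⁻¹ ∈ Z1 := (mem_normalizer_iff.mp (hNK b hbK) _).mp hz
    calc b * (k * z * k⁻¹) * b⁻¹
        = (b * k * b⁻¹ * k⁻¹) * (k * (b * z * b⁻¹) * k⁻¹) * (b * k * b⁻¹ * k⁻¹)⁻¹ := by group
      _ = _ := by
          rw [(hcent (hBk0 b hb) ((mem_normalizer_iff.mp hkZ _).mp hz')).eq, mul_inv_cancel_right]
  have hU4 : Nat.card U ≤ 4 := by
    refine small_module hA (hUZ.trans ((om_le _).trans ?_)) ((isAbExp_om _).mono hUZ) haA haU hkU
      (fun x hx => hk3 x (hUZ hx)) hfree (fun x hx => hak x (hUZ hx)) (B := B) inf_le_left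
      (fun b hb => hfU b (hNK b (h.jay_le_normalizer_comp Z ha.tvL (le_jay hA hb.1))) (hBcomm b hb))
      hAB (fun b hb x hx hbx => ?_)
    · rw [hcore]; exact inf_le_right.trans (pCoreOf_le_sylowTwoIn h.syl)
    · refine mul_inv_eq_iff_eq_mul.mp ?_
      rw [hBcomm b hb x (hUZ hx), hbx.eq, mul_inv_cancel_right]
  refine (Subgroup.eq_of_le_of_card_ge hWle ?_).symm
  rw [card_planeA S ha.tvL]
  exact (card_le_of_le hWU).trans hU4

end

end Cfsg.Agent.H85.ZN
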