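import Cfsg.Agent.H85.ZN.Pair

/-!
A maximal 2-local subgroup `L` containing a Sylow 2-subgroup `P` of `G`, with all centralisers of
nontrivial elements of `V = Ω₁Z(O₂(L))` inside: the conjugates of `V` under a straddling component
do not commute.
-/

set_option autoImplicit false
set_option linter.style.haveILetI false
set_option linter.unusedSectionVars false

namespace Cfsg.Agent.H85.ZN

open Subgroup Cfsg.Agent.Thompson
open scoped commutatorElement

variable {G : Type*} [Group G] [Finite G]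

/-- The hypotheses on `L`. -/
structure CHyp (L : Subgroup G) (P : Sylow 2 G) : Prop where
  lh : LHyp L (P : Subgroup G)
  m : MHyp L P
  jn : ¬ jay 2 (P : Subgroup G) ≤ Cfsg.pCoreOf 2 L
  hv : ∀ v ∈ Vc L, v ≠ 1 → centralizer ({v} : Set G) ≤ L ∧
    ∃ x ∈ L, cj x (jay 2 (P : Subgroup G)) ≤ centralizer ({v} : Set G)

theorem conj_mem_centralizer {g x y : G} (h : y ∈ centralizer ({x} : Set G)) :
    g * y * g⁻¹ ∈ centralizer ({g * x * g⁻¹} : Set G) := by
  rw [mem_centralizer_singleton_iff] at h ⊢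
  calc g * y * g⁻¹ * (g * x * g⁻¹) = g * (y * x) * g⁻¹ := by group
    _ = g * (x * y) * g⁻¹ := by rw [h]
    _ = _ := by group

theorem cj_centralizer_singleton (g x : G) :
    cj g (centralizer ({x} : Set G)) = centralizer ({g * x * g⁻¹} : Set G) := by
  refine le_antisymm ?_ fun y hy => ?_
  · rintro _ ⟨y, hy, rfl⟩
    exact conj_mem_centralizer hy
  · rw [mem_cj]
    have := conj_mem_centralizer (g := g⁻¹) hy
    simpa [mul_assoc] using this

section

variable {L : Subgroup G} {P : Sylow 2 G}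

/-- `V` is a trivial intersection set. -/
theorem CHyp.ti (C : CHyp L P) {k v : G} (hv : v ∈ Vc L) (hv1 : v ≠ 1)
    (hkv : k * v * k⁻¹ ∈ Vc L) : k ∈ L := by
  obtain ⟨-, x, hx, hJx⟩ := C.hv v hv hv1
  obtain ⟨hC', -⟩ := C.hv _ hkv (fun e => hv1 (conj_eq_one_iff.mp e))
  have hle : jay 2 (cj (k * x) (P : Subgroup G)) ≤ L := by
    rw [jay_cj, cj_mul]
    exact (cj_le_cj hJx).trans ((cj_centralizer_singleton k v).le.trans hC')
  obtain ⟨l, hl, hJl⟩ := jay_eq_cj_of_le C.lh.syl (isPGroup_cj (g := k * x) P.isPGroup')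
    (maxElemAbelianOrder_cj _ _).symm (by rw [jay_cj, card_cj]) hle
  rw [jay_cj] at hJl
  have hN : l⁻¹ * (k * x) ∈ normalizer (jay 2 (P : Subgroup G) : Set G) :=
    Thompson.mem_normalizer_of_map_conj (by rw [← cj, cj_mul, hJl, cj_inv_cj])
  have := L.mul_mem (L.mul_mem hl (C.m.nj hN)) (L.inv_mem hx)
  simpa [mul_assoc] using this

/-- `V` has at least four elements. -/
theorem CHyp.four_le (C : CHyp L P) : 4 ≤ Nat.card ↥(Vc L) := by
  obtain ⟨a, ha⟩ := C.lh.exists_adm C.m.zn C.jn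
  rw [← card_planeA (C.lh.setup C.m.zn) ha.tvL]
  exact card_le_of_le (planeA_le (C.lh.setup C.m.zn) ha.tvL)

end

/-- The data of a straddling component. -/
structure CData (L : Subgroup G) (P : Sylow 2 G) (T L' K : Subgroup G) (a k z : G) : Prop where
  c : CHyp L P
  x : TopHyp L P T L' K
  lt : T < (P : Subgroup G)
  adm : Adm L' T a
  eqK : K = compOf L' a
  kK : k ∈ K
  k3 : k * k * k = 1
  ak : a * k * a = k⁻¹
  kQ : k ∉ Cfsg.pCoreOf 2 L'
  kL : k ∉ L
  kN : k ∈ L'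
  hpiece : ∀ y : G, y ∈ piece L' a ↔
    ∃ hy : y ∈ L', proj L' ⟨y, hy⟩ ∈ zpowers (proj L' ⟨k, kN⟩)
  wfix : ∀ w ∈ planeA L' a, Commute k w → w = 1
  zmem : z ∈ Cfsg.omegaCenterOf (P : Subgroup G)
  zone : z ≠ 1
  zall : ∀ e ∈ Cfsg.omegaCenterOf (P : Subgroup G), e = 1 ∨ e = z

section

variable {L : Subgroup G} {P : Sylow 2 G} {T L' K : Subgroup G}

theorem CHyp.exists_data (C : CHyp L P) (X : TopHyp L P T L' K) (hlt : T < (P : Subgroup G)) :
    ∃ a k z, CData L P T L' K a k z := by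
  have Z := C.m.zn
  obtain ⟨a, ha, hKa⟩ := X.lh.exists_eq_comp Z X.jc X.kl
  obtain ⟨k, hkL, hkK, hk3, hak, hkQ, hkd, hk1, hpiece⟩ := X.lh.exists_k3 Z ha.tvL
  have hWfix : ∀ w ∈ planeA L' a, Commute k w → w = 1 := by
    intro w hw hkw
    set S := X.lh.setup Z
    rw [planeA_eq S ha.tvL] at hw
    obtain ⟨v, hv, rfl⟩ := hw
    have hfix : img L' ⟨k, hkL⟩ • v = v := (img_smul_eq_iff _ v).mpr hkw
    have : v = 1 := by
      refine S.eq_one_of_dOf_fixed ha.tvL.tv ?_ hv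
      rcases zpow3_cases (S.orderOf_dOf ha.tvL.tv) hkd with e | e | e
      · exact absurd e hk1
      · rwa [e] at hfix
      · rw [e, mul_smul] at hfix
        have h5 := congrArg (S.dOf ha.tvL.tv • ·) hfix
        simp only [S.dOf_cube ha.tvL.tv] at h5
        exact h5.symm
    simp [this]
  obtain ⟨-, -, h2, -⟩ := X.lt_facts P hlt
  obtain ⟨z, hz, hz1⟩ : ∃ z ∈ Cfsg.omegaCenterOf (P : Subgroup G), z ≠ 1 := by
    haveI := Finite.one_lt_card_iff_nontrivial.mp
      (by rw [h2]; omega : 1 < Nat.card (Cfsg.omegaCenterOf (P : Subgroup G)))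
    obtain ⟨⟨z, hz⟩, hz1⟩ := exists_ne (1 : Cfsg.omegaCenterOf (P : Subgroup G))
    exact ⟨z, hz, fun e => hz1 (Subtype.ext e)⟩
  refine ⟨a, k, z, C, X, hlt, ha, hKa, hKa ▸ hkK, hk3, hak, hkQ, fun hk => X.nm ?_, hkL, hpiece,
    hWfix, hz, hz1, two_cases h2.le hz hz1⟩
  rw [hKa]
  exact (X.lh.comp_le_sup Z ha hkK hkQ).trans
    (sup_le (zpowers_le.mpr hk) (jay_le.trans X.max.1.2.2.1))

variable {a k z : G} (D : CData L P T L' K a k z)
include D

theorem CData.kL' : k ∈ L' := D.x.kl D.kK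

theorem CData.TL : T ≤ L := D.x.max.1.2.2.1

theorem CData.zV : z ∈ Vc L := D.c.lh.om_sylow_le D.c.m.zn le_rfl D.zmem

theorem CData.zV' : z ∈ Vc L' := D.x.lh.om_sylow_le D.c.m.zn D.lt.le D.zmem

theorem CData.zZ : z ∈ zJ T :=
  om_le_om_jay (D.x.om_sylow_le P D.lt.le D.zmem)

theorem CData.centralizer_z :
    centralizer ({z} : Set G) ≤ normalizer ((P : Subgroup G) : Set G) := by
  refine le_trans (fun g hg => mem_centralizer_iff.mpr fun e he => ?_) (D.c.m.zn.zc P)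
  rcases D.zall e he with rfl | rfl
  · simp
  · exact (mem_centralizer_singleton_iff.mp hg).symm

theorem CData.conj_z_mem {y : G} (hy : y ∈ L') : y * z * y⁻¹ ∈ L :=
  D.TL (D.x.lh.Vc_le D.c.m.zn (conj_mem_Vc hy D.zV'))

theorem CData.core_le : Cfsg.pCoreOf 2 L' ≤ L :=
  (pCoreOf_le_sylowTwoIn D.x.lh.syl).trans D.TL

/-- Elements of `K` act on the conjugates of `V` as powers of `k`. -/
theorem CData.cj_Vc {x : G} (hx : x ∈ K) : cj x (Vc L) = Vc L ∨ cj x (Vc L) = cj k (Vc L) ∨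
    cj x (Vc L) = cj k⁻¹ (Vc L) := by
  rw [D.eqK] at hx
  have hkL := D.kN
  obtain ⟨hxL, hxu⟩ := (D.hpiece x).mp (oddCl_le _ hx)
  haveI : Fact (Nat.Prime 3) := ⟨Nat.prime_three⟩
  have hk1 : proj L' ⟨k, hkL⟩ ≠ 1 := fun e => D.kQ ((proj_eq_one (x := (⟨k, hkL⟩ : L'))).mp e)
  have hordk : orderOf (proj L' ⟨k, hkL⟩) = 3 := orderOf_eq_prime (by
    rw [← map_pow, show (⟨k, hkL⟩ : L') ^ 3 = 1 from Subtype.ext (by simpa [pow_three'] using D.k3),
      map_one]) hk1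
  have key : ∀ (y : G) (hy : y ∈ L'), proj L' ⟨x, hxL⟩ = proj L' ⟨y, hy⟩ →
      cj x (Vc L) = cj y (Vc L) := by
    intro y hy e
    have hq : y⁻¹ * x ∈ Cfsg.pCoreOf 2 L' := (proj_eq_one (x := (⟨y, hy⟩ : L')⁻¹ * ⟨x, hxL⟩)).mp
      (by rw [map_mul, map_inv, e, inv_mul_cancel])
    calc cj x (Vc L) = cj (y * (y⁻¹ * x)) (Vc L) := by rw [mul_inv_cancel_left]
      _ = cj y (cj (y⁻¹ * x) (Vc L)) := cj_mul _ _ _
      _ = _ := by rw [cj_of_mem_normalizer (le_normalizer_Vc L (D.core_le hq))]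
  have hk2 : k⁻¹ = k * k := by rw [inv_eq_iff_mul_eq_one, ← mul_assoc, D.k3]
  rcases zpow3_cases hordk hxu with e | e | e
  · exact .inl ((key 1 L'.one_mem (e.trans (map_one (proj L')).symm)).trans (cj_one _))
  · exact .inr (.inl (key k hkL e))
  · refine .inr (.inr ?_)
    rw [hk2]
    exact key (k * k) (L'.mul_mem hkL hkL) (e.trans (by rw [← map_mul]; rfl))

set_option maxHeartbeats 1000000 in
/-- The conjugates of `V` do not commute. -/
theorem CData.not_commute :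
    ¬ ∀ v ∈ Vc L, ∀ u ∈ cj k (Vc L), Commute v u := by
  intro hcomm
  have Z := D.c.m.zn
  set V := Vc L with hV
  have hsq : ∀ {v : G}, v ∈ V → v * v = 1 := fun hv => om_sq hv
  have hk2 : k⁻¹ = k * k := by rw [inv_eq_iff_mul_eq_one, ← mul_assoc, D.k3]
  -- conjugates commute pairwise
  have hpair : ∀ x ∈ K, ∀ v ∈ V, ∀ u ∈ cj x V, Commute v u := by
    intro x hx v hv u hu
    rcases D.cj_Vc hx with e | e | e <;> rw [e] at hu
    · exact om_comm hv hu
    · exact hcomm v hv u hu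
    · obtain ⟨u', hu', rfl⟩ := hu
      have h1 := hcomm u' hu' (k * v * k⁻¹) (conj_mem_cj hv)
      have h2 := (h1.map (MulAut.conj k⁻¹).toMonoidHom).symm
      simpa [mul_assoc] using h2
  set U : Subgroup G := ⨆ x : K, cj (x : G) V with hU
  have hcomU : ∀ x : K, cj (x : G) V ≤ centralizer (U : Set G) := by
    intro x v hv
    have hle : U ≤ centralizer ({v} : Set G) := by
      refine iSup_le fun y w hw => mem_centralizer_singleton_iff.mpr ?_
      rw [mem_cj] at hv hw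
      have h1 := hpair ((x : G)⁻¹ * y) (K.mul_mem (K.inv_mem x.2) y.2) _ hv
        ((x : G)⁻¹ * w * x) (by
          rw [mem_cj]; simpa [mul_assoc] using hw)
      have h2 := (h1.map (MulAut.conj (x : G)).toMonoidHom).symm
      simpa [mul_assoc] using h2.eq
    exact mem_centralizer_iff.mpr fun w hw => mem_centralizer_singleton_iff.mp (hle hw)
  have hUab : ∀ p ∈ U, ∀ q ∈ U, p * q = q * p := fun p hp q hq => by
    have := mem_centralizer_iff.mp ((iSup_le hcomU) hp) q hq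
    exact this.symm
  have hUe : IsAbExp 2 U := by
    refine ⟨isMulCommutative_iff_forall.mpr hUab, fun p hp => ?_⟩
    suffices h : p ∈ U ∧ p ^ 2 = 1 from h.2
    refine Subgroup.iSup_induction (fun x : K => cj (x : G) V)
      (C := fun p => p ∈ U ∧ p ^ 2 = 1) hp ?_ ?_ ?_
    · intro x v hv
      refine ⟨mem_iSup_of_mem x hv, ?_⟩
      obtain ⟨w, hw, rfl⟩ := hv
      rw [← map_pow, pow_two, hsq hw, map_one]
    · exact ⟨one_mem _, one_pow 2⟩
    · intro p q hp hq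
      exact ⟨mul_mem hp.1 hq.1, by
        rw [(show Commute p q from hUab p hp.1 q hq.1).mul_pow, hp.2, hq.2, one_mul]⟩
  have hVU : V ≤ U := fun v hv => mem_iSup_of_mem (1 : K) (by rwa [OneMemClass.coe_one, cj_one])
  have hUne : U ≠ ⊥ := fun e => by
    have := card_le_of_le hVU
    rw [e, card_bot] at this
    have : 4 ≤ Nat.card V := D.c.four_le
    omega
  have hU2 : IsPGroup 2 U := fun p => ⟨1, Subtype.ext (hUe.2 p p.2)⟩
  -- `K` and `T` normalise `U`
  have hKU : K ≤ normalizer (U : Set G) := fun y hy => Thompson.mem_normalizer_of_map_conj (by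
    rw [hU, Subgroup.map_iSup]
    refine le_antisymm (iSup_le fun x => ?_) (iSup_le fun x => ?_)
    · rw [← cj, ← cj_mul]
      exact le_iSup (fun x : K => cj (x : G) V) (⟨y * x, K.mul_mem hy x.2⟩ : K)
    · refine le_iSup_of_le (⟨y⁻¹ * x, K.mul_mem (K.inv_mem hy) x.2⟩ : K) ?_
      rw [← cj, ← cj_mul]
      exact (congrArg (fun g => cj g V) (mul_inv_cancel_left y (x : G)).symm).le)
  obtain ⟨hTK, -, -, -⟩ := D.x.lt_facts P D.lt
  have hTU : T ≤ normalizer (U : Set G) := fun t ht => H61.mem_normalizer_of_conj_mem fun p hp => by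
    have hle : U ≤ cj t⁻¹ U := by
      refine iSup_le fun x w hw => ?_
      rw [mem_cj, inv_inv]
      refine mem_iSup_of_mem (⟨t * x * t⁻¹, (mem_normalizer_iff.mp (hTK ht) _).mp x.2⟩ : K) ?_
      rw [mem_cj] at hw
      show t * w * t⁻¹ ∈ cj (t * x * t⁻¹) V
      rw [mem_cj]
      have := (mem_normalizer_iff.mp (le_normalizer_Vc L (D.TL ht)) _).mp hw
      simpa [mul_assoc] using this
    have := hle hp
    rwa [mem_cj, inv_inv] at this
  have hUL' : U ≤ L' := le_normalizer.trans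
    (D.x.local_le (isTwoLocal_normalizer hU2 hUne) (sup_le hKU (jay_le.trans hTU)))
  have hUT : U ≤ T := le_sylowTwoIn D.x.lh.syl hU2 hUL' hTU
  -- the two conjugates
  set V1 := cj k V with hV1
  set V2 := cj k⁻¹ V with hV2
  have hV1U : V1 ≤ U := le_iSup (fun x : K => cj (x : G) V) ⟨k, D.kK⟩
  have hV2U : V2 ≤ U := le_iSup (fun x : K => cj (x : G) V) ⟨k⁻¹, K.inv_mem D.kK⟩
  have hdis : V1 ⊓ V2 = ⊥ := by
    rw [eq_bot_iff]
    rintro w ⟨h1, h2⟩
    replace h1 : w ∈ cj k V := h1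
    replace h2 : w ∈ cj k⁻¹ V := h2
    rw [mem_cj] at h1 h2
    rw [inv_inv] at h2
    by_contra hw
    have hne : k⁻¹ * w * k ≠ 1 := fun e => hw (mem_bot.mpr (by
      rw [show w = k * (k⁻¹ * w * k) * k⁻¹ by group, e, mul_one, mul_inv_cancel]))
    have h3 : k * k ∈ L := D.c.ti h1 hne (by
      rw [show k * k * (k⁻¹ * w * k) * (k * k)⁻¹ = k * w * k⁻¹ by group]; exact h2)
    rw [← hk2] at h3
    exact D.kL (by simpa using L.inv_mem h3)
  set U1 := V1 ⊔ V2 with hU1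
  have hU1U : U1 ≤ U := sup_le hV1U hV2U
  have hU1card : Nat.card V * Nat.card V ≤ Nat.card U1 := by
    have := card_mul_le V1 V2
    rwa [hdis, card_bot, mul_one, card_cj, card_cj] at this
  -- the part of `A` fixing the plane
  obtain ⟨A, hA, haA, -⟩ := id D.adm
  obtain ⟨c, hc1, hcW, hcJ, hline, -⟩ := D.x.lh.exists_c Z D.adm
  set W := planeA L' a with hW
  set B := A ⊓ centralizer (W : Set G) with hB
  have hAB : ∀ x ∈ A, x ∈ B ∨ a * x ∈ B := D.x.lh.adm_cover Z D.adm hA haA hcW hcJ hline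
  have haL : a ∈ L := D.TL (hA.1 haA)
  have hainv := D.adm.tvL.inv_eq
  have hkk : k ∈ compOf L' a := D.eqK ▸ D.kK
  have hkW : k ∈ normalizer (W : Set G) := Thompson.mem_normalizer_of_map_conj
    (cj_planeA_of_plStab (D.x.lh.piece_le_plStab Z D.adm.tvL (oddCl_le _ hkk)) D.adm.tvL)
  have hBk : ∀ b ∈ B, k⁻¹ * b * k ∈ T := by
    intro b hb
    have hq := D.x.lh.comm_mem_core Z D.adm D.kN hkk D.k3 D.kQ D.hpiece hc1 hcW hkW D.wfix b
      ⟨le_jay hA hb.1, hb.2⟩
    have hq' : k⁻¹ * (k * b * k⁻¹ * b⁻¹)⁻¹ * k ∈ Cfsg.pCoreOf 2 L' := by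
      have := (mem_normalizer_iff.mp (le_normalizer_pCoreOf L' (L'.inv_mem D.kN)) _).mp
        ((Cfsg.pCoreOf 2 L').inv_mem hq)
      rwa [inv_inv] at this
    rw [show k⁻¹ * b * k = k⁻¹ * (k * b * k⁻¹ * b⁻¹)⁻¹ * k * b by group]
    exact T.mul_mem (pCoreOf_le_sylowTwoIn D.x.lh.syl hq') (hA.1 hb.1)
  have hBV1 : ∀ b ∈ B, ∀ w ∈ V1, b * w * b⁻¹ ∈ V1 := by
    intro b hb w hw
    rw [mem_cj] at hw ⊢
    have := (mem_normalizer_iff.mp (le_normalizer_Vc L (D.TL (hBk b hb))) _).mp hw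
    simpa [mul_assoc] using this
  have haV1 : ∀ w ∈ V1, a * w * a⁻¹ ∈ V2 := by
    intro w hw
    rw [mem_cj] at hw ⊢
    have := (mem_normalizer_iff.mp (le_normalizer_Vc L haL) _).mp hw
    have e : k⁻¹⁻¹ * a = a * k⁻¹ := by
      rw [inv_inv, ← D.ak, ← mul_assoc a, ← mul_assoc a, D.adm.tvL.1, one_mul]
    have e2 : k⁻¹⁻¹ * (a * w * a⁻¹) * k⁻¹ = a * (k⁻¹ * w * k) * a⁻¹ := by
      calc k⁻¹⁻¹ * (a * w * a⁻¹) * k⁻¹ = k⁻¹⁻¹ * a * w * (k⁻¹⁻¹ * a)⁻¹ := by group
        _ = a * (k⁻¹ * w * k) * a⁻¹ := by rw [e]; group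
    rw [e2]; exact this
  have haV2 : ∀ w ∈ V2, a * w * a⁻¹ ∈ V1 := by
    intro w hw
    rw [mem_cj, inv_inv] at hw
    rw [mem_cj]
    have := (mem_normalizer_iff.mp (le_normalizer_Vc L haL) _).mp hw
    have e : k⁻¹ * a = a * k := by
      rw [← D.ak, mul_assoc _ a a, D.adm.tvL.1, mul_one]
    have e2 : k⁻¹ * (a * w * a⁻¹) * k = a * (k * w * k⁻¹) * a⁻¹ := by
      calc k⁻¹ * (a * w * a⁻¹) * k = k⁻¹ * a * w * (k⁻¹ * a)⁻¹ := by group
        _ = a * (k * w * k⁻¹) * a⁻¹ := by rw [e]; group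
    rw [e2]; exact this
  have hBV2 : ∀ b ∈ B, ∀ w ∈ V2, b * w * b⁻¹ ∈ V2 := by
    intro b hb w hw
    have hab : Commute a b := hA.2.1.comm haA hb.1
    have h1 := haV1 _ (hBV1 b hb _ (haV2 w hw))
    rwa [show a * (b * (a * w * a⁻¹) * b⁻¹) * a⁻¹ = b * w * b⁻¹ by
      calc a * (b * (a * w * a⁻¹) * b⁻¹) * a⁻¹ = (a * b) * a * w * ((a * b) * a)⁻¹ := by group
        _ = b * w * b⁻¹ := by
          rw [hab.eq, mul_assoc b a a, D.adm.tvL.1, mul_one]] at h1
  -- fixed points of `A` on `U1`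
  set C1 := V1 ⊓ centralizer (B : Set G) with hC1
  have hU1A : Nat.card ↥(U1 ⊓ centralizer (A : Set G) : Subgroup G) ≤ Nat.card C1 := by
    have hsub : ((U1 ⊓ centralizer (A : Set G) : Subgroup G) : Set G) ⊆
        (fun x : G => x * (a * x * a⁻¹)) '' (C1 : Set G) := by
      rintro w ⟨hw, hwA⟩
      have hV12 : V1 ≤ normalizer (V2 : Set G) := fun p hp =>
        (centralizer_le_normalizer _) (mem_centralizer_iff.mpr fun q hq =>
          hUab q (hV2U hq) p (hV1U hp))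
      replace hw : w ∈ ((V1 ⊔ V2 : Subgroup G) : Set G) := hw
      rw [Subgroup.coe_mul_of_left_le_normalizer_right V1 V2 hV12] at hw
      obtain ⟨x, hx, y, hy, rfl⟩ := hw
      have huniq : ∀ {x' y' : G}, x' ∈ V1 → y' ∈ V2 → x' * y' = x * y → x' = x ∧ y' = y := by
        intro x' y' hx' hy' e
        have h1 : x⁻¹ * x' = y * y'⁻¹ := by
          calc x⁻¹ * x' = x⁻¹ * (x' * y') * y'⁻¹ := by group
            _ = _ := by rw [e]; group
        have h2 : x⁻¹ * x' ∈ V1 ⊓ V2 :=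
          ⟨V1.mul_mem (V1.inv_mem hx) hx', h1 ▸ V2.mul_mem hy (V2.inv_mem hy')⟩
        rw [hdis, mem_bot, inv_mul_eq_one] at h2
        subst h2
        exact ⟨rfl, mul_left_cancel e⟩
      refine ⟨x, ⟨hx, mem_centralizer_iff.mpr fun b hb => ?_⟩, ?_⟩
      · have hc : b * (x * y) * b⁻¹ = x * y := by
          rw [mem_centralizer_iff.mp hwA b hb.1, mul_inv_cancel_right]
        exact mul_inv_eq_iff_eq_mul.mp ((huniq (hBV1 b hb x hx) (hBV2 b hb y hy)
          (by rw [← hc]; group)).1)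
      · have hc : a * (x * y) * a⁻¹ = x * y := by
          rw [mem_centralizer_iff.mp hwA a haA, mul_inv_cancel_right]
        have h2 := huniq (haV2 y hy) (haV1 x hx) (by
          rw [hUab _ (hV1U (haV2 y hy)) _ (hV2U (haV1 x hx))]
          calc a * x * a⁻¹ * (a * y * a⁻¹) = a * (x * y) * a⁻¹ := by group
            _ = x * y := hc)
        show x * (a * x * a⁻¹) = x * y
        rw [h2.2]
    refine (Nat.card_mono ((Set.toFinite _).image _) hsub).trans ?_
    rw [Nat.card_coe_set_eq]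
    exact (Set.ncard_image_le (Set.toFinite _)).trans (Nat.card_coe_set_eq _).ge
  -- the bound in `L`
  set A0 := cj k⁻¹ B with hA0
  have hA0L : A0 ≤ L := by
    rintro _ ⟨b, hb, rfl⟩
    show k⁻¹ * b * k⁻¹⁻¹ ∈ L
    rw [inv_inv]
    exact D.TL (hBk b hb)
  have hA0e : IsAbExp 2 A0 :=
    (isAbExp_map_iff _ (MulAut.conj k⁻¹).injective).mpr (hA.2.1.mono inf_le_left)
  have hb := D.c.lh.bound Z hA0L hA0e
  set B1 := B ⊓ centralizer (V1 : Set G) with hB1
  have hCcj : cj k⁻¹ C1 ≤ V ⊓ centralizer (A0 : Set G) := by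
    rintro _ ⟨p, ⟨hp, hpc⟩, rfl⟩
    refine ⟨?_, ?_⟩
    · show k⁻¹ * p * k⁻¹⁻¹ ∈ V
      rw [inv_inv]; exact mem_cj.mp hp
    · rw [hA0, ← centralizer_cj]; exact ⟨p, hpc, rfl⟩
  have hBcj : A0 ⊓ Cn L ≤ cj k⁻¹ B1 := by
    rintro _ ⟨⟨b, hb, rfl⟩, hC⟩
    refine ⟨b, ⟨hb, mem_centralizer_iff.mpr ?_⟩, rfl⟩
    rintro _ ⟨v, hv, rfl⟩
    have h1 : Commute v (k⁻¹ * b * k⁻¹⁻¹) := mem_centralizer_iff.mp hC.2 v hv
    have h2 := h1.map (MulAut.conj k).toMonoidHom
    simpa [mul_assoc] using h2.eq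
  have i1 : Nat.card B * Nat.card C1 ≤ Nat.card V * Nat.card B1 := by
    calc Nat.card B * Nat.card C1 = Nat.card A0 * Nat.card (cj k⁻¹ C1) := by
          rw [hA0, card_cj, card_cj]
      _ ≤ Nat.card A0 * Nat.card ↥(V ⊓ centralizer (A0 : Set G) : Subgroup G) :=
          Nat.mul_le_mul_left _ (card_le_of_le hCcj)
      _ ≤ Nat.card V * Nat.card ↥(A0 ⊓ Cn L : Subgroup G) := hb
      _ ≤ Nat.card V * Nat.card (cj k⁻¹ B1) := Nat.mul_le_mul_left _ (card_le_of_le hBcj)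
      _ = _ := by rw [card_cj]
  have hB1U : ∀ b ∈ B1, ∀ u ∈ U1, Commute b u := by
    intro b hb u hu
    have hle : U1 ≤ centralizer ({b} : Set G) := by
      refine sup_le (fun p hp => mem_centralizer_singleton_iff.mpr (mem_centralizer_iff.mp hb.2 p hp))
        fun p hp => mem_centralizer_singleton_iff.mpr ?_
      have hab : Commute a b := hA.2.1.comm haA hb.1.1
      have h1 : Commute (a * p * a⁻¹) b := mem_centralizer_iff.mp hb.2 _ (haV2 p hp)
      have h2 := h1.map (MulAut.conj a).toMonoidHom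
      simp only [MulEquiv.coe_toMonoidHom, MulAut.conj_apply] at h2
      rw [hab.eq, mul_inv_cancel_right, show a * (a * p * a⁻¹) * a⁻¹ = (a * a) * p * (a * a)⁻¹ by group,
        D.adm.tvL.1, one_mul, inv_one, mul_one] at h2
      exact h2.eq
    exact (mem_centralizer_singleton_iff.mp (hle hu)).symm
  have i2 := max_bound hA (B := B1) (inf_le_left.trans inf_le_left) (hU1U.trans hUT)
    (hUe.mono hU1U) hB1U
  have i3 := card_le_two_mul hAB
  have i4 : 4 ≤ Nat.card V := D.c.four_le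
  have hB1p : 0 < Nat.card B1 := Nat.card_pos
  have hVp : 0 < Nat.card V := Nat.card_pos
  have i5 : Nat.card B1 * (Nat.card V * Nat.card V) ≤ 2 * (Nat.card V * Nat.card B1) :=
    calc Nat.card B1 * (Nat.card V * Nat.card V) ≤ Nat.card B1 * Nat.card U1 :=
          Nat.mul_le_mul_left _ hU1card
      _ ≤ Nat.card A * Nat.card ↥(U1 ⊓ centralizer (A : Set G) : Subgroup G) := i2
      _ ≤ 2 * Nat.card B * Nat.card C1 := Nat.mul_le_mul i3 hU1A
      _ = 2 * (Nat.card B * Nat.card C1) := by ring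
      _ ≤ _ := Nat.mul_le_mul_left _ i1
  have i6 : Nat.card V ≤ 2 := by
    refine Nat.le_of_mul_le_mul_right ?_ (Nat.mul_pos hB1p hVp)
    linarith
  omega

end

end Cfsg.Agent.H85.ZN
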