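import Cfsg.Agent.H85.ZN.Core1

/-!
A maximal 2-local subgroup containing `N(J(P))` and, up to conjugation, all centralisers of
elements of its `V` has no straddling component.
-/

set_option autoImplicit false
set_option linter.style.haveILetI false
set_option linter.unusedSectionVars false

namespace Cfsg.Agent.H85.ZN

open Subgroup Cfsg.Agent.Thompson

variable {G : Type*} [Group G] [Finite G]

theorem card_fix_singleton_le {L : Subgroup G} {b : G} (hb : b ∈ L) :
    Nat.card (fix ↥(Vc L) ({img L ⟨b, hb⟩} : Set ↥(Hq L))) ≤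
      Nat.card ↥(Vc L ⊓ centralizer ({b} : Set G)) :=
  Nat.card_le_card_of_injective
    (fun v => ⟨((v : Vc L) : G), (v : Vc L).2, mem_centralizer_singleton_iff.mpr
      ((img_smul_eq_iff (⟨b, hb⟩ : L) (v : Vc L)).mp (mem_fix_singleton.mp v.2)).eq.symm⟩)
    fun v w e => Subtype.ext (Subtype.ext (congrArg (fun p : ↥(Vc L ⊓ centralizer ({b} : Set G)) =>
      (p : G)) e))

section

variable {L : Subgroup G} {P : Sylow 2 G} {T L' K : Subgroup G} {a k z : G}
  (D : CData L P T L' K a k z)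
include D

/-- The conjugate meets `V` trivially. -/
theorem CData.inter_eq_bot : Vc L ⊓ cj k (Vc L) = ⊥ := by
  rw [eq_bot_iff]
  rintro w ⟨hw, hw'⟩
  by_contra hne
  have hwk : k⁻¹ * w * k ∈ Vc L := mem_cj.mp hw'
  refine D.kL (D.c.ti hwk (fun e => hne (mem_bot.mpr ?_)) (by simpa [mul_assoc] using hw))
  calc w = k * (k⁻¹ * w * k) * k⁻¹ := by group
    _ = 1 := by rw [e, mul_one, mul_inv_cancel]

/-- `o = k z k⁻¹`. -/
theorem CData.o_mem : k * z * k⁻¹ ∈ cj k (Vc L) ⊓ L :=
  ⟨conj_mem_cj D.zV, D.conj_z_mem D.kN⟩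

theorem CData.o_ne_one : k * z * k⁻¹ ≠ 1 := fun e => D.zone (conj_eq_one_iff.mp e)

theorem CData.z_mem_B : z ∈ Vc L ⊓ cj k L := by
  refine ⟨D.zV, mem_cj.mpr ?_⟩
  simpa using D.conj_z_mem (L'.inv_mem D.kN)

/-- The part of `V` normalising the conjugate commutes with the part of the conjugate
normalising `V`. -/
theorem CData.comm_B {b b' : G} (hb : b ∈ Vc L ⊓ cj k L) (hb' : b' ∈ cj k (Vc L) ⊓ L) :
    Commute b b' := by
  have h1 : b * b' * b⁻¹ * b'⁻¹ ∈ Vc L := by
    rw [show b * b' * b⁻¹ * b'⁻¹ = b * (b' * b⁻¹ * b'⁻¹) by group]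
    exact (Vc L).mul_mem hb.1 (conj_mem_Vc hb'.2 ((Vc L).inv_mem hb.1))
  have h2 : b * b' * b⁻¹ * b'⁻¹ ∈ cj k (Vc L) := by
    refine (cj k (Vc L)).mul_mem ?_ ((cj k (Vc L)).inv_mem hb'.1)
    rw [mem_cj]
    have hb2 := mem_cj.mp hb.2
    have := conj_mem_Vc hb2 (mem_cj.mp hb'.1)
    simpa [mul_assoc] using this
  have h3 : b * b' * b⁻¹ * b'⁻¹ = 1 :=
    mem_bot.mp (D.inter_eq_bot.le ⟨h1, h2⟩)
  exact mul_inv_eq_iff_eq_mul.mp (mul_inv_eq_one.mp h3)

theorem CData.centralizer_le_cj {b' : G} (hb' : b' ∈ cj k (Vc L)) (hne : b' ≠ 1) :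
    centralizer ({b'} : Set G) ≤ cj k L := by
  intro x hx
  rw [mem_cj]
  refine (D.c.hv _ (mem_cj.mp hb') fun e => hne ?_).1 ?_
  · calc b' = k * (k⁻¹ * b' * k) * k⁻¹ := by group
      _ = 1 := by rw [e, mul_one, mul_inv_cancel]
  · have := conj_mem_centralizer (g := k⁻¹) hx
    simpa [mul_assoc] using this

set_option maxHeartbeats 1000000 in
/-- `|V| = 4` and `V ∩ L^k = ⟨z⟩`. -/
theorem CData.four :
    Nat.card (Vc L) = 4 ∧ Nat.card ↥(Vc L ⊓ cj k L) ≤ 2 := by
  have Z := D.c.m.zn
  set B := Vc L ⊓ cj k L with hB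
  set B' := cj k (Vc L) ⊓ L with hB'
  have haL : a ∈ L := D.TL (jay_le D.adm.mem_jay)
  have hkak : k * a * k = a := by
    calc k * a * k = k * (a * k * a) * a⁻¹ := by group
      _ = a := by rw [D.ak, mul_inv_cancel, one_mul, inv_eq_of_mul_eq_one_right D.adm.tvL.1]
  -- the parts have the same order
  have hBB : Nat.card B' = Nat.card B := by
    have e1 : cj (k * a) (Vc L) = cj k (Vc L) := by
      rw [cj_mul, cj_of_mem_normalizer (le_normalizer_Vc L haL)]
    have e2 : cj (k * a) (cj k L) = L := by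
      rw [← cj_mul, hkak, cj_of_mem_normalizer (le_normalizer haL)]
    have e : cj (k * a) (Vc L ⊓ cj k L) = cj k (Vc L) ⊓ L :=
      (Subgroup.map_inf _ _ _ (MulAut.conj (k * a)).injective).trans (congrArg₂ (· ⊓ ·) e1 e2)
    rw [hB, hB', ← e, card_cj]
  -- `V` does not normalise the conjugate
  have hV : ¬ Vc L ≤ cj k L := by
    intro hle
    have hB1 : B = Vc L := inf_eq_left.mpr hle
    have hB2 : B' = cj k (Vc L) := eq_of_le_of_card_ge inf_le_left (by rw [card_cj, hBB, hB1])
    exact D.not_commute fun v hv u hu => D.comm_B (hB1.ge hv) (hB2.ge hu)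
  have hCn : B' ⊓ Cn L = ⊥ := by
    rw [eq_bot_iff]
    rintro b ⟨hb, hbC⟩
    by_contra hne
    exact hV fun v hv => D.centralizer_le_cj hb.1 (fun e => hne (mem_bot.mpr e))
      (mem_centralizer_singleton_iff.mpr (mem_centralizer_iff.mp hbC.2 v hv))
  have hBe : IsAbExp 2 B' :=
    ((isAbExp_map_iff _ (MulAut.conj k).injective).mpr (isAbExp_om _)).mono inf_le_left
  have hBC : B ≤ Vc L ⊓ centralizer (B' : Set G) := fun b hb =>
    ⟨hb.1, mem_centralizer_iff.mpr fun b' hb' => (D.comm_B hb hb').eq.symm⟩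
  have hbound := D.c.lh.bound Z (inf_le_right : B' ≤ L) hBe
  rw [hCn, card_bot, mul_one] at hbound
  have i1 : Nat.card B' * Nat.card B ≤ Nat.card (Vc L) :=
    (Nat.mul_le_mul_left _ (card_le_of_le hBC)).trans hbound
  -- an element of `B'` fixes few elements
  have hfixle : ∀ b (hb : b ∈ B'), b ≠ 1 →
      Nat.card (fix ↥(Vc L) ({img L ⟨b, hb.2⟩} : Set ↥(Hq L))) ≤ Nat.card B := fun b hb hne =>
    (card_fix_singleton_le hb.2).trans
      (card_le_of_le (inf_le_inf_left _ (D.centralizer_le_cj hb.1 hne)))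
  have ho := D.o_mem
  set o := img L ⟨k * z * k⁻¹, ho.2⟩ with hodef
  have hoo : o * o = 1 := by
    rw [hodef, ← map_mul, show (⟨k * z * k⁻¹, ho.2⟩ : L) * ⟨k * z * k⁻¹, ho.2⟩ = 1 from
      Subtype.ext (by
        show k * z * k⁻¹ * (k * z * k⁻¹) = 1
        rw [show k * z * k⁻¹ * (k * z * k⁻¹) = k * (z * z) * k⁻¹ by group, om_sq D.zV, mul_one,
          mul_inv_cancel]), map_one]
  have hrange : (disp ↥(Vc L) o).range ≤ fix ↥(Vc L) ({o} : Set ↥(Hq L)) := by
    rintro _ ⟨v, rfl⟩
    rw [mem_fix_singleton, disp_apply, smul_mul', ← mul_smul, hoo, one_smul, mul_comm]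
  have i2 : Nat.card (Vc L) ≤ Nat.card B * Nat.card B := by
    rw [← card_mul_index (fix ↥(Vc L) ({o} : Set ↥(Hq L))), ← card_disp_range Vc_elem o]
    exact Nat.mul_le_mul (hfixle _ ho D.o_ne_one)
      ((card_le_of_le hrange).trans (hfixle _ ho D.o_ne_one))
  have i3 : Nat.card (Vc L) = Nat.card B' * Nat.card ↥(Vc L ⊓ centralizer (B' : Set G)) :=
    le_antisymm (i2.trans (by rw [hBB]; exact Nat.mul_le_mul_left _ (card_le_of_le hBC))) hbound
  -- a transvection in `B'`
  have himg : Nat.card (imgS L B') = Nat.card B' := by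
    have := card_imgS (L := L) (inf_le_right : B' ≤ L)
    rwa [hCn, card_bot, mul_one] at this
  have heq : Nat.card (imgS L B') = (fix ↥(Vc L) (imgS L B' : Set ↥(Hq L))).index := by
    have h2 := card_mul_index (fix ↥(Vc L) (imgS L B' : Set ↥(Hq L)))
    rw [card_fix_imgS (inf_le_right : B' ≤ L)] at h2
    rw [himg]
    refine Nat.eq_of_mul_eq_mul_left
      (Nat.card_pos : 0 < Nat.card ↥(Vc L ⊓ centralizer (B' : Set G))) ?_
    rw [h2, i3, mul_comm]
  have hgen := (offender_bound (D.c.lh.setup Z) (D.c.lh.Hq_solvable Z) (elem_imgS (L := L) hBe)).2 heq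
  obtain ⟨t, ⟨b, hb, rfl⟩, htv⟩ : ∃ t, t ∈ imgS L B' ∧ IsTv ↥(Vc L) t := by
    by_contra hno
    push Not at hno
    have hbot : imgS L B' = ⊥ := by
      rw [← hgen, eq_bot_iff, closure_le]
      exact fun t ht => absurd ht.2 (hno t ht.1)
    rw [hbot, card_bot] at himg
    exact D.o_ne_one (mem_bot.mp
      ((eq_bot_of_card_eq B' himg.symm).le ho))
  have hb' : (b : G) ∈ B' := hb
  have hbne : (b : G) ≠ 1 := fun e => by
    have h1 : img L b = 1 := by rw [show b = 1 from Subtype.ext e, map_one]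
    have htv' : (fix ↥(Vc L) ({(1 : ↥(Hq L))} : Set ↥(Hq L))).index = 2 := h1 ▸ htv
    rw [index_eq_one.mpr (eq_top_iff.mpr fun v _ => mem_fix_singleton.mpr (one_smul _ v))] at htv'
    omega
  have i4 : Nat.card (Vc L) ≤ Nat.card B * 2 := by
    have h2 := card_mul_index (fix ↥(Vc L) ({img L b} : Set ↥(Hq L)))
    rw [show (fix ↥(Vc L) ({img L b} : Set ↥(Hq L))).index = 2 from htv] at h2
    rw [← h2]
    exact Nat.mul_le_mul_right _ (hfixle _ hb' hbne)
  rw [hBB] at i1
  have hpos : 0 < Nat.card B := Nat.card_pos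
  have h2 : Nat.card B ≤ 2 := Nat.le_of_mul_le_mul_left (i1.trans i4) hpos
  exact ⟨le_antisymm (i4.trans (by omega)) D.c.four_le, h2⟩

/-- No nontrivial element of `C_{Z₀}(K)` is conjugate to `z`. -/
theorem CData.not_conj {d y : G} (hd : d ∈ hC T K) (hdy : d = y * z * y⁻¹) : False := by
  refine D.c.m.zn.not_centralised D.x.lh.syl.2.1 D.x.jc (y • P) ?_ ?_ <;>
    intro x hx <;> rw [mem_centralizer_iff] <;> intro e he
  all_goals
    have he' : e = 1 ∨ e = d := by
      rw [Sylow.coe_subgroup_smul] at he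
      have he2 : e ∈ cj y (Cfsg.omegaCenterOf (P : Subgroup G)) := by rw [cj_om]; exact he
      rcases D.zall _ (mem_cj.mp he2) with h | h
      · refine .inl ?_
        calc e = y * (y⁻¹ * e * y) * y⁻¹ := by group
          _ = 1 := by rw [h, mul_one, mul_inv_cancel]
      · refine .inr ?_
        calc e = y * (y⁻¹ * e * y) * y⁻¹ := by group
          _ = d := by rw [h, hdy]
    rcases he' with rfl | rfl
    · simp
  · exact (mem_centralizer_iff.mp hd.2 x hx).symm
  · exact (mem_zJ_commute hd.1 hx).eq.symm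

set_option maxHeartbeats 2000000 in
/-- The data lead to a contradiction. -/
theorem CData.false : False := by
  have Z := D.c.m.zn
  have X := D.x
  obtain ⟨hV4, hB2⟩ := D.four
  obtain ⟨hTK, h4, -, g, hgP, hgT, hgL', hfree⟩ := X.lt_facts P D.lt
  have hPL : (P : Subgroup G) ≤ L := D.c.lh.syl.1
  have hTP : T ≤ (P : Subgroup G) := D.lt.le
  have hzc : ∀ x ∈ (P : Subgroup G), Commute x z := fun x hx => (mem_om.mp D.zmem).2.1 x hx
  obtain ⟨v, hv, hvB⟩ : ∃ v ∈ Vc L, v ∉ Vc L ⊓ cj k L := by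
    by_contra hno
    push Not at hno
    have := card_le_of_le (show Vc L ≤ Vc L ⊓ cj k L from hno)
    omega
  have hvz : v ≠ z := fun e => hvB (e ▸ D.z_mem_B)
  have hv1 : v ≠ 1 := fun e => hvB (e ▸ (Vc L ⊓ cj k L).one_mem)
  have hvv : v * v = 1 := om_sq hv
  have hzz : z * z = 1 := om_sq D.zV
  have hvinv : v⁻¹ = v := inv_eq_of_mul_eq_one_right hvv
  have hzv : Commute z v := om_comm D.zV hv
  have hVcases := four_cases hV4.le hv D.zV hv1 D.zone hvz hvv
  obtain ⟨o, ho⟩ : ∃ o, o = k * z * k⁻¹ := ⟨_, rfl⟩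
  have hoB : o ∈ cj k (Vc L) ⊓ L := ho ▸ D.o_mem
  have ho1 : o ≠ 1 := ho ▸ D.o_ne_one
  have hoo : o * o = 1 := by
    rw [ho, show k * z * k⁻¹ * (k * z * k⁻¹) = k * (z * z) * k⁻¹ by group, hzz, mul_one,
      mul_inv_cancel]
  have hoinv : o⁻¹ = o := inv_eq_of_mul_eq_one_right hoo
  have hzo : Commute z o := D.comm_B D.z_mem_B hoB
  -- the commutator of `v` and `o`
  have hvo : v * o * v = o * z := by
    have hc : o * v * o ∈ Vc L := by
      have := conj_mem_Vc hoB.2 hv; rwa [hoinv] at this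
    have hne : o * v * o ≠ v := fun e => hvB ⟨hv, D.centralizer_le_cj hoB.1 ho1
      (mem_centralizer_singleton_iff.mpr (by
        calc v * o = o * v * o * o := by rw [e]
          _ = o * v := by rw [mul_assoc _ o o, hoo, mul_one]))⟩
    have hovo : o * v * o = v * z := by
      rcases hVcases _ hc with e | e | e | e
      · refine absurd ?_ hv1
        calc v = o * (o * v * o) * o := by simp [← mul_assoc, hoo, mul_assoc v o o]
          _ = 1 := by rw [e, mul_one, hoo]
      · exact absurd e hne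
      · refine absurd ?_ hvz
        calc v = o * (o * v * o) * o := by simp [← mul_assoc, hoo, mul_assoc v o o]
          _ = z := by rw [e, ← hzo.eq, mul_assoc, hoo, mul_one]
      · exact e
    calc v * o * v = o * (o * v * o) * v := by simp [← mul_assoc, hoo]
      _ = o * (v * z) * v := by rw [hovo]
      _ = o * z := by rw [← hzv.eq, mul_assoc o, mul_assoc z, hvv, mul_one]
  -- the plane
  obtain ⟨c, hc1, hcW, hcZ, hline, hcK⟩ := X.lh.exists_c Z D.adm
  rw [← D.eqK] at hcK
  set W := planeA L' a with hWdef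
  have hWK : Cfsg.wOf K = W := by rw [D.eqK]; exact X.lh.wOf_comp Z D.adm
  have hKW : K ≤ normalizer (W : Set G) := hWK ▸ le_normalizer.trans (normalizer_le_normalizer_wOf K)
  have hWV : W ≤ Vc L' := planeA_le (X.lh.setup Z) D.adm.tvL
  have hW4 : Nat.card W = 4 := card_planeA (X.lh.setup Z) D.adm.tvL
  have hkc : k * c * k⁻¹ ∈ W := (mem_normalizer_iff.mp (hKW D.kK) c).mp hcW
  have hkk : ∀ w ∈ W, w ≠ 1 → k * w * k⁻¹ ≠ w := fun w hw hw1 e =>
    hw1 (D.wfix w hw (mul_inv_eq_iff_eq_mul.mp e))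
  have hk2 : k⁻¹ = k * k := by rw [inv_eq_iff_mul_eq_one, ← mul_assoc, D.k3]
  have hkc' : k⁻¹ * c * k = c * (k * c * k⁻¹) := by
    have hm : k⁻¹ * c * k ∈ W := by
      have := (mem_normalizer_iff.mp (hKW (K.inv_mem D.kK)) c).mp hcW
      rwa [inv_inv] at this
    rcases four_cases hW4.le hcW hkc hc1 (fun e => hc1 (conj_eq_one_iff.mp e))
      (hkk c hcW hc1).symm (om_sq (hWV hcW)) _ hm with e | e | e | e
    · refine absurd ?_ hc1
      calc c = k * (k⁻¹ * c * k) * k⁻¹ := by group
        _ = 1 := by rw [e, mul_one, mul_inv_cancel]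
    · refine absurd ?_ (hkk c hcW hc1)
      calc k * c * k⁻¹ = k * (k⁻¹ * c * k) * k⁻¹ := by rw [e]
        _ = c := by group
    · refine absurd ?_ (hkk c hcW hc1)
      calc k * c * k⁻¹ = k⁻¹ * c * k := e.symm
        _ = k * k * c * (k * k)⁻¹ := by rw [← hk2, inv_inv]
        _ = k * (k * c * k⁻¹) * k⁻¹ := by group
        _ = k * (k⁻¹ * c * k) * k⁻¹ := by rw [e]
        _ = c := by group
    · exact e
  have hzC : z ∉ hC T K := fun h => D.not_conj h (y := 1) (by simp)
  have hcz : z = c := by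
    by_contra hne
    obtain ⟨d, hd, hd1⟩ : ∃ d ∈ hC T K, d ≠ 1 := by
      by_contra hno
      push Not at hno
      have hb := X.lh.card_zJ_le Z D.adm
      rw [← D.eqK, show zJ T ⊓ centralizer (K : Set G) = ⊥ from
        (Subgroup.eq_bot_iff_forall (hC T K)).mpr hno, card_bot] at hb
      rcases two_cases (by omega : Nat.card (zJ T) ≤ 2) hcZ hc1 z D.zZ with e | e
      · exact D.zone e
      · exact hne e
    have hcd : c ≠ d := fun e => hcK fun y hy =>
      mem_centralizer_singleton_iff.mpr (mem_centralizer_iff.mp (e ▸ hd.2) y hy)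
    have hz : z = c * d := by
      rcases four_cases h4 hcZ hd.1 hc1 hd1 hcd (om_sq hcZ) z D.zZ with e | e | e | e
      · exact absurd e D.zone
      · exact absurd e hne
      · exact absurd (e ▸ hd) hzC
      · exact e
    have hkd : Commute k d := mem_centralizer_iff.mp hd.2 k D.kK
    have hcdc : Commute c d := om_comm hcZ hd.1
    have h1 : v * o * v = k⁻¹ * c * k := by
      rw [hvo, hkc', ho, hz]
      calc k * (c * d) * k⁻¹ * (c * d) = k * c * (d * k⁻¹) * (d * c) := by
            nth_rw 2 [hcdc.eq]; group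
        _ = k * c * (k⁻¹ * d) * (d * c) := by rw [hkd.inv_left.symm.eq]
        _ = k * c * k⁻¹ * (d * d) * c := by group
        _ = k * c * k⁻¹ * c := by rw [om_sq hd.1, mul_one]
        _ = _ := (om_comm (hWV hkc) (hWV hcW)).eq
    have hcy : c = k * v * k * z * (k * v * k)⁻¹ := by
      calc c = k * (k⁻¹ * c * k) * k⁻¹ := by group
        _ = k * (v * (k * z * k⁻¹) * v⁻¹) * k⁻¹ := by rw [← h1, ho, hvinv]
        _ = _ := by group
    -- the element `g`
    have hgd : g * d * g⁻¹ ∈ zJ T :=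
      (mem_normalizer_iff.mp (normalizer_le_normalizer_om _
        (normalizer_le_normalizer_jay 2 T hgT)) d).mp hd.1
    rcases four_cases h4 hcZ hd.1 hc1 hd1 hcd (om_sq hcZ) _ hgd with e | e | e | e
    · exact hd1 (conj_eq_one_iff.mp e)
    · refine D.not_conj hd (y := g⁻¹ * (k * v * k)) ?_
      calc d = g⁻¹ * c * g := by rw [← e]; group
        _ = g⁻¹ * (k * v * k * z * (k * v * k)⁻¹) * g := by rw [← hcy]
        _ = _ := by group
    · exact hd1 (hfree d hd (by rw [e]; exact hd))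
    · rw [← hz] at e
      have hgz : g * z * g⁻¹ = z := by rw [(hzc g hgP).eq, mul_inv_cancel_right]
      exact hzC (mul_left_cancel (mul_right_cancel (e.trans hgz.symm)) ▸ hd)
  have hzW : z ∈ W := hcz ▸ hcW
  have hoW : o ∈ W := by rw [ho, hcz]; exact hkc
  have hoz : z ≠ o := by rw [ho, hcz]; exact (hkk c hcW hc1).symm
  have hWcases : ∀ w ∈ W, w = 1 ∨ w = z ∨ w = o ∨ w = z * o :=
    four_cases hW4.le hzW hoW D.zone ho1 hoz hzz
  have hoz' : k⁻¹ * z * k = z * o := by rw [ho, hcz]; exact hkc'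
  -- `V` lies in `T`
  have hNW : normalizer (W : Set G) ≤ L' := by
    rw [← hWK]
    exact X.local_le (isTwoLocal_normalizer (wOf_pGroup X.jc) (wOf_ne_bot X.jc))
      (sup_le (le_normalizer.trans (normalizer_le_normalizer_wOf K))
        (jcomp_jay_le_normalizer_wOf X.jc))
  have hNP : ∀ x ∈ (P : Subgroup G), x * o * x⁻¹ ∈ W → x ∈ L' := by
    intro x hx hxo
    refine hNW (H61.mem_normalizer_of_conj_mem fun w hw => ?_)
    have hxz : x * z * x⁻¹ = z := by rw [(hzc x hx).eq, mul_inv_cancel_right]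
    rcases hWcases w hw with rfl | rfl | rfl | rfl
    · simpa using W.one_mem
    · rwa [hxz]
    · exact hxo
    · rw [show x * (z * o) * x⁻¹ = (x * z * x⁻¹) * (x * o * x⁻¹) by group, hxz]
      exact W.mul_mem hzW hxo
  have hPT : ∀ x ∈ (P : Subgroup G), x ∈ L' → x ∈ T := fun x hx hxL =>
    (sylowTwoIn_eq_of_le X.lh.syl (P.isPGroup'.to_le inf_le_left) inf_le_right
      (le_inf hTP X.lh.syl.1) : (P : Subgroup G) ⊓ L' = T).le ⟨hx, hxL⟩
  have hvP : v ∈ (P : Subgroup G) := D.c.lh.Vc_le Z hv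
  have hvT : v ∈ T := hPT v hvP (hNP v hvP (by
    rw [hvinv, hvo]; exact W.mul_mem hoW hzW))
  have hoT : o ∈ T := X.lh.Vc_le Z (hWV hoW)
  have hzT : z ∈ T := X.lh.Vc_le Z D.zV'
  -- the action of `T` on the plane
  have hTo : ∀ t ∈ T, t * o * t⁻¹ = o ∨ t * o * t⁻¹ = z * o := by
    intro t ht
    have hm : t * o * t⁻¹ ∈ W :=
      (mem_normalizer_iff.mp (hWK ▸ normalizer_le_normalizer_wOf K (hTK ht)) o).mp hoW
    rcases hWcases _ hm with e | e | e | e
    · exact absurd (conj_eq_one_iff.mp e) ho1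
    · exfalso
      have : t * o * t⁻¹ = t * z * t⁻¹ := by rw [e, (hzc t (hTP ht)).eq, mul_inv_cancel_right]
      exact hoz (mul_left_cancel (mul_right_cancel this)).symm
    · exact .inl e
    · exact .inr e
  -- the second conjugate
  obtain ⟨v1, hv1def⟩ : ∃ v1, v1 = k * v * k⁻¹ := ⟨_, rfl⟩
  have hv1V : v1 ∈ cj k (Vc L) := hv1def ▸ conj_mem_cj hv
  have hV1ab : ∀ p ∈ cj k (Vc L), ∀ q ∈ cj k (Vc L), Commute p q := fun p hp q hq =>
    ((isAbExp_map_iff _ (MulAut.conj k).injective).mpr (isAbExp_om _) :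
      IsAbExp 2 (cj k (Vc L))).comm hp hq
  have hov1 : Commute o v1 := hV1ab o hoB.1 v1 hv1V
  have hzv1 : ¬ Commute z v1 := fun hcom => by
    have h2 : Commute (z * o) v := by
      have h3 := hcom.map (MulAut.conj k⁻¹).toMonoidHom
      simp only [MulEquiv.coe_toMonoidHom, MulAut.conj_apply, inv_inv, hoz', hv1def] at h3
      simpa [mul_assoc] using h3
    have h4 : v * (z * o) * v = z * o := by rw [← h2.eq, mul_assoc, hvv, mul_one]
    rw [← mul_assoc, hzv.symm.eq, mul_assoc z v, mul_assoc z, hvo] at h4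
    exact D.zone (mul_eq_left.mp (mul_left_cancel h4))
  -- elements fixing `o` normalise the conjugate
  have hV1cases : ∀ t : G, Commute t o → t * v1 * t⁻¹ = v1 ∨ t * v1 * t⁻¹ = v1 * o := by
    intro t ht
    have htk : t ∈ cj k L :=
      D.centralizer_le_cj hoB.1 ho1 (mem_centralizer_singleton_iff.mpr ht.eq)
    have hm : t * v1 * t⁻¹ ∈ cj k (Vc L) := by
      rw [mem_cj] at htk ⊢
      have := conj_mem_Vc htk (mem_cj.mp hv1V)
      simpa [mul_assoc] using this
    have hv1o : v1 ≠ o := by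
      rw [hv1def, ho]; exact fun e => hvz (mul_left_cancel (mul_right_cancel e))
    have hv11 : v1 ≠ 1 := fun e => hv1 (conj_eq_one_iff.mp (hv1def ▸ e))
    rcases four_cases (by rw [card_cj, hV4]) hv1V hoB.1 hv11 ho1 hv1o (by
      rw [hv1def, show k * v * k⁻¹ * (k * v * k⁻¹) = k * (v * v) * k⁻¹ by group, hvv, mul_one,
        mul_inv_cancel]) _ hm with e | e | e | e
    · exact absurd (conj_eq_one_iff.mp e) hv11
    · exact .inl e
    · exfalso
      have : t * v1 * t⁻¹ = t * o * t⁻¹ := by rw [e, ht.eq, mul_inv_cancel_right]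
      exact hv1o (mul_left_cancel (mul_right_cancel this))
    · exact .inr e
  -- the conjugate of `o`
  obtain ⟨x, hxdef⟩ : ∃ x, x = g * o * g⁻¹ := ⟨_, rfl⟩
  have hxT : x ∈ T := hxdef ▸ (mem_normalizer_iff.mp hgT o).mp hoT
  have hxP : x ∈ (P : Subgroup G) := hTP hxT
  have hxx : x * x = 1 := by
    rw [hxdef, show g * o * g⁻¹ * (g * o * g⁻¹) = g * (o * o) * g⁻¹ by group, hoo, mul_one,
      mul_inv_cancel]
  have hxinv : x⁻¹ = x := inv_eq_of_mul_eq_one_right hxx
  have hovo : o * v * o = v * z := by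
    calc o * v * o = v * (v * o * v) * o := by simp [← mul_assoc, hvv]
      _ = v * (o * z) * o := by rw [hvo]
      _ = v * z := by rw [← hzo.eq, mul_assoc v, mul_assoc z, hoo, mul_one]
  have hxv : x * v * x = v * z := by
    have hgv : g * v * g⁻¹ ∈ Vc L := conj_mem_Vc (hPL hgP) hv
    have hgz : g * z * g⁻¹ = z := by rw [(hzc g hgP).eq, mul_inv_cancel_right]
    have h1 : x * (g * v * g⁻¹) * x = g * v * g⁻¹ * z := by
      calc x * (g * v * g⁻¹) * x = g * (o * v * o) * g⁻¹ := by rw [hxdef]; group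
        _ = g * v * g⁻¹ * (g * z * g⁻¹) := by rw [hovo]; group
        _ = _ := by rw [hgz]
    rcases hVcases _ hgv with e | e | e | e
    · exact absurd (conj_eq_one_iff.mp e) hv1
    · rwa [e] at h1
    · exact absurd (mul_left_cancel (mul_right_cancel (e.trans hgz.symm))) hvz
    · rw [e, mul_assoc v z z, hzz, mul_one] at h1
      have h2 : x * v * x * z = v := by
        rw [mul_assoc (x * v), (hzc x hxP).eq, ← mul_assoc, mul_assoc x v z]; exact h1
      calc x * v * x = x * v * x * z * z := by rw [mul_assoc _ z z, hzz, mul_one]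
        _ = v * z := by rw [h2]
  have hxo : Commute x o := by
    rcases hTo x hxT with e | e
    · exact mul_inv_eq_iff_eq_mul.mp e
    exfalso
    rw [hxinv] at e
    have hq : Commute (x * v) o := by
      refine mul_inv_eq_iff_eq_mul.mp ?_
      calc x * v * o * (x * v)⁻¹ = x * (v * o * v⁻¹) * x⁻¹ := by group
        _ = x * (o * z) * x := by rw [hvinv, hvo, hxinv]
        _ = x * o * x * z := by
            rw [mul_assoc x (o * z), mul_assoc o z, ← (hzc x hxP).eq]; group
        _ = o := by rw [e, hzo.eq, mul_assoc, hzz, mul_one]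
    have hq2 : x * v * (x * v) = z := by
      rw [show x * v * (x * v) = x * v * x * v by group, hxv, ← hzv.eq, mul_assoc, hvv, mul_one]
    refine hzv1 (mul_inv_eq_iff_eq_mul.mp ?_)
    rw [← hq2]
    set q := x * v
    rw [show q * q * v1 * (q * q)⁻¹ = q * (q * v1 * q⁻¹) * q⁻¹ by group]
    rcases hV1cases q hq with e' | e'
    · rw [e', e']
    · rw [e', show q * (v1 * o) * q⁻¹ = (q * v1 * q⁻¹) * (q * o * q⁻¹) by group, e', hq.eq,
        mul_inv_cancel_right, mul_assoc, hoo, mul_one]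
  -- a central involution of `T`
  obtain ⟨e, he, d, hd, hdv1, y, hey, hyK⟩ : ∃ e, (e = o ∨ e = z * o) ∧ ∃ d, d = x * e ∧
      Commute d v1 ∧ ∃ y, e = y * z * y⁻¹ ∧ y ∈ K := by
    rcases hV1cases x hxo with e' | e'
    · exact ⟨o, .inl rfl, _, rfl, (show Commute x v1 from mul_inv_eq_iff_eq_mul.mp e').mul_left hov1,
        k, ho, D.kK⟩
    · refine ⟨z * o, .inr rfl, _, rfl, mul_inv_eq_iff_eq_mul.mp ?_, k⁻¹, by rw [inv_inv, hoz'],
        K.inv_mem D.kK⟩
      have hzv1' : z * v1 * z⁻¹ = v1 * o :=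
        (hV1cases z hzo).resolve_left fun h => hzv1 (mul_inv_eq_iff_eq_mul.mp h)
      calc x * (z * o) * v1 * (x * (z * o))⁻¹ = x * (z * (o * v1 * o⁻¹) * z⁻¹) * x⁻¹ := by group
        _ = x * (v1 * o) * x⁻¹ := by rw [hov1.eq, mul_inv_cancel_right, hzv1']
        _ = x * v1 * x⁻¹ * (x * o * x⁻¹) := by group
        _ = v1 := by rw [e', hxo.eq, mul_inv_cancel_right, mul_assoc, hoo, mul_one]
  have heT : e ∈ T := by rcases he with rfl | rfl; exacts [hoT, T.mul_mem hzT hoT]
  have hee : e * e = 1 := by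
    rcases he with rfl | rfl
    · exact hoo
    · rw [mul_assoc, ← mul_assoc o, ← hzo.eq, mul_assoc z o, hoo, mul_one, hzz]
  have hxe : Commute x e := by
    rcases he with rfl | rfl
    exacts [hxo, (hzc x hxP).mul_right hxo]
  have hez : Commute z e := by
    rcases he with rfl | rfl
    exacts [hzo, (Commute.refl z).mul_right hzo]
  have hdo : Commute d o := by
    rw [hd]
    refine hxo.mul_left ?_
    rcases he with rfl | rfl
    exacts [Commute.refl _, hzo.mul_left (Commute.refl _)]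
  have hdT : d ∈ T := hd ▸ T.mul_mem hxT heT
  have hdd : d * d = 1 := by
    rw [hd, show x * e * (x * e) = x * (e * x) * e by group, ← hxe.eq,
      ← mul_assoc x x, hxx, one_mul, hee]
  have hdv : Commute d v := by
    have heve : e * v * e = v * z := by
      rcases he with rfl | rfl
      · exact hovo
      · calc z * o * v * (z * o) = z * (o * v * (z * o)) := by group
          _ = z * (o * v * (o * z)) := by rw [hzo.eq]
          _ = z * (o * v * o) * z := by group
          _ = v * z := by rw [hovo, ← mul_assoc z, hzv.eq, mul_assoc v, hzz, mul_one]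
    refine mul_inv_eq_iff_eq_mul.mp ?_
    calc d * v * d⁻¹ = x * (e * v * e⁻¹) * x⁻¹ := by rw [hd]; group
      _ = x * (v * z) * x := by rw [inv_eq_of_mul_eq_one_right hee, heve, hxinv]
      _ = x * v * (z * x) := by group
      _ = x * v * x * z := by rw [(hzc x hxP).symm.eq]; group
      _ = v := by rw [hxv, mul_assoc, hzz, mul_one]
  have hTd : ∀ t ∈ T, Commute t d := by
    intro t ht
    have htz : t * z * t⁻¹ = z := by rw [(hzc t (hTP ht)).eq, mul_inv_cancel_right]
    have hx' : t * x * t⁻¹ = x ∨ t * x * t⁻¹ = z * x := by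
      have ht' : g⁻¹ * t * g ∈ T := by
        have := (mem_normalizer_iff.mp ((normalizer (T : Set G)).inv_mem hgT) t).mp ht
        rwa [inv_inv] at this
      have hgz : g * z * g⁻¹ = z := by rw [(hzc g hgP).eq, mul_inv_cancel_right]
      have h1 : t * x * t⁻¹ = g * (g⁻¹ * t * g * o * (g⁻¹ * t * g)⁻¹) * g⁻¹ := by
        rw [hxdef]; group
      rcases hTo _ ht' with h | h
      · exact .inl (by rw [h1, h, hxdef])
      · refine .inr ?_
        rw [h1, h, hxdef]
        conv_rhs => rw [← hgz]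
        group
    have he' : t * e * t⁻¹ = e ∨ t * e * t⁻¹ = z * e := by
      rcases he with rfl | rfl <;> rcases hTo t ht with h | h
      · exact .inl h
      · exact .inr h
      · exact .inl (by rw [show t * (z * o) * t⁻¹ = t * z * t⁻¹ * (t * o * t⁻¹) by group, htz, h])
      · exact .inr (by rw [show t * (z * o) * t⁻¹ = t * z * t⁻¹ * (t * o * t⁻¹) by group, htz, h])
    have htd : t * d * t⁻¹ = d ∨ t * d * t⁻¹ = z * d := by
      have h1 : t * d * t⁻¹ = t * x * t⁻¹ * (t * e * t⁻¹) := by rw [hd]; group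
      rw [h1, hd]
      rcases hx' with h | h <;> rcases he' with h' | h' <;> rw [h, h']
      · exact .inl rfl
      · exact .inr (by rw [← mul_assoc, (hzc x hxP).eq, mul_assoc])
      · exact .inr (mul_assoc _ _ _)
      · exact .inl (by rw [mul_assoc z, ← mul_assoc x, (hzc x hxP).eq, mul_assoc z, ← mul_assoc z z,
          hzz, one_mul])
    rcases htd with h | h
    · exact mul_inv_eq_iff_eq_mul.mp h
    exfalso
    obtain ⟨s, hso, hs⟩ : ∃ s, Commute s o ∧ s * d * s⁻¹ = z * d := by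
      rcases hTo t ht with h' | h'
      · exact ⟨t, mul_inv_eq_iff_eq_mul.mp h', h⟩
      · refine ⟨v * t, mul_inv_eq_iff_eq_mul.mp ?_, ?_⟩
        · calc v * t * o * (v * t)⁻¹ = v * (t * o * t⁻¹) * v⁻¹ := by group
            _ = v * z * o * v := by rw [h', hvinv]; group
            _ = z * (v * o * v) := by rw [← hzv.eq]; group
            _ = o := by rw [hvo, ← mul_assoc, hzo.eq, mul_assoc, hzz, mul_one]
        · calc v * t * d * (v * t)⁻¹ = v * (t * d * t⁻¹) * v⁻¹ := by group
            _ = z * d := by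
                rw [h, ((hzv.mul_left hdv).symm).eq, mul_inv_cancel_right]
    have h5 : Commute (z * d) v1 := by
      have key : ∀ p, Commute d p → Commute (z * d) (s * p * s⁻¹) := fun p hp => by
        have := hp.map (MulAut.conj s).toMonoidHom
        simpa [hs] using this
      rcases hV1cases s hso with h' | h'
      · exact h' ▸ key v1 hdv1
      · have hzd : Commute (z * d) o := hzo.mul_left hdo
        have h6 := (key v1 hdv1)
        rw [h'] at h6
        have := h6.mul_right hzd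
        rwa [mul_assoc, hoo, mul_one] at this
    have h7 := h5.mul_left hdv1
    rw [mul_assoc, hdd, mul_one] at h7
    exact hzv1 h7
  have hdZ : d ∈ zJ T := om_le_om_jay (mem_om.mpr ⟨hdT, hTd, by rw [pow_two, hdd]⟩)
  -- it centralises `K`
  have hdC : d ∈ hC T K := by
    refine ⟨hdZ, mem_centralizer_iff.mpr fun y hy => ?_⟩
    have hu : v * v1 ∈ K := by
      rw [hv1def, show v * (k * v * k⁻¹) = v * k * v * k⁻¹ by group]
      refine K.mul_mem ?_ (K.inv_mem D.kK)
      have := (mem_normalizer_iff.mp (hTK hvT) k).mp D.kK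
      rwa [hvinv] at this
    have huQ : v * v1 ∉ Cfsg.pCoreOf 2 L' := fun hQ => by
      have hcom : o * (v * v1) = v * v1 * o :=
        mem_centralizer_iff.mp (pCoreOf_le_Cn L' hQ).2 o (hWV hoW)
      have h2 : v * o * v = o := by
        have h3 : o * v = v * o := mul_right_cancel (b := v1) (by
          rw [mul_assoc, hcom, mul_assoc, mul_assoc, hov1.eq])
        rw [← h3, mul_assoc, hvv, mul_one]
      rw [hvo] at h2
      exact D.zone (mul_eq_left.mp h2)
    have hle : K ≤ centralizer ({d} : Set G) := by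
      rw [D.eqK]
      refine (X.lh.comp_le_sup Z D.adm (D.eqK ▸ hu) huQ).trans (sup_le (zpowers_le.mpr ?_)
        (jay_le_centralizer_zJ hdZ))
      exact mem_centralizer_singleton_iff.mpr (hdv.mul_right hdv1).eq.symm
    exact mem_centralizer_singleton_iff.mp (hle hy)
  have hxed : x = e * d := by rw [hd, ← mul_assoc, ← hxe.eq, mul_assoc, hee, mul_one]
  rcases eq_or_ne d 1 with hd1 | hd1
  · refine hgL' (hNP g hgP ?_)
    rw [← hxdef, hxed, hd1, mul_one]
    rcases he with rfl | rfl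
    exacts [hoW, W.mul_mem hzW hoW]
  have hzd : z ≠ d := fun h => hzC (h ▸ hdC)
  have hgd : g * d * g⁻¹ ∈ zJ T :=
    (mem_normalizer_iff.mp (normalizer_le_normalizer_om _
      (normalizer_le_normalizer_jay 2 T hgT)) d).mp hdZ
  rcases four_cases h4 D.zZ hdZ D.zone hd1 hzd hzz _ hgd with h | h | h | h
  · exact hd1 (conj_eq_one_iff.mp h)
  · refine hzd (mul_left_cancel (a := g) (mul_right_cancel (b := g⁻¹) ?_)).symm
    rw [h, (hzc g hgP).eq, mul_inv_cancel_right]
  · exact hd1 (hfree d hdC (by rw [h]; exact hdC))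
  · refine D.not_conj hdC (y := g⁻¹ * (y⁻¹ * g * k)) ?_
    have hyd : Commute y d := mem_centralizer_iff.mp hdC.2 y hyK
    have hzd' : z * d = y⁻¹ * x * y := by
      rw [hxed, hey]
      calc z * d = z * (y⁻¹ * d * y) := by rw [mul_assoc, ← hyd.eq, inv_mul_cancel_left]
        _ = _ := by group
    calc d = g⁻¹ * (g * d * g⁻¹) * g := by group
      _ = g⁻¹ * (y⁻¹ * (g * (k * z * k⁻¹) * g⁻¹) * y) * g := by rw [h, hzd', hxdef, ho]
      _ = _ := by group

end

/-- **No straddling component.** -/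
theorem CHyp.no_straddle {L : Subgroup G} {P : Sylow 2 G} (C : CHyp L P) {T L' K : Subgroup G}
    (X : TopHyp L P T L' K) (hlt : T < (P : Subgroup G)) : False := by
  obtain ⟨a, k, z, D⟩ := C.exists_data X hlt
  exact D.false

end Cfsg.Agent.H85.ZN
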