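import Cfsg.Agent.H85.ZN.Core2

/-!
Two components with different maximal 2-local overgroups.
-/

set_option autoImplicit false
set_option linter.style.haveILetI false
set_option linter.unusedSectionVars false

namespace Cfsg.Agent.H85.ZN

open Subgroup Cfsg.Agent.Thompson

variable {G : Type*} [Group G] [Finite G]

theorem isPGroup_zpowers_two {x : G} (hx : x * x = 1) : IsPGroup 2 (zpowers x) := fun z => by
  obtain ⟨n, hn⟩ := mem_zpowers_iff.mp z.2
  refine ⟨1, Subtype.ext ?_⟩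
  rw [coe_pow, coe_one, ← hn, ← zpow_natCast (x ^ n), ← zpow_mul, mul_comm, zpow_mul,
    zpow_natCast, pow_one, pow_two, hx, one_zpow]

/-- Straddling subgroups include maximal ones. -/
theorem exists_max_straddling {M R : Subgroup G} (hR : R ∈ Cfsg.straddlingTwoSubgroups M) :
    ∃ T, T ∈ Cfsg.maxStraddlingTwoSubgroups M := by
  obtain ⟨T1, hT1, h1⟩ := Set.exists_max_image (Cfsg.straddlingTwoSubgroups M)
    (fun T => Cfsg.maxElemAbelianOrder T) (Set.toFinite _) ⟨R, hR⟩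
  obtain ⟨T2, hT2, h2⟩ := Set.exists_max_image
    {T | T ∈ Cfsg.straddlingTwoSubgroups M ∧
      Cfsg.maxElemAbelianOrder T = Cfsg.maxElemAbelianOrder T1}
    (fun T => Nat.card ↥(Cfsg.thompsonSubgroupOf 2 T)) (Set.toFinite _) ⟨T1, hT1, rfl⟩
  obtain ⟨T3, hT3, h3⟩ := Set.exists_max_image
    {T | T ∈ Cfsg.straddlingTwoSubgroups M ∧
      Cfsg.maxElemAbelianOrder T = Cfsg.maxElemAbelianOrder T1 ∧
      Nat.card ↥(Cfsg.thompsonSubgroupOf 2 T) = Nat.card ↥(Cfsg.thompsonSubgroupOf 2 T2)}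
    (fun T => Nat.card T) (Set.toFinite _) ⟨T2, hT2.1, hT2.2, rfl⟩
  obtain ⟨hs3, he3, hj3⟩ := hT3
  refine ⟨T3, hs3, fun T hT => ⟨he3.symm ▸ h1 T hT, fun he => ?_⟩⟩
  have he' := he.trans he3
  exact ⟨hj3.symm ▸ h2 T ⟨hT, he'⟩, fun hj => h3 T ⟨hT, he', hj.trans hj3⟩⟩

/-- In a ZN-group a maximal 2-local `L` containing `N(J(P))` is not strongly embedded. -/
theorem exists_straddling {L : Subgroup G} {P : Sylow 2 G} (m : MHyp L P)
    (h : LHyp L (P : Subgroup G)) (jn : ¬ jay 2 (P : Subgroup G) ≤ Cfsg.pCoreOf 2 L) :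
    ∃ R, R ∈ Cfsg.straddlingTwoSubgroups L := by
  have Z := m.zn
  by_contra hno
  push Not at hno
  have hse : ∀ x ∈ L, x ≠ 1 → x * x = 1 → centralizer ({x} : Set G) ≤ L := by
    intro x hx hx1 hx2
    have h2 := isPGroup_zpowers_two hx2
    have hne : zpowers x ≠ ⊥ := fun e => hx1 (zpowers_eq_bot.mp e)
    by_contra hle
    exact hno _ (straddle_of h2 hne (zpowers_le.mpr hx) (isTwoLocal_normalizer h2 hne) le_normalizer
      fun hN => hle ((centralizer_singleton_le_normalizer x).trans hN))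
  -- an involution outside `L`
  obtain ⟨u, hu, hu2⟩ : ∃ u, u ∉ L ∧ u * u = 1 := by
    by_contra hall
    push Not at hall
    set N := closure {u : G | u * u = 1} with hN
    have hNL : N ≤ L := (closure_le _).mpr fun u hu => by
      by_contra hne; exact hall u hne hu
    have hNn : ∀ g : G, g ∈ normalizer (N : Set G) := fun g =>
      H61.mem_normalizer_of_conj_mem fun x hx => by
        induction hx using closure_induction with
        | mem x hx =>
          refine subset_closure ?_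
          show g * x * g⁻¹ * (g * x * g⁻¹) = 1
          rw [show g * x * g⁻¹ * (g * x * g⁻¹) = g * (x * x) * g⁻¹ by group,
            show x * x = 1 from hx, mul_one, mul_inv_cancel]
        | one => simp [N.one_mem]
        | mul x y _ _ p q => simpa [mul_assoc] using N.mul_mem p q
        | inv x _ p => simpa [mul_assoc] using N.inv_mem p
    obtain ⟨⟨z, hz⟩, hz1⟩ : ∃ z : ↥(Vc L), z ≠ 1 := by
      haveI := (Subgroup.nontrivial_iff_ne_bot (Vc L)).mpr
        (om_ne_bot (isPGroup_pCoreOf L) (h.pCoreOf_ne_bot Z))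
      exact exists_ne 1
    have hzN : z ∈ Cfsg.pCoreOf 2 N := by
      refine le_pCoreOf (R := Cfsg.pCoreOf 2 L ⊓ N) ((isPGroup_pCoreOf L).to_le inf_le_left)
        inf_le_right (fun g hg => H61.mem_normalizer_of_conj_mem fun x hx => ⟨?_, ?_⟩)
        ⟨om_le _ hz, subset_closure (om_sq hz)⟩
      · exact (mem_normalizer_iff.mp (le_normalizer_pCoreOf L (hNL hg)) x).mp hx.1
      · exact N.mul_mem (N.mul_mem hg hx.2) (N.inv_mem hg)
    have hle : Cfsg.pCoreOf 2 N ≤ Cfsg.pCoreOf 2 (⊤ : Subgroup G) :=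
      le_pCoreOf (isPGroup_pCoreOf N) le_top
        fun g _ => normalizer_le_normalizer_pCoreOf N (hNn g)
    obtain ⟨y, hy, hyz⟩ := hle hzN
    have hy' : (y : G) ∈ Cfsg.pCore 2 G := by
      have hn : (Cfsg.pCoreOf 2 (⊤ : Subgroup G)).Normal :=
        normalizer_eq_top_iff.mp (eq_top_iff.mpr (le_normalizer_pCoreOf ⊤))
      exact H61.le_pCore hn (isPGroup_pCoreOf ⊤) ⟨y, hy, rfl⟩
    rw [m.core, mem_bot] at hy'
    exact hz1 (Subtype.ext (hyz ▸ hy'))
  have hu1 : u ≠ 1 := fun e => hu (e ▸ L.one_mem)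
  -- involutions of `L` are conjugate to `u`
  have hconj : ∀ x ∈ L, x ≠ 1 → x * x = 1 → ∃ g, u = g * x * g⁻¹ := by
    intro x hx hx1 hx2
    set w := x * u with hw
    have hxi : x⁻¹ = x := inv_eq_of_mul_eq_one_right hx2
    have hui : u⁻¹ = u := inv_eq_of_mul_eq_one_right hu2
    rcases Nat.even_or_odd' (orderOf w) with ⟨n, hn | hn⟩
    · exfalso
      have hn0 : 0 < n := by have := orderOf_pos w; omega
      have hwn : w ^ n ≠ 1 := fun e => by
        have := Nat.le_of_dvd hn0 (orderOf_dvd_of_pow_eq_one e); omega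
      have hwn2 : w ^ n * w ^ n = 1 := by
        rw [← pow_add, show n + n = orderOf w by omega, pow_orderOf_eq_one]
      have hwinv : (w ^ n)⁻¹ = w ^ n := inv_eq_of_mul_eq_one_right hwn2
      have e1 : x * w ^ n * x⁻¹ = w ^ n := by
        rw [← conj_pow, show x * w * x⁻¹ = w⁻¹ by
          rw [hw, mul_inv_rev, hui, ← mul_assoc, hx2, one_mul], inv_pow, hwinv]
      have e2 : u * w ^ n * u⁻¹ = w ^ n := by
        rw [← conj_pow, show u * w * u⁻¹ = w⁻¹ by
          rw [hw, mul_inv_rev, hui, hxi, mul_assoc, mul_assoc, hu2, mul_one], inv_pow, hwinv]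
      have hwL : w ^ n ∈ L := hse x hx hx1 hx2
        (mem_centralizer_singleton_iff.mpr (mul_inv_eq_iff_eq_mul.mp e1).symm)
      exact hu (hse _ hwL hwn hwn2 (mem_centralizer_singleton_iff.mpr (mul_inv_eq_iff_eq_mul.mp e2)))
    · refine ⟨w ^ n, ?_⟩
      have e1 : x * w ^ n * x⁻¹ = (w ^ n)⁻¹ := by
        rw [← conj_pow, show x * w * x⁻¹ = w⁻¹ by
          rw [hw, mul_inv_rev, hui, ← mul_assoc, hx2, one_mul], inv_pow]
      have e2 : w ^ n * w ^ n = w⁻¹ := by
        rw [eq_inv_iff_mul_eq_one, ← pow_add, ← pow_succ, show n + n + 1 = orderOf w by omega,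
          pow_orderOf_eq_one]
      calc u = w⁻¹ * x := by rw [hw, mul_inv_rev, hui, hxi, mul_assoc, hx2, mul_one]
        _ = w ^ n * (x * w ^ n * x⁻¹)⁻¹ * x := by rw [e1, inv_inv, e2]
        _ = _ := by group
  obtain ⟨a, ha⟩ := h.exists_adm Z jn
  have haL : a ∈ L := ha.tvL.mem
  obtain ⟨⟨z, hz⟩, hz1⟩ : ∃ z : ↥(Cfsg.omegaCenterOf (P : Subgroup G)), z ≠ 1 := by
    haveI := (Subgroup.nontrivial_iff_ne_bot (Cfsg.omegaCenterOf (P : Subgroup G))).mpr
      (om_ne_bot P.isPGroup' fun e => jn (by rw [e] at *; exact jay_le.trans bot_le))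
    exact exists_ne 1
  have hz1' : z ≠ 1 := fun e => hz1 (Subtype.ext e)
  have hzL : z ∈ L := h.syl.1 (om_le _ hz)
  have ha1 : a ≠ 1 := fun e => (h.setup Z).tv_ne_one ha.tvL.tv (by
    rw [show (⟨a, ha.tvL.mem⟩ : L) = 1 from Subtype.ext e, map_one])
  obtain ⟨g1, hg1⟩ := hconj z hzL hz1' (om_sq hz)
  obtain ⟨g2, hg2⟩ := hconj a haL ha1 ha.tvL.1
  have hgz : g2⁻¹ * g1 * z * (g2⁻¹ * g1)⁻¹ = a := by
    calc g2⁻¹ * g1 * z * (g2⁻¹ * g1)⁻¹ = g2⁻¹ * (g1 * z * g1⁻¹) * g2 := by group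
      _ = g2⁻¹ * (g2 * a * g2⁻¹) * g2 := by rw [← hg1, hg2]
      _ = a := by group
  set g := g2⁻¹ * g1
  have hgP : cj g (P : Subgroup G) ≤ L := by
    refine le_trans (fun y hy => ?_) (hse a haL ha1 ha.tvL.1)
    obtain ⟨p, hp, rfl⟩ := hy
    rw [← hgz]
    exact conj_mem_centralizer (mem_centralizer_singleton_iff.mpr ((mem_om.mp hz).2.1 p hp).eq)
  obtain ⟨l, hl, hle⟩ := sylowTwoIn_conj h.syl (isPGroup_cj P.isPGroup') hgP
  have heq : cj g (P : Subgroup G) = cj l (P : Subgroup G) :=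
    Subgroup.eq_of_le_of_card_ge hle (by rw [card_cj, card_cj])
  have hgL : g ∈ L := by
    have hN : l⁻¹ * g ∈ normalizer ((P : Subgroup G) : Set G) :=
      Thompson.mem_normalizer_of_map_conj (by rw [← cj, cj_mul, heq, cj_inv_cj])
    have := L.mul_mem hl (m.nj (normalizer_le_normalizer_jay 2 _ hN))
    rwa [mul_inv_cancel_left] at this
  have haV : a ∈ Vc L := hgz ▸ conj_mem_Vc hgL (h.om_sylow_le Z le_rfl hz)
  exact (h.setup Z).tv_ne_one ha.tvL.tv
    (img_eq_one_iff.mpr fun v hv => om_comm haV hv)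

section

variable {L T : Subgroup G} (Z : ZHyp G) (h : LHyp L T)
include Z h

/-- Some conjugate of an element of `V` is centralised by `J(T)`. -/
theorem LHyp.exists_conj_centralised {v : G} (hv : v ∈ Vc L) :
    ∃ l ∈ L, jay 2 T ≤ centralizer ({l * v * l⁻¹} : Set G) := by
  set S := h.setup Z
  obtain ⟨l, hl, hmin⟩ := Set.exists_min_image (L : Set G)
    (fun l => {a | Adm L T a ∧ ¬ Commute a (l * v * l⁻¹)}.ncard) (Set.toFinite _) ⟨1, L.one_mem⟩
  refine ⟨l, hl, (h.jay_split Z).trans (sup_le ((closure_le _).mpr fun a ha => ?_) fun q hq =>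
    mem_centralizer_singleton_iff.mpr
      (mem_centralizer_iff.mp (pCoreOf_le_Cn L hq.2).2 _ (conj_mem_Vc hl hv)).symm)⟩
  refine mem_centralizer_singleton_iff.mpr (?_ : Commute a (l * v * l⁻¹)).eq
  by_contra hne
  set v' : Vc L := ⟨l * v * l⁻¹, conj_mem_Vc hl hv⟩ with hv'
  set t := img L ⟨a, ha.tvL.mem⟩ with ht
  have htv' : t • v' ≠ v' := fun e => hne ((img_smul_eq_iff _ _).mp e)
  obtain ⟨c, -, hc1, hcP, hcv, -, -⟩ := S.tv_centre_mem ha.tvL.tv
  set d := S.dOf ha.tvL.tv with hd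
  obtain ⟨e, he, hte⟩ : ∃ e, (e = d ∨ e = d * d) ∧ t • e • v' = e • v' := by
    by_contra hno
    push Not at hno
    have h1 := (hcv v').resolve_left htv'
    have h2 := (hcv (d • v')).resolve_left (hno d (.inl rfl))
    have h3 := (hcv (d • d • v')).resolve_left (by
      have := hno (d * d) (.inr rfl); rwa [mul_smul] at this)
    rw [S.tv_smul_dOf ha.tvL.tv, h1, smul_mul', smul_mul'] at h2
    rw [S.tv_smul_dOf ha.tvL.tv, S.tv_smul_dOf ha.tvL.tv, S.dOf_cube ha.tvL.tv, h1, smul_mul'] at h3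
    have h4 : d • d • c = d • c := by
      refine (mul_eq_one_iff_eq_inv.mp ?_).trans (inv_eq S.hV (d • c))
      have h5 : d • d • v' * d • d • c * (d • v' * d • c) = d • v' * c * (d • d • v' * c) :=
        congrArg₂ (· * ·) h2 h3
      rw [mul_mul_mul_comm, mul_mul_mul_comm (d • v') c, mul_comm (d • v') (d • d • v'),
        S.hV c, mul_one] at h5
      exact mul_eq_left.mp h5
    refine hc1 (S.eq_one_of_dOf_fixed ha.tvL.tv ?_ hcP)
    exact MulAction.injective d h4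
  obtain ⟨y, hy⟩ := (rho L).rangeRestrict_surjective e
  have hlow := hmin ((y : G) * l) (L.mul_mem y.2 hl)
  have key : ∀ b, Adm L T b → Commute b (l * v * l⁻¹) →
      Commute b ((y : G) * l * v * ((y : G) * l)⁻¹) := by
    intro b hb hbc
    have hpl : S.plane hb.tvL.tv ≠ S.plane ha.tvL.tv := fun e0 => hne (by
      have hq : Commute (b * a) (l * v * l⁻¹) :=
        (mem_centralizer_iff.mp (pCoreOf_le_Cn L (h.adm_same Z ha hb
          (by rw [planeA_eq S hb.tvL, planeA_eq S ha.tvL, e0]))).2 _ v'.2).symm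
      have := hbc.mul_left hq
      rwa [← mul_assoc, hb.tvL.1, one_mul] at this)
    have hcd : Commute (img L ⟨b, hb.tvL.mem⟩) e := by
      have h0 := (S.of_plane_ne hb.tvL.tv ha.tvL.tv hpl).2.2.1
      rcases he with rfl | rfl
      exacts [h0, h0.mul_right h0]
    have hfix : img L ⟨b, hb.tvL.mem⟩ • e • v' = e • v' := by
      rw [← mul_smul, hcd.eq, mul_smul,
        (img_smul_eq_iff (⟨b, hb.tvL.mem⟩ : L) v').mpr hbc]
    have h1 := (img_smul_eq_iff (⟨b, hb.tvL.mem⟩ : L) _).mp hfix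
    rw [← hy, img_smul, coe_smul_Vc] at h1
    simpa [mul_assoc, hv'] using h1
  have hsub : {b | Adm L T b ∧ ¬ Commute b ((y : G) * l * v * ((y : G) * l)⁻¹)} ⊂
      {b | Adm L T b ∧ ¬ Commute b (l * v * l⁻¹)} := by
    have hs : {b | Adm L T b ∧ ¬ Commute b ((y : G) * l * v * ((y : G) * l)⁻¹)} ⊆
        {b | Adm L T b ∧ ¬ Commute b (l * v * l⁻¹)} :=
      fun b hb => ⟨hb.1, fun hc => hb.2 (key b hb.1 hc)⟩
    refine (Set.ssubset_iff_of_subset hs).mpr ⟨a, ⟨ha, hne⟩, fun hb => hb.2 ?_⟩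
    have h1 := (img_smul_eq_iff (⟨a, ha.tvL.mem⟩ : L) _).mp hte
    rw [← hy, img_smul, coe_smul_Vc] at h1
    simpa [mul_assoc, hv'] using h1
  exact absurd hlow (not_le.mpr (Set.ncard_lt_ncard hsub (Set.toFinite _)))

end

section

variable {M : Subgroup G} {S : Sylow 2 G} {T L K : Subgroup G} (X : TopHyp M S T L K)
include X

theorem TopHyp.not_conj {P : Sylow 2 G} {z d y : G}
    (hall : ∀ e ∈ Cfsg.omegaCenterOf (P : Subgroup G), e = 1 ∨ e = z) (hd : d ∈ hC T K)
    (hdy : d = y * z * y⁻¹) : False := by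
  have hy : ∀ e ∈ Cfsg.omegaCenterOf ((y • P : Sylow 2 G) : Subgroup G), e = 1 ∨ e = d := by
    intro e he
    rw [Sylow.coe_subgroup_smul] at he
    have he2 : e ∈ cj y (Cfsg.omegaCenterOf (P : Subgroup G)) := by rw [cj_om]; exact he
    rcases hall _ (mem_cj.mp he2) with h | h
    · refine .inl ?_
      calc e = y * (y⁻¹ * e * y) * y⁻¹ := by group
        _ = 1 := by rw [h, mul_one, mul_inv_cancel]
    · refine .inr ?_
      calc e = y * (y⁻¹ * e * y) * y⁻¹ := by group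
        _ = d := by rw [h, hdy]
  refine X.m.zn.not_centralised X.lh.syl.2.1 X.jc (y • P) ?_ ?_ <;>
    intro x hx <;> rw [mem_centralizer_iff] <;> intro e he <;> rcases hy e he with rfl | rfl
  · simp
  · exact (mem_centralizer_iff.mp hd.2 x hx).symm
  · simp
  · exact (mem_zJ_commute hd.1 hx).eq.symm

/-- With a second top, `T` normalises the component. -/
theorem TopHyp.le_normalizer_two {M' : Subgroup G} {S' : Sylow 2 G} {L' K' : Subgroup G}
    (X' : TopHyp M' S' T L' K') (hne : L' ≠ L) : T ≤ normalizer (K : Set G) := by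
  intro t ht
  have Z := X.m.zn
  by_contra htK
  have X1 := X.conj (X.max.1.2.2.1 ht)
  rw [cj_of_mem_normalizer (le_normalizer ht), cj_of_mem_normalizer (le_normalizer (X.lh.syl.1 ht))]
    at X1
  set K1 := cj t K with hK1
  have hK1K : K1 ≠ K := fun e => htK (Thompson.mem_normalizer_of_map_conj e)
  obtain ⟨c, hc1, hcW, hcZ, hcline, hcK⟩ := X.lh.jcomp_c Z X.jc X.kl
  have htJ : t ∈ normalizer (jay 2 T : Set G) := normalizer_le_normalizer_jay 2 T (le_normalizer ht)
  have htZ : ∀ x ∈ zJ T, t * x * t⁻¹ ∈ zJ T := fun x hx =>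
    (mem_normalizer_iff.mp (normalizer_le_normalizer_om _ htJ) x).mp hx
  set c1 := t * c * t⁻¹ with hc1def
  have hc1Z : c1 ∈ zJ T := htZ c hcZ
  have hc1W : c1 ∈ Cfsg.wOf K1 := by rw [hK1, ← cj_wOf]; exact conj_mem_cj hcW
  have hcH : c ∈ hC T K1 := ⟨hcZ, mem_centralizer_iff.mpr fun x hx =>
    (mem_centralizer_iff.mp (X.lh.jcomp_centralizes Z X.jc X.kl X1.jc X1.kl hK1K hx) c hcW).symm⟩
  have hc1H : c1 ∈ hC T K := ⟨hc1Z, mem_centralizer_iff.mpr fun x hx =>
    (mem_centralizer_iff.mp (X.lh.jcomp_centralizes Z X1.jc X1.kl X.jc X.kl hK1K.symm hx) c1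
      hc1W).symm⟩
  have hcnot : c ∉ hC T K := fun h => hcK fun x hx =>
    mem_centralizer_singleton_iff.mpr (mem_centralizer_iff.mp h.2 x hx)
  have hc11 : c1 ≠ 1 := fun e => hc1 (conj_eq_one_iff.mp e)
  have hcc : c ≠ c1 := fun e => hcnot (e ▸ hc1H)
  have h4 := X.card_zJ_le_four X' rfl hne
  have hcases := four_cases h4 hcZ hc1Z hc1 hc11 hcc (om_sq hcZ)
  have key : ∀ {Ki : Subgroup G}, TopHyp M' S' T L' Ki → ∀ x ∈ hC T Ki, x ≠ 1 → x = c * c1 := by
    intro Ki Xi x hx hx1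
    rcases hcases x hx.1 with e | e | e | e
    · exact absurd e hx1
    · exact absurd (mem_bot.mp ((X1.inter_bot Xi rfl hne).le ⟨e ▸ hcH, hx⟩)) hx1
    · exact absurd (mem_bot.mp ((X.inter_bot Xi rfl hne).le ⟨e ▸ hc1H, hx⟩)) hx1
    · exact e
  obtain ⟨c', hc'1, hc'W, hc'Z, hc'line, hc'K⟩ := X'.lh.jcomp_c X'.m.zn X'.jc X'.kl
  have hc'not : c' ∉ hC T K' := fun h => hc'K fun x hx =>
    mem_centralizer_singleton_iff.mpr (mem_centralizer_iff.mp h.2 x hx)
  have hc'ne : c' ≠ c * c1 := by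
    intro e
    obtain ⟨x, hx, hx1⟩ : ∃ x ∈ hC T K', x ≠ 1 := by
      by_contra hno
      push Not at hno
      have hb := X'.lh.jcomp_card X'.m.zn X'.jc X'.kl
      rw [(Subgroup.eq_bot_iff_forall (hC T K')).mpr hno, card_bot] at hb
      rcases two_cases (by omega : Nat.card (zJ T) ≤ 2) hcZ hc1 c1 hc1Z with e' | e'
      · exact hc11 e'
      · exact hcc e'.symm
    exact hc'not (e ▸ key X' x hx hx1 ▸ hx)
  -- `t` normalises the second component
  have htK' : cj t K' = K' := by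
    by_contra hne'
    have X2 := X'.conj (X'.max.1.2.2.1 ht)
    rw [cj_of_mem_normalizer (le_normalizer ht),
      cj_of_mem_normalizer (le_normalizer (X'.lh.syl.1 ht))] at X2
    exact hc'ne (key X2 c' ⟨hc'Z, mem_centralizer_iff.mpr fun x hx =>
      (mem_centralizer_iff.mp (X'.lh.jcomp_centralizes Z X'.jc X'.kl X2.jc X2.kl hne' hx) c'
        hc'W).symm⟩ hc'1)
  have htc' : t * c' * t⁻¹ = c' := by
    have hW : t * c' * t⁻¹ ∈ Cfsg.wOf K' := by
      rw [← htK', ← cj_wOf]; exact conj_mem_cj hc'W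
    rcases hc'line _ hW (fun j hj => mem_zJ_commute (htZ c' hc'Z) hj) with e | e
    · exact absurd (conj_eq_one_iff.mp e) hc'1
    · exact e
  rcases hcases c' hc'Z with e | e | e | e
  · exact hc'1 e
  · exact hcc (by rw [e] at htc'; exact htc'.symm)
  · refine hcc ?_
    rw [e] at htc'
    exact (mul_left_cancel (mul_right_cancel htc')).symm
  · exact hc'ne e

/-- A second top over `L` when `T` is a Sylow subgroup and `N(J(T)) ≤ L`. -/
theorem TopHyp.exists_second (P : Sylow 2 G) (hP : T = (P : Subgroup G))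
    (hN : normalizer (jay 2 T : Set G) ≤ L) :
    ∃ L2 K2, L2 ≠ L ∧ TopHyp L P T L2 K2 := by
  subst hP
  have Z := X.m.zn
  have m : MHyp L P := ⟨Z, X.m.core, X.loc.1, hN⟩
  have jn := (X.m.overgroup X.max X.loc.1 X.not_le X.lh.syl.1).2
  -- it suffices that `P` is maximal straddling
  suffices hmax : (P : Subgroup G) ∈ Cfsg.maxStraddlingTwoSubgroups L by
    obtain ⟨K2, hK2⟩ := m.exists_outside hmax
    obtain ⟨L2, X2⟩ := m.exists_top hmax hK2
    exact ⟨L2, K2, fun e => X2.nm (e ▸ X2.kl), X2⟩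
  by_contra hnot
  -- maximal straddlers below `P`
  obtain ⟨R, hR⟩ := exists_straddling m X.lh jn
  obtain ⟨T1, hT1⟩ := exists_max_straddling hR
  obtain ⟨l, hl, hle⟩ := sylowTwoIn_conj X.lh.syl hT1.1.1 hT1.1.2.2.1
  set T2 := cj l⁻¹ T1 with hT2def
  have hT2 : T2 ∈ Cfsg.maxStraddlingTwoSubgroups L := max_cj hT1 (L.inv_mem hl)
  have hT2P : T2 ≤ (P : Subgroup G) := by
    have := cj_le_cj (g := l⁻¹) hle; rwa [cj_inv_cj] at this
  have hlt : T2 < (P : Subgroup G) := lt_of_le_of_ne hT2P fun e => hnot (e ▸ hT2)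
  obtain ⟨K2, hK2⟩ := m.exists_outside hT2
  obtain ⟨L2, X2⟩ := m.exists_top hT2 hK2
  have hne : L2 ≠ L := fun e => X2.nm (e ▸ X2.kl)
  refine (CHyp.mk X.lh m jn fun v hv hv1 => ?_).no_straddle X2 hlt
  obtain ⟨y, hy, hyJ⟩ := X.lh.exists_conj_centralised Z hv
  set w := y * v * y⁻¹ with hw
  refine ⟨?_, y⁻¹, L.inv_mem hy, ?_⟩
  swap
  · refine (cj_le_cj hyJ).trans (le_of_eq ?_)
    rw [cj_centralizer_singleton, hw]
    congr 2
    group
  suffices hwL : centralizer ({w} : Set G) ≤ L by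
    intro x hx
    have := cj_le_of_mem (L.inv_mem hy) hwL (by
      rw [cj_centralizer_singleton, hw, show y⁻¹ * (y * v * y⁻¹) * y⁻¹⁻¹ = v by group]; exact hx)
    exact this
  by_contra hwL
  have hwV : w ∈ Vc L := conj_mem_Vc hy hv
  have hw1 : w ≠ 1 := fun e => hv1 (conj_eq_one_iff.mp e)
  have hwZ : w ∈ zJ (P : Subgroup G) := mem_om.mpr ⟨X.lh.Vc_le_jay Z hwV, fun j hj =>
    mem_centralizer_singleton_iff.mp (hyJ hj), by rw [pow_two]; exact om_sq hwV⟩
  set J := jay 2 (P : Subgroup G) with hJ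
  have hw2 := isPGroup_zpowers_two (om_sq hwV)
  have hne' : zpowers w ≠ ⊥ := fun e => hw1 (zpowers_eq_bot.mp e)
  have hJs : J ∈ Cfsg.straddlingTwoSubgroups L :=
    straddle_of (P.isPGroup'.to_le jay_le) (jay_ne_bot_of_max X.max) (jay_le.trans X.lh.syl.1)
      (isTwoLocal_normalizer hw2 hne') (hyJ.trans (centralizer_singleton_le_normalizer w))
      fun hle' => hwL ((centralizer_singleton_le_normalizer w).trans hle')
  obtain ⟨h1, h2⟩ := hT2.2 J hJs
  have h1' : Cfsg.maxElemAbelianOrder (P : Subgroup G) ≤ Cfsg.maxElemAbelianOrder T2 :=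
    (maxElemAbelianOrder_mono le_rfl).trans h1
  have h1'' : Cfsg.maxElemAbelianOrder T2 ≤ Cfsg.maxElemAbelianOrder (P : Subgroup G) :=
    maxElemAbelianOrder_mono (jay_le.trans hT2P)
  have hJJ : jay 2 T2 = J := by
    have hle2 : jay 2 T2 ≤ J := jay_le_jay (jay_le.trans hT2P) h1'
    have he : Cfsg.maxElemAbelianOrder J = Cfsg.maxElemAbelianOrder T2 :=
      le_antisymm h1 (h1''.trans (maxElemAbelianOrder_mono le_rfl))
    have h3 := (h2 he).1
    rw [tJ_eq, tJ_eq] at h3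
    refine Subgroup.eq_of_le_of_card_ge hle2 (le_trans ?_ h3)
    exact card_le_of_le (jay_le_jay le_rfl (maxElemAbelianOrder_mono (jay_le.trans jay_le)))
  obtain ⟨-, -, h2', g, hgP, -, -, hfree⟩ := X2.lt_facts P hlt
  have h4 := X.card_zJ_le_four X2 hJJ hne
  obtain ⟨z, hz, hz1⟩ : ∃ z ∈ Cfsg.omegaCenterOf (P : Subgroup G), z ≠ 1 := by
    haveI := Finite.one_lt_card_iff_nontrivial.mp
      (by rw [h2']; omega : 1 < Nat.card (Cfsg.omegaCenterOf (P : Subgroup G)))
    obtain ⟨⟨z, hz⟩, hz1⟩ := exists_ne (1 : Cfsg.omegaCenterOf (P : Subgroup G))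
    exact ⟨z, hz, fun e => hz1 (Subtype.ext e)⟩
  have hall := two_cases h2'.le hz hz1
  -- `Z₀` has four elements
  have hsmall : ¬ Nat.card (zJ (P : Subgroup G)) ≤ 2 := fun hle' => by
    rcases two_cases hle' (om_le_om_jay hz) hz1 w hwZ with e | e
    · exact hw1 e
    refine hwL fun x hx => m.nj (normalizer_le_normalizer_jay 2 _
      (Z.zc P (mem_centralizer_iff.mpr fun e' he' => ?_)))
    rcases hall e' he' with rfl | rfl
    · simp
    · rw [← e]; exact (mem_centralizer_singleton_iff.mp hx).symm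
  obtain ⟨x, hx, hx1⟩ : ∃ x ∈ hC (P : Subgroup G) K, x ≠ 1 := by
    by_contra hno
    push Not at hno
    have hb := X.lh.jcomp_card Z X.jc X.kl
    rw [(Subgroup.eq_bot_iff_forall (hC (P : Subgroup G) K)).mpr hno, card_bot] at hb
    exact hsmall (by omega)
  obtain ⟨u, hu, hu1⟩ : ∃ u ∈ hC T2 K2, u ≠ 1 := by
    by_contra hno
    push Not at hno
    have hb := X2.lh.jcomp_card Z X2.jc X2.kl
    rw [(Subgroup.eq_bot_iff_forall (hC T2 K2)).mpr hno, card_bot, zJ_congr hJJ] at hb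
    exact hsmall (by omega)
  have hxC : centralizer ({x} : Set G) ≤ L := X.centralizer_le hx1 (om_sq hx.1)
    (fun k hk => mem_centralizer_singleton_iff.mpr (mem_centralizer_iff.mp hx.2 k hk))
    (jay_le_centralizer_zJ hx.1)
  have hbad : ∀ p ∈ L, ¬ centralizer ({p * u * p⁻¹} : Set G) ≤ L := fun p hp hC' => by
    refine X2.nm fun k hk => ?_
    have h5 : k ∈ cj p⁻¹ L := cj_le_cj (g := p⁻¹) hC' (by
      rw [cj_centralizer_singleton, show p⁻¹ * (p * u * p⁻¹) * p⁻¹⁻¹ = u by group]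
      exact mem_centralizer_singleton_iff.mpr (mem_centralizer_iff.mp hu.2 k hk))
    rwa [cj_of_mem_normalizer (le_normalizer (L.inv_mem hp))] at h5
  have huZ : u ∈ zJ (P : Subgroup G) := zJ_congr hJJ ▸ hu.1
  have hPZ : ∀ p ∈ (P : Subgroup G), ∀ e ∈ zJ (P : Subgroup G),
      p * e * p⁻¹ ∈ zJ (P : Subgroup G) := fun p hp e he =>
    (mem_normalizer_iff.mp (normalizer_le_normalizer_om _
      (normalizer_le_normalizer_jay 2 _ (le_normalizer hp))) e).mp he
  have hxu : x ≠ u := fun e => hbad 1 L.one_mem (by simpa [← e] using hxC)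
  have hcases := four_cases h4 hx.1 huZ hx1 hu1 hxu (om_sq hx.1)
  have hgu : g * u * g⁻¹ = x * u := by
    rcases hcases _ (hPZ g hgP u huZ) with e | e | e | e
    · exact absurd (conj_eq_one_iff.mp e) hu1
    · exact absurd (e ▸ hxC) (hbad g (X.lh.syl.1 hgP))
    · exact absurd (hfree u hu (by rw [e]; exact hu)) hu1
    · exact e
  -- `P` centralises `x`
  have hxP : x ∈ Cfsg.omegaCenterOf (P : Subgroup G) := by
    refine mem_om.mpr ⟨jay_le (mem_om.mp hx.1).1, fun p hp => ?_, (mem_om.mp hx.1).2.2⟩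
    have hpx : centralizer ({p * x * p⁻¹} : Set G) ≤ L := by
      rw [← cj_centralizer_singleton]
      exact cj_le_of_mem (X.lh.syl.1 hp) hxC
    rcases hcases _ (hPZ p hp x hx.1) with e | e | e | e
    · exact absurd (conj_eq_one_iff.mp e) hx1
    · exact mul_inv_eq_iff_eq_mul.mp e
    · exact absurd (by simpa [e] using hpx) (hbad 1 L.one_mem)
    · exact absurd (by rwa [e, ← hgu] at hpx) (hbad g (X.lh.syl.1 hgP))
  exact X.not_conj (P := P) hall hx (y := 1) (by simpa using (hall x hxP).resolve_left hx1)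

end

end Cfsg.Agent.H85.ZN
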