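import Cfsg.Agent.H85.ZN.NormK

/-!
A component of a conjugate of `T` that is subnormal in `⟨K, J(T)⟩` is normalised by `J(T)`.
-/

set_option autoImplicit false
set_option linter.style.haveILetI false
set_option linter.unusedSectionVars false

namespace Cfsg.Agent.H85.ZN

open Subgroup Cfsg.Agent.Thompson
open scoped commutatorElement

/-- Odd order elements of a product with a subnormal left factor lie in that factor. -/
theorem odd_mem_of_sn {Y : Type*} [Group Y] [Finite Y] {K : Subgroup Y} (hsn : K.IsSubnormal)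
    {x k o : Y} (hk : k ∈ K) (hxe : x = k * o) {i : ℕ} (ho2 : o ^ 2 ^ i = 1)
    (ho : Odd (orderOf x)) : x ∈ K := by
  induction hsn generalizing k o with
  | top => exact mem_top x
  | step H K' hle hsn hN ih =>
    exact odd_mem_of_mul
      ((normal_subgroupOf_iff_le_normalizer hle).mp hN (ih (hle hk) hxe ho2)) hk hxe ho2 ho

variable {G : Type*} [Group G] [Finite G] {L T K : Subgroup G}

theorem relIndex_map_dvd' {M : Type*} [Group M] (f : G →* M) (A B : Subgroup G) (hAB : A ≤ B) :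
    (A.map f).relIndex (B.map f) ∣ A.relIndex B := by
  have h : (A.subgroupOf B).map (f.subgroupMap B) = (A.map f).subgroupOf (B.map f) := by
    ext x
    constructor
    · rintro ⟨y, hy, rfl⟩; exact ⟨y, hy, rfl⟩
    · rintro ⟨y, hy, e⟩; exact ⟨⟨y, hAB hy⟩, hy, Subtype.ext e⟩
  rw [relIndex, relIndex, ← h]
  exact index_map_dvd _ (f.subgroupMap_surjective B)

/-- A 2-subgroup normalised by `K` normalises `K`, if `K` is subnormal above both and generated
by elements of odd order. -/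
theorem normalizes_of_sn {H O : Subgroup G} (hKH : K ≤ H) (hOH : O ≤ H)
    (hO : IsPGroup 2 O) (hn : K ≤ normalizer (O : Set G)) (hsn : (K.subgroupOf H).IsSubnormal)
    (hgen : oddCl K = K) : oddCl (K ⊔ O) = K := by
  refine le_antisymm ((closure_le _).mpr ?_) ?_
  · rintro x ⟨hx, ho⟩
    rw [← SetLike.mem_coe, Subgroup.coe_mul_of_left_le_normalizer_right K O hn] at hx
    obtain ⟨k, hk, o, ho', rfl⟩ := hx
    obtain ⟨i, hi⟩ := hO ⟨o, ho'⟩
    have := odd_mem_of_sn hsn (x := ⟨k * o, H.mul_mem (hKH hk) (hOH ho')⟩)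
      (k := ⟨k, hKH hk⟩) (o := ⟨o, hOH ho'⟩) hk rfl (i := i)
      (Subtype.ext (congrArg Subtype.val hi : o ^ 2 ^ i = 1)) (by rwa [Subgroup.orderOf_mk])
    exact this
  · conv_lhs => rw [← hgen]
    exact closure_mono fun x hx => ⟨mem_sup_left hx.1, hx.2⟩

section

variable (Z : ZHyp G) (h : LHyp L T)
include Z h

/-- An element of `H` inducing a transvection either lies in `O₂(H)` or the element of order three
attached to it lies in the image of `H`. -/
theorem LHyp.core_or_dOf {H : Subgroup G} (hH : H ≤ L) {a : G} (ha : TvL L a) (haH : a ∈ H) :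
    a ∈ Cfsg.pCoreOf 2 H ∨ (h.setup Z).dOf ha.tv ∈ imgS L H := by
  set S := h.setup Z
  set t := img L ⟨a, ha.mem⟩ with ht
  have htH : t ∈ imgS L H := ⟨⟨a, ha.mem⟩, haH, rfl⟩
  by_cases hsame : ∃ g ∈ imgS L H, S.plane (S.isTv_conj ha.tv g) = S.plane ha.tv ∧
      g * t * g⁻¹ ≠ t
  · right
    obtain ⟨g, hg, hpl, hne⟩ := hsame
    obtain ⟨-, e, he, hge⟩ := S.eq_of_plane_eq ha.tv (S.isTv_conj ha.tv g) hpl.symm
    set d := S.dOf ha.tv with hd
    have hd3 : orderOf d = 3 := S.orderOf_dOf ha.tv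
    have hte : t * e * t = e⁻¹ := by
      obtain ⟨n, rfl⟩ := he
      have : (t * d * t⁻¹) ^ n = t * d ^ n * t⁻¹ := conj_zpow
      rw [inv_eq_of_mul_eq_one_right (S.tv_sq ha.tv), S.tv_dOf ha.tv, inv_zpow] at this
      exact this.symm
    have hee : g * t * g⁻¹ * t = e * e := by
      rw [hge]
      calc e * t * e⁻¹ * t = e * (t * e⁻¹ * t) := by group
        _ = e * (t * e * t)⁻¹ := by
            rw [mul_inv_rev, mul_inv_rev, inv_eq_of_mul_eq_one_right (S.tv_sq ha.tv)]
            simp only [mul_assoc, ht]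
        _ = _ := by rw [hte, inv_inv]
    have hmem : e * e ∈ imgS L H :=
      hee ▸ mul_mem (mul_mem (mul_mem hg htH) (inv_mem hg)) htH
    have hne2 : e * e ≠ 1 := fun h1 => hne (by
      rw [← hee] at h1
      rw [mul_eq_one_iff_eq_inv.mp h1, inv_eq_of_mul_eq_one_right (S.tv_sq ha.tv)])
    haveI : Fact (Nat.Prime 3) := ⟨Nat.prime_three⟩
    have hzp : zpowers (e * e) = zpowers d := by
      refine Subgroup.eq_of_le_of_card_ge (zpowers_le.mpr (mul_mem he he)) ?_
      have h1 : orderOf (e * e) ∣ 3 := by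
        rw [← hd3, ← Nat.card_zpowers, ← Nat.card_zpowers]
        exact card_dvd_of_le (zpowers_le.mpr (mul_mem he he))
      rw [Nat.card_zpowers, Nat.card_zpowers, hd3,
        ((Nat.dvd_prime Nat.prime_three).mp h1).resolve_left
          fun e1 => hne2 (orderOf_eq_one_iff.mp e1)]
    exact (zpowers_le.mpr hmem : zpowers (e * e) ≤ imgS L H) (hzp ▸ mem_zpowers d)
  · left
    push Not at hsame
    have hcomm : ∀ g ∈ imgS L H, Commute t (g * t * g⁻¹) := by
      intro g hg
      by_cases hpl : S.plane (S.isTv_conj ha.tv g) = S.plane ha.tv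
      · rw [hsame g hg hpl]
      · exact (S.of_plane_ne ha.tv (S.isTv_conj ha.tv g) (Ne.symm hpl)).2.1
    set E : Subgroup ↥(Hq L) := closure {x | ∃ g ∈ imgS L H, x = g * t * g⁻¹} with hE
    have hEab : ∀ x ∈ E, ∀ y ∈ E, Commute x y := by
      have key : ∀ g ∈ imgS L H, ∀ y ∈ E, Commute (g * t * g⁻¹) y := by
        intro g hg y hy
        induction hy using closure_induction with
        | mem y hy =>
          obtain ⟨k, hk, rfl⟩ := hy
          have := ((MulAut.conj g).toMonoidHom : ↥(Hq L) →* ↥(Hq L))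
          have h1 := hcomm (g⁻¹ * k) (mul_mem (inv_mem hg) hk)
          have h2 := h1.map (MulAut.conj g).toMonoidHom
          simpa [mul_assoc] using h2
        | one => exact Commute.one_right _
        | mul _ _ _ _ p q => exact p.mul_right q
        | inv _ _ p => exact p.inv_right
      intro x hx y hy
      induction hx using closure_induction with
      | mem x hx => obtain ⟨g, hg, rfl⟩ := hx; exact key g hg y hy
      | one => exact Commute.one_left _
      | mul _ _ _ _ p q => exact p.mul_left q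
      | inv _ _ p => exact p.inv_left
    have hE2 : IsPGroup 2 E := by
      rintro ⟨x, hx⟩
      refine ⟨1, Subtype.ext ?_⟩
      show x ^ 2 ^ 1 = 1
      induction hx using closure_induction with
      | mem x hx =>
        obtain ⟨g, hg, rfl⟩ := hx
        rw [pow_one, pow_two, show g * t * g⁻¹ * (g * t * g⁻¹) = g * (t * t) * g⁻¹ by group,
          S.tv_sq ha.tv, mul_one, mul_inv_cancel]
      | one => rw [one_pow]
      | mul x y hx hy p q => rw [(hEab x hx y hy).mul_pow, p, q, one_mul]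
      | inv x _ p => rw [inv_pow, p, inv_one]
    have hEle : E ≤ imgS L H := by
      rw [hE, closure_le]
      rintro _ ⟨g, hg, rfl⟩
      exact mul_mem (mul_mem hg htH) (inv_mem hg)
    have hEn : imgS L H ≤ normalizer (E : Set ↥(Hq L)) := fun g hg =>
      H61.mem_normalizer_of_conj_mem fun x hx => by
        induction hx using closure_induction with
        | mem x hx =>
          obtain ⟨k, hk, rfl⟩ := hx
          refine subset_closure ⟨g * k, mul_mem hg hk, ?_⟩
          group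
        | one => simp [E.one_mem]
        | mul x y _ _ p q => simpa [mul_assoc] using E.mul_mem p q
        | inv x _ p => simpa [mul_assoc] using E.inv_mem p
    have hmemE : t ∈ E := subset_closure ⟨1, one_mem _, by simp⟩
    have h2 : IsPGroup 2 (zpowers a) := fun z => by
      obtain ⟨n, hn⟩ := mem_zpowers_iff.mp z.2
      refine ⟨1, Subtype.ext ?_⟩
      rw [coe_pow, coe_one, ← hn, ← zpow_natCast (a ^ n), ← zpow_mul, mul_comm, zpow_mul,
        zpow_natCast, pow_one, pow_two, ha.1, one_zpow]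
    refine le_pCoreOf_of_forall_sylow Z h2 (zpowers_le.mpr haH) (fun R hR => ?_) (mem_zpowers a)
    obtain ⟨T', hT', hRT'⟩ := exists_sylowTwoIn hR.2.1 (hR.1.trans hH)
    have hsyl : Cfsg.IsSylowTwoIn (imgS L R) (imgS L H) := by
      refine ⟨map_mono (comap_mono hR.1),
        (hR.2.1.comap_of_injective L.subtype L.subtype_injective).map _, ?_⟩
      refine Odd.of_dvd_nat hR.2.2 ?_
      rw [← relIndex_subgroupOf hH]
      exact relIndex_map_dvd' (img L) _ _ (comap_mono hR.1)
    obtain ⟨⟨s, hsL⟩, hs, hst⟩ :=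
      le_sylowTwoIn hsyl hE2 hEle ((hsyl.1).trans hEn) hmemE
    have hsR : s ∈ R := hs
    set c := s⁻¹ * a with hc
    have hcC : c ∈ Cn L := by
      rw [mem_Cn (L.mul_mem (L.inv_mem hsL) ha.mem), show (⟨c, _⟩ : L) =
        ⟨s, hsL⟩⁻¹ * ⟨a, ha.mem⟩ from rfl, map_mul, map_inv, hst, ← ht, inv_mul_cancel]
    have hcH : c ∈ H := H.mul_mem (H.inv_mem (hR.1 hsR)) haH
    have hRe : T' ⊓ H = R := sylowTwoIn_eq_of_le hR (hT'.2.1.to_le inf_le_left) inf_le_right
      (le_inf hRT' hR.1)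
    have hcN : c ∈ normalizer (R : Set G) := H61.mem_normalizer_of_conj_mem fun x hx => by
      rw [← hRe] at hx ⊢
      exact ⟨(mem_normalizer_iff.mp ((h.congr Z hT').Cn_le_normalizer Z hcC) x).mp hx.1,
        H.mul_mem (H.mul_mem hcH hx.2) (H.inv_mem hcH)⟩
    have haN : zpowers a ≤ normalizer (R : Set G) := zpowers_le.mpr (by
      rw [show a = s * c by rw [hc, mul_inv_cancel_left]]
      exact mul_mem (le_normalizer hsR) hcN)
    haveI : Fact (Nat.Prime 2) := ⟨Nat.prime_two⟩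
    rw [← sylowTwoIn_eq_of_le hR (h2.to_sup_of_normal_right' hR.2.1 haN)
      (sup_le (zpowers_le.mpr haH) hR.1) le_sup_right]
    exact le_sup_left

set_option maxHeartbeats 1000000 in
/-- Admissible transvections normalise a subnormal candidate component. -/
theorem LHyp.adm_le_normalizer {a : G} (ha : Adm L T a) (hKL : K ≤ L) (hgen : oddCl K = K)
    (hrel : (Cfsg.pCoreOf 2 K).relIndex K = 3) (hW : Nat.card (Cfsg.wOf K) = 4)
    (hN : normalizer (Cfsg.wOf K : Set G) ≤ normalizer (K : Set G))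
    (hsn : (K.subgroupOf (K ⊔ jay 2 T)).IsSubnormal) : a ∈ normalizer (K : Set G) := by
  set S := h.setup Z
  set H := K ⊔ jay 2 T with hHdef
  have hJL : jay 2 T ≤ L := jay_le.trans h.syl.1
  have hHL : H ≤ L := sup_le hKL hJL
  have hKH : K ≤ H := le_sup_left
  have haL := ha.tvL.mem
  have haH : a ∈ H := mem_sup_right ha.mem_jay
  set O := Cfsg.pCoreOf 2 H with hO
  have hKO : oddCl (K ⊔ O) = K := normalizes_of_sn hKH (pCoreOf_le 2 H) (isPGroup_pCoreOf H)
    (hKH.trans (le_normalizer_pCoreOf H)) hsn hgen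
  have hON : O ≤ normalizer (K : Set G) := fun x hx =>
    hKO ▸ normalizer_le_normalizer_oddCl (K ⊔ O) (le_normalizer (mem_sup_right hx))
  rcases h.core_or_dOf Z hHL ha.tvL haH with hcase | hdH
  · exact hON hcase
  set t := img L ⟨a, haL⟩ with ht
  set d := S.dOf ha.tvL.tv with hd
  set R := Cfsg.pCoreOf 2 K with hR
  have hRO : R ≤ O := le_pCoreOf_of_isSubnormal hKH hsn (isPGroup_pCoreOf K) (pCoreOf_le 2 K)
    (le_normalizer_pCoreOf K)
  have hOnorm : imgS L H ≤ normalizer (imgS L O : Set ↥(Hq L)) := by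
    rintro _ ⟨g, hg, rfl⟩
    refine H61.mem_normalizer_of_conj_mem ?_
    rintro _ ⟨x, hx, rfl⟩
    refine ⟨g * x * g⁻¹, ?_, by rw [map_mul, map_mul, map_inv]⟩
    exact (mem_normalizer_iff.mp (le_normalizer_pCoreOf H hg) (x : G)).mp hx
  -- images of `O₂(K)` commute with elements of the Fitting subgroup inside the image of `H`
  have hRf : ∀ f ∈ fittingSubgroup ↥(Hq L), f ∈ imgS L H → ∀ r (hr : r ∈ R),
      Commute f (img L ⟨r, hKL (pCoreOf_le 2 K hr)⟩) := by
    intro f hf hfH r hr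
    set ρ := img L ⟨r, hKL (pCoreOf_le 2 K hr)⟩ with hρ
    have hρO : ρ ∈ imgS L O := ⟨⟨r, hKL (pCoreOf_le 2 K hr)⟩, hRO hr, rfl⟩
    have h1 : f * ρ * f⁻¹ * ρ⁻¹ ∈ imgS L O :=
      mul_mem ((mem_normalizer_iff.mp (hOnorm hfH) ρ).mp hρO) (inv_mem hρO)
    have h2 : f * ρ * f⁻¹ * ρ⁻¹ ∈ fittingSubgroup ↥(Hq L) := by
      rw [mul_assoc f ρ, mul_assoc f]
      exact mul_mem hf
        ((inferInstance : (fittingSubgroup ↥(Hq L)).Normal).conj_mem _ (inv_mem hf) ρ)
    obtain ⟨i, hi⟩ : ∃ i : ℕ, (⟨_, h1⟩ : imgS L O) ^ 2 ^ i = 1 :=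
      (((isPGroup_pCoreOf H).comap_of_injective L.subtype L.subtype_injective).map (img L)) ⟨_, h1⟩
    have h3 : f * ρ * f⁻¹ * ρ⁻¹ = 1 :=
      eq_one_of_odd_two (S.odd_of_mem h2) (congrArg Subtype.val hi)
    exact mul_inv_eq_iff_eq_mul.mp (mul_inv_eq_one.mp h3)
  -- a generator of `K` modulo `O₂(K)`
  obtain ⟨k, hk, hkodd, hkR⟩ : ∃ k ∈ K, Odd (orderOf k) ∧ k ∉ R := by
    by_contra hno
    push Not at hno
    have hle : K ≤ R := hgen.symm.le.trans ((closure_le _).mpr fun x hx => hno x hx.1 hx.2)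
    rw [relIndex_eq_one.mpr hle] at hrel
    omega
  haveI hRn : (R.subgroupOf K).Normal := normal_subgroupOf_of_le_normalizer (le_normalizer_pCoreOf K)
  have hidx : Nat.card (↥K ⧸ R.subgroupOf K) = 3 := by rw [← index_eq_card]; exact hrel
  haveI : Fact (Nat.Prime 3) := ⟨Nat.prime_three⟩
  have hcube : ∀ x ∈ K, x * x * x ∈ R := by
    intro x hx
    have h1 : ((⟨x, hx⟩ : K) : ↥K ⧸ R.subgroupOf K) ^ 3 = 1 := hidx ▸ pow_card_eq_one'
    rw [← QuotientGroup.mk_pow, QuotientGroup.eq_one_iff, mem_subgroupOf] at h1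
    simpa [pow_three'] using h1
  have hk3 : k * k * k = 1 := by
    obtain ⟨i, hi⟩ := isPGroup_pCoreOf K ⟨_, hcube k hk⟩
    refine eq_one_of_odd_two (Odd.of_dvd_nat hkodd ?_) (congrArg Subtype.val hi)
    rw [← pow_three']
    exact orderOf_pow_dvd 3
  have hdec : ∀ x ∈ K, ∃ j : ℤ, (k ^ j)⁻¹ * x ∈ R := by
    intro x hx
    have hne : ((⟨k, hk⟩ : K) : ↥K ⧸ R.subgroupOf K) ≠ 1 := fun e =>
      hkR (mem_subgroupOf.mp ((QuotientGroup.eq_one_iff _).mp e))
    have hmem := mem_zpowers_of_prime_card (g' := ((⟨x, hx⟩ : K) : ↥K ⧸ R.subgroupOf K)) hidx hne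
    obtain ⟨j, hj⟩ := mem_zpowers_iff.mp hmem
    refine ⟨j, ?_⟩
    rw [← QuotientGroup.mk_zpow, QuotientGroup.eq, mem_subgroupOf] at hj
    simpa using hj
  set y := img L ⟨k, hKL hk⟩ with hy
  have hy3 : y * y * y = 1 := by
    rw [hy, ← map_mul, ← map_mul,
      show (⟨k, hKL hk⟩ : L) * ⟨k, hKL hk⟩ * ⟨k, hKL hk⟩ = 1 from Subtype.ext hk3, map_one]
  have hyH : y ∈ imgS L H := ⟨⟨k, hKL hk⟩, hKH hk, rfl⟩
  have htH : t ∈ imgS L H := ⟨⟨a, haL⟩, haH, rfl⟩
  have hti : t⁻¹ = t := inv_eq_of_mul_eq_one_right (S.tv_sq ha.tvL.tv)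
  have hdcube : d * d * d = 1 := by
    rw [← pow_three', ← S.orderOf_dOf ha.tvL.tv, ← hd, pow_orderOf_eq_one]
  have hdne : d * d ≠ 1 := fun e => by
    have h1 : d = 1 := by rw [e, one_mul] at hdcube; exact hdcube
    have h2 := S.orderOf_dOf ha.tvL.tv
    rw [← hd, h1, orderOf_one] at h2
    omega
  -- `y` fixes the plane
  set t1 := y * t * y⁻¹ with ht1
  have ht1v : IsTv ↥(Vc L) t1 := S.isTv_conj ha.tvL.tv y
  have hplane : S.plane ht1v = S.plane ha.tvL.tv := by
    by_contra hne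
    set t2 := y * t1 * y⁻¹ with ht2
    have ht2v : IsTv ↥(Vc L) t2 := S.isTv_conj ht1v y
    have hy2 : y⁻¹ = y * y := by rw [inv_eq_iff_mul_eq_one, ← mul_assoc, hy3]
    have hcyc : y * t2 * y⁻¹ = t := by
      rw [ht2, ht1, show y * (y * (y * t * y⁻¹) * y⁻¹) * y⁻¹ = y * y * y * t * (y * y * y)⁻¹ by group,
        hy3, one_mul, inv_one, mul_one]
    have hp12 : S.plane ht2v ≠ S.plane ht1v := by
      intro e
      refine hne ?_
      ext v
      have h1 := (S.plane_conj ht1v y ht2v).2 (y • v)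
      have h2 := (S.plane_conj ha.tvL.tv y ht1v).2 (y • v)
      rw [inv_smul_smul] at h1 h2
      rw [← h2, ← h1, e]
    have hp02 : S.plane ht2v ≠ S.plane ha.tvL.tv := by
      intro e
      refine hne ?_
      ext v
      have h1 := (S.plane_conj ha.tvL.tv y ht1v).2 v
      have hv2 : IsTv ↥(Vc L) (y * t2 * y⁻¹) := S.isTv_conj ht2v y
      have h2 := (S.plane_conj ht2v y hv2).2 v
      have h3 : S.plane hv2 = S.plane ha.tvL.tv := by congr 1
      have h4 : y⁻¹ • v ∈ S.plane ha.tvL.tv ↔ y⁻¹ • v ∈ S.plane ht2v := by rw [e]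
      exact h1.trans (h4.trans (h2.symm.trans (by rw [h3])))
    obtain ⟨-, c01, c01d, -⟩ := S.of_plane_ne ha.tvL.tv ht1v (Ne.symm hne)
    obtain ⟨-, c10, c10d, -⟩ := S.of_plane_ne ht1v ha.tvL.tv hne
    obtain ⟨-, c20, c20d, -⟩ := S.of_plane_ne ht2v ha.tvL.tv hp02
    obtain ⟨-, c12, -, -⟩ := S.of_plane_ne ht1v ht2v (Ne.symm hp12)
    obtain ⟨-, c21, c21d, -⟩ := S.of_plane_ne ht2v ht1v hp12
    have hd1H : S.dOf ht1v ∈ imgS L H := by
      have h1 := (S.plane_conj ha.tvL.tv y ht1v).1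
      exact (zpowers_le.mpr (mul_mem (mul_mem hyH hdH) (inv_mem hyH)) :
        zpowers (y * d * y⁻¹) ≤ imgS L H) h1
    replace c01 : Commute t t1 := c01
    replace c10 : Commute t1 t := c10
    replace c20 : Commute t2 t := c20
    have htt : t * t = 1 := S.tv_sq ha.tvL.tv
    have hti1 : t1⁻¹ = t1 := inv_eq_of_mul_eq_one_right (S.tv_sq ht1v)
    have hti2 : t2⁻¹ = t2 := inv_eq_of_mul_eq_one_right (S.tv_sq ht2v)
    set f : ↥(Hq L) → ↥(Hq L) := fun z => z * y * z⁻¹ * y⁻¹ with hf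
    have hfi : ∀ z, f z = z * (y * z⁻¹ * y⁻¹) := fun z => by rw [hf]; simp only [mul_assoc]
    have s0 : f t = t * t1 := by rw [hfi, hti]
    have s1 : f (t * t1) = t * t2 := by
      rw [hfi, mul_inv_rev, hti, hti1]
      calc t * t1 * (y * (t1 * t) * y⁻¹) = t * t1 * ((y * t1 * y⁻¹) * (y * t * y⁻¹)) := by group
        _ = t * (t1 * t2 * t1) := by rw [← ht2, ← ht1]; simp only [mul_assoc]
        _ = t * t2 := by rw [c12.eq, mul_assoc t2, S.tv_sq ht1v, mul_one]
    have s2 : f (t * t2) = t1 * t2 := by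
      rw [hfi, mul_inv_rev, hti, hti2]
      calc t * t2 * (y * (t2 * t) * y⁻¹) = t * t2 * ((y * t2 * y⁻¹) * (y * t * y⁻¹)) := by group
        _ = t * (t2 * t) * t1 := by rw [hcyc, ← ht1]; simp only [mul_assoc]
        _ = t2 * t1 := by rw [c20.eq, ← mul_assoc t t t2, htt, one_mul]
        _ = _ := c21.eq
    have s3 : f (t1 * t2) = t * t1 := by
      rw [hfi, mul_inv_rev, hti1, hti2]
      calc t1 * t2 * (y * (t2 * t1) * y⁻¹) = t1 * t2 * ((y * t2 * y⁻¹) * (y * t1 * y⁻¹)) := by group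
        _ = t1 * (t2 * t * t2) := by rw [hcyc, ← ht2]; simp only [mul_assoc]
        _ = t * t1 := by rw [c20.eq, mul_assoc t, S.tv_sq ht2v, mul_one, c10.eq]
    have hcyc3 : ∀ n : ℕ, f^[n + 1] t = t * t1 ∨ f^[n + 1] t = t * t2 ∨ f^[n + 1] t = t1 * t2 := by
      intro n
      induction n with
      | zero => exact .inl s0
      | succ n ih =>
        rw [Function.iterate_succ_apply']
        rcases ih with e | e | e <;> rw [e]
        · exact .inr (.inl s1)
        · exact .inr (.inr s2)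
        · exact .inl s3
    obtain ⟨N, hN'⟩ := exists_iterate_mem hsn
    have hkH : (⟨k, hKH hk⟩ : H) ∈ K.subgroupOf H := hk
    have hit := hN' ⟨a, haH⟩ _ hkH (N + 1) (by omega)
    let ι : H →* ↥(Hq L) := (img L).comp (Subgroup.inclusion hHL)
    have hsemi : Function.Semiconj ι (fun z : H => z * ⟨k, hKH hk⟩ * z⁻¹ * (⟨k, hKH hk⟩ : H)⁻¹) f := by
      intro z
      show ι (z * ⟨k, hKH hk⟩ * z⁻¹ * (⟨k, hKH hk⟩ : H)⁻¹) = ι z * y * (ι z)⁻¹ * y⁻¹
      rw [map_mul, map_mul, map_mul, map_inv, map_inv]; rfl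
    set x := (fun z : H => z * ⟨k, hKH hk⟩ * z⁻¹ * (⟨k, hKH hk⟩ : H)⁻¹)^[N + 1] ⟨a, haH⟩ with hx
    have hxK : (x : G) ∈ K := hit
    have hxe : img L ⟨x, hKL hxK⟩ = f^[N + 1] t :=
      (hsemi.iterate_right (N + 1)).eq ⟨a, haH⟩
    have hsq : img L ⟨x, hKL hxK⟩ * img L ⟨x, hKL hxK⟩ = 1 := by
      rw [hxe]
      rcases hcyc3 N with e | e | e <;> rw [e]
      · rw [mul_assoc t, ← mul_assoc t1, c10.eq, mul_assoc t t1, S.tv_sq ht1v, mul_one, htt]
      · rw [mul_assoc t, ← mul_assoc t2, c20.eq, mul_assoc t t2, S.tv_sq ht2v, mul_one, htt]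
      · rw [mul_assoc t1, ← mul_assoc t2, c21.eq, mul_assoc t1 t2, S.tv_sq ht2v, mul_one, S.tv_sq ht1v]
    have hxR := hcube _ hxK
    have hxe2 : img L ⟨x, hKL hxK⟩ = img L ⟨_, hKL (pCoreOf_le 2 K hxR)⟩ := by
      rw [show (⟨(x : G) * x * x, hKL (pCoreOf_le 2 K hxR)⟩ : L) =
        ⟨x, hKL hxK⟩ * ⟨x, hKL hxK⟩ * ⟨x, hKL hxK⟩ from rfl, map_mul, map_mul, hsq, one_mul]
    have hcd := hRf d (S.dOf_mem _) hdH _ hxR
    have hcd1 := hRf _ (S.dOf_mem ht1v) hd1H _ hxR
    rw [← hxe2, hxe] at hcd hcd1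
    -- none of the three products commutes with both
    have hflip : ∀ {τ δ : ↥(Hq L)}, τ * τ = 1 → τ * δ * τ = δ⁻¹ → orderOf δ = 3 →
        ∀ {σ : ↥(Hq L)}, Commute σ δ → ¬ Commute δ (τ * σ) ∧ ¬ Commute δ (σ * τ) := by
      intro τ δ hτ hinv hord σ hσ
      have hbad : ¬ Commute δ τ := by
        intro hc
        have h1 : δ⁻¹ = δ := by rw [← hinv, mul_assoc, hc.eq, ← mul_assoc, hτ, one_mul]
        have h2 : δ ^ 2 = 1 := by rw [pow_two]; nth_rw 1 [← h1]; exact inv_mul_cancel δ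
        have h3 := orderOf_dvd_of_pow_eq_one h2
        rw [hord] at h3
        exact absurd h3 (by decide)
      constructor <;> intro hc <;> apply hbad
      · have := hc.mul_right hσ.symm.inv_right
        rwa [mul_inv_cancel_right] at this
      · have := hσ.symm.inv_right.mul_right hc
        rwa [inv_mul_cancel_left] at this
    rcases hcyc3 N with e | e | e <;> rw [e] at hcd hcd1
    · exact (hflip (S.tv_sq ha.tvL.tv) (S.tv_dOf _) (S.orderOf_dOf _) c10d).1 hcd
    · exact (hflip (S.tv_sq ha.tvL.tv) (S.tv_dOf _) (S.orderOf_dOf _) c20d).1 hcd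
    · exact (hflip (S.tv_sq ht1v) (S.tv_dOf ht1v) (S.orderOf_dOf ht1v) c21d).1 hcd1
  -- so `y` commutes with `d`
  obtain ⟨hd1, -⟩ := S.eq_of_plane_eq ha.tvL.tv ht1v hplane.symm
  have hyd : Commute y d := by
    have h1 : zpowers (S.dOf ht1v) = zpowers (y * d * y⁻¹) := zpowers_dOf_conj S ha.tvL.tv y ht1v
    have h2 : y * d * y⁻¹ ∈ zpowers d :=
      (zpowers_le.mpr hd1 : zpowers (S.dOf ht1v) ≤ zpowers d) (h1 ▸ mem_zpowers _)
    rcases zpow3_cases (S.orderOf_dOf ha.tvL.tv) h2 with e | e | e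
    · exfalso
      exact hdne (by rw [conj_eq_one_iff.mp e, one_mul])
    · exact mul_inv_eq_iff_eq_mul.mp e
    · exfalso
      have e2 : ∀ z : ↥(Hq L), y * (z * z) * y⁻¹ = (y * z * y⁻¹) * (y * z * y⁻¹) := fun z => by group
      have h4 : y * y * y * d * (y * y * y)⁻¹ = d * d := by
        rw [show y * y * y * d * (y * y * y)⁻¹ = y * (y * (y * d * y⁻¹) * y⁻¹) * y⁻¹ by group, e, e2,
          e, e2, e2, e,
          show d * d * (d * d) * (d * d * (d * d)) = d * d * d * (d * d * d) * (d * d) by group,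
          hdcube, one_mul, one_mul]
      rw [hy3, one_mul, inv_one, mul_one] at h4
      have : d = 1 := mul_left_cancel (h4.symm.trans (mul_one d).symm)
      exact hdne (by rw [this, one_mul])
  -- elements centralising `d` and acting on the plane
  have hpres : ∀ g : ↥(Hq L), Commute g d → ∀ v ∈ S.plane ha.tvL.tv, g • v ∈ S.plane ha.tvL.tv := by
    rintro g hg _ ⟨z, rfl⟩
    refine ⟨g • z, ?_⟩
    rw [disp_apply, disp_apply, smul_mul', ← mul_smul, ← mul_smul, ← hd, hg.eq]
  have hfix_t : ∀ g : ↥(Hq L), Commute g d → (∀ v ∈ S.plane ha.tvL.tv, g • v = v) →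
      Commute g t := by
    intro g hgd hgP
    have hgt := S.isTv_conj ha.tvL.tv g
    have hpl : S.plane ha.tvL.tv = S.plane hgt := by
      ext v
      rw [(S.plane_conj ha.tvL.tv g hgt).2 v]
      refine ⟨fun hv => by rw [← hgP v hv, inv_smul_smul]; exact hv, fun hv => ?_⟩
      have := hpres g hgd _ hv
      rwa [smul_inv_smul] at this
    obtain ⟨-, e, he, hge⟩ := S.eq_of_plane_eq ha.tvL.tv hgt hpl
    obtain ⟨⟨w, hw⟩, hw1⟩ : ∃ w : S.plane ha.tvL.tv, w ≠ 1 := by
      haveI := Finite.one_lt_card_iff_nontrivial.mp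
        (by rw [S.card_plane]; omega : 1 < Nat.card (S.plane ha.tvL.tv))
      exact exists_ne 1
    have hsame : ∀ v ∈ S.plane ha.tvL.tv, (g * t * g⁻¹) • v = t • v := by
      intro v hv
      rw [mul_smul, mul_smul, inv_smul_eq_iff.mpr (hgP v hv).symm,
        hgP _ (S.tv_smul_mem_plane _ hv)]
    have hte : t * e * t = e⁻¹ := by
      obtain ⟨n, rfl⟩ := he
      have : (t * d * t⁻¹) ^ n = t * d ^ n * t⁻¹ := conj_zpow
      rw [hti, S.tv_dOf ha.tvL.tv, inv_zpow] at this
      exact this.symm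
    have h1 : (t * (g * t * g⁻¹)) • w = w := by
      rw [mul_smul, hsame w hw, ← mul_smul, S.tv_sq ha.tvL.tv, one_smul]
    rw [hge, show t * (e * t * e⁻¹) = (t * e * t) * e⁻¹ by group, hte] at h1
    rcases zpow3_cases (S.orderOf_dOf ha.tvL.tv) he with e0 | e0 | e0
    · rw [e0, one_mul, inv_one, mul_one] at hge
      exact mul_inv_eq_iff_eq_mul.mp hge
    · exfalso
      have e1 : e⁻¹ * e⁻¹ = d := by
        rw [e0, ← mul_inv_rev]; exact inv_eq_of_mul_eq_one_right hdcube
      rw [e1] at h1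
      exact hw1 (Subtype.ext (S.eq_one_of_dOf_fixed _ h1 hw))
    · exfalso
      have e2 : e⁻¹ * e⁻¹ = d * d := by
        rw [e0, show (S.dOf ha.tvL.tv * S.dOf ha.tvL.tv)⁻¹ = d from
          inv_eq_of_mul_eq_one_right hdcube]
      rw [e2, mul_smul] at h1
      have h5 := congrArg (d • ·) h1
      simp only [hd, S.dOf_cube ha.tvL.tv] at h5
      exact hw1 (Subtype.ext (S.eq_one_of_dOf_fixed _ h5.symm hw))
  have hfixR : ∀ r (hr : r ∈ R), ∀ v ∈ S.plane ha.tvL.tv,
      img L ⟨r, hKL (pCoreOf_le 2 K hr)⟩ • v = v := by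
    intro r hr v hv
    set ρ := img L ⟨r, hKL (pCoreOf_le 2 K hr)⟩ with hρ
    have hρd : Commute ρ d := (hRf d (S.dOf_mem _) hdH r hr).symm
    obtain ⟨i, hi⟩ := isPGroup_pCoreOf K ⟨r, hr⟩
    have hρ2 : ρ ^ 2 ^ i = 1 := by
      rw [hρ, ← map_pow,
        show (⟨r, hKL (pCoreOf_le 2 K hr)⟩ : L) ^ 2 ^ i = 1 from
          Subtype.ext (congrArg Subtype.val hi : r ^ 2 ^ i = 1), map_one]
    -- the displacement of `ρ` on the plane
    rcases eq_or_ne v 1 with rfl | hv1
    · exact smul_one ρ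
    have hρv := hpres ρ hρd v hv
    have hplane4 : ∀ x ∈ S.plane ha.tvL.tv, x ≠ 1 → ∃ e ∈ zpowers d, e • v = x := by
      intro x hx hx1
      classical
      letI := Fintype.ofFinite (S.plane ha.tvL.tv)
      have hdv := S.dOf_smul_mem ha.tvL.tv hv
      have hddv := S.dOf_smul_mem ha.tvL.tv hdv
      rw [← hd] at hdv hddv
      have n1 : d • v ≠ v := fun e => hv1 (S.eq_one_of_dOf_fixed _ e hv)
      have n2 : d • v ≠ 1 := fun e => hv1 (MulAction.injective d (e.trans (smul_one d).symm))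
      have n3 : d • d • v ≠ 1 := fun e => n2 (MulAction.injective d (e.trans (smul_one d).symm))
      have n4 : d • d • v ≠ v := fun e => n1 (by
        have := congrArg (d • ·) e
        simp only [hd, S.dOf_cube ha.tvL.tv] at this
        exact this.symm)
      have n5 : d • d • v ≠ d • v := fun e => n1 (MulAction.injective d e)
      by_contra hno
      push Not at hno
      have m1 : x ≠ v := fun e => hno 1 (one_mem _) (by rw [e, one_smul])
      have m2 : x ≠ d • v := fun e => hno d (mem_zpowers d) e.symm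
      have m3 : x ≠ d • d • v := fun e =>
        hno (d * d) (mul_mem (mem_zpowers d) (mem_zpowers d)) (by rw [e, mul_smul])
      have := Finset.card_le_univ ({⟨1, one_mem _⟩, ⟨v, hv⟩, ⟨d • v, hdv⟩, ⟨d • d • v, hddv⟩,
        ⟨x, hx⟩} : Finset (S.plane ha.tvL.tv))
      rw [← Nat.card_eq_fintype_card, S.card_plane,
        Finset.card_insert_of_notMem (by simp [Ne.symm hv1, Ne.symm n2, Ne.symm n3, Ne.symm hx1]),
        Finset.card_insert_of_notMem (by simp [Ne.symm n1, Ne.symm n4, Ne.symm m1]),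
        Finset.card_insert_of_notMem (by simp [Ne.symm n5, Ne.symm m2]),
        Finset.card_pair (by simp [Ne.symm m3])] at this
      omega
    obtain ⟨e, he, hev⟩ := hplane4 _ hρv
      (fun e => hv1 (MulAction.injective ρ (e.trans (smul_one ρ).symm)))
    have hρe : Commute ρ e := by
      obtain ⟨n, rfl⟩ := he; exact hρd.zpow_right n
    have key : ∀ n : ℕ, (ρ ^ n) • v = (e ^ n) • v := by
      intro n
      induction n with
      | zero => simp
      | succ n ih =>
        rw [pow_succ' ρ, mul_smul, ih, ← mul_smul, (hρe.pow_right n).eq, mul_smul, ← hev,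
          ← mul_smul, pow_succ]
    have h1 := key (2 ^ i)
    rw [hρ2, one_smul] at h1
    have he1 : e ^ 2 ^ i = 1 := by
      rcases zpow3_cases (S.orderOf_dOf ha.tvL.tv) (pow_mem he (2 ^ i)) with e0 | e0 | e0
      · exact e0
      · rw [e0] at h1; exact absurd (S.eq_one_of_dOf_fixed _ h1.symm hv) hv1
      · rw [e0, mul_smul] at h1
        have h5 := congrArg (d • ·) h1
        simp only [hd, S.dOf_cube ha.tvL.tv] at h5
        exact absurd (S.eq_one_of_dOf_fixed _ h5 hv) hv1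
    have hodd : Odd (orderOf e) := Odd.of_dvd_nat (by decide : Odd 3) (by
      rw [← S.orderOf_dOf ha.tvL.tv, ← Nat.card_zpowers, ← Nat.card_zpowers]
      exact card_dvd_of_le (zpowers_le.mpr he))
    rw [← hev, eq_one_of_odd_two hodd he1, one_smul]
  by_cases hyP : ∀ v ∈ S.plane ha.tvL.tv, y • v = v
  · -- `t` centralises the image of `K`
    have htK : ∀ x (hx : x ∈ K), Commute (img L ⟨x, hKL hx⟩) t := by
      intro x hx
      obtain ⟨j, hj⟩ := hdec x hx
      rw [show (⟨x, hKL hx⟩ : L) = ⟨k, hKL hk⟩ ^ j * ⟨_, hKL (pCoreOf_le 2 K hj)⟩ from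
        Subtype.ext (by simp), map_mul, map_zpow]
      exact ((hfix_t y hyd hyP).zpow_left j).mul_left
        (hfix_t _ (hRf d (S.dOf_mem _) hdH _ hj).symm (hfixR _ hj))
    have hOa : a ∈ normalizer (O : Set G) := le_normalizer_pCoreOf H haH
    refine hKO ▸ normalizer_le_normalizer_oddCl (K ⊔ O) (H61.mem_normalizer_of_conj_mem fun z hz => ?_)
    rw [← SetLike.mem_coe, Subgroup.coe_mul_of_left_le_normalizer_right K O
      (hKH.trans (le_normalizer_pCoreOf H))] at hz
    obtain ⟨x, hx, o, ho, rfl⟩ := hz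
    set c : L := ⟨a, haL⟩ * ⟨x, hKL hx⟩ * ⟨a, haL⟩ * ⟨x, hKL hx⟩⁻¹ with hc
    have hcC : (c : G) ∈ Cn L := by
      rw [mem_Cn_coe, hc, map_mul, map_mul, map_mul, map_inv, ← ht, ← (htK x hx).eq,
        mul_assoc _ t t, S.tv_sq ha.tvL.tv, mul_one, mul_inv_cancel]
    have hag : a ∈ gen2 L := subset_closure ⟨haL, 1, by rw [pow_one, pow_two, ha.tvL.1]⟩
    have hcA := h.proj_commute Z (g := ⟨a, haL⟩) hag hcC
    set A := proj L ⟨a, haL⟩ with hA
    set X := proj L ⟨x, hKL hx⟩ with hX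
    have hAA : A * A = 1 := by
      rw [hA, ← map_mul, show (⟨a, haL⟩ : L) * ⟨a, haL⟩ = 1 from Subtype.ext ha.tvL.1, map_one]
    have hCX : A * X * A = proj L c * X := by
      rw [hc, map_mul, map_mul, map_mul, map_inv, inv_mul_cancel_right]
    have hC2 : proj L c * proj L c = 1 := by
      have h1 : X = proj L c * proj L c * X := by
        conv_lhs => rw [← one_mul X, ← mul_one (1 * X), ← hAA]
        calc A * A * X * (A * A) = A * (A * X * A) * A := by group
          _ = (A * proj L c) * X * A := by rw [hCX]; simp only [mul_assoc]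
          _ = proj L c * (A * X * A) := by rw [hcA.eq]; simp only [mul_assoc]
          _ = _ := by rw [hCX, mul_assoc]
      exact mul_eq_right.mp h1.symm
    have hcQ : (c : G) ∈ Cfsg.pCoreOf 2 L := proj_eq_one.mp (h.proj_sq Z hcC hC2)
    have hxH : x ∈ H := hKH hx
    have hcH : (c : G) ∈ H :=
      H.mul_mem (H.mul_mem (H.mul_mem haH hxH) haH) (H.inv_mem hxH)
    have hcO : (c : G) ∈ O := le_pCoreOf ((isPGroup_pCoreOf L).to_le inf_le_left) inf_le_right
      (fun g hg => H61.mem_normalizer_of_conj_mem fun z hz =>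
        ⟨(mem_normalizer_iff.mp (le_normalizer_pCoreOf L (hHL hg)) z).mp hz.1,
          H.mul_mem (H.mul_mem hg hz.2) (H.inv_mem hg)⟩)
      (⟨hcQ, hcH⟩ : (c : G) ∈ Cfsg.pCoreOf 2 L ⊓ H)
    have e : a * (x * o) * a⁻¹ = (c : G) * x * (a * o * a⁻¹) := by
      rw [hc]; simp [mul_assoc, ha.tvL.inv_eq]
      rw [← mul_assoc a a, ha.tvL.1, one_mul]
    rw [e]
    exact mul_mem (mul_mem (mem_sup_right hcO) (mem_sup_left hx))
      (mem_sup_right ((mem_normalizer_iff.mp hOa o).mp ho))
  · -- the plane is `W_K`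
    refine hN ?_
    suffices hPW : planeA L a = Cfsg.wOf K by
      rw [← hPW]
      exact Thompson.mem_normalizer_of_map_conj
        (cj_planeA_of_plStab (h.tv_mem_plStab Z ha.tvL) ha.tvL)
    have hsurj : ∀ v ∈ planeA L a, ∃ w ∈ planeA L a, v = w * (k * w * k⁻¹) := by
      intro v hv
      rw [planeA_eq S ha.tvL] at hv ⊢
      obtain ⟨v', hv', rfl⟩ := hv
      let g : S.plane ha.tvL.tv → S.plane ha.tvL.tv := fun w =>
        ⟨(w : Vc L) * y • (w : Vc L), mul_mem w.2 (hpres y hyd _ w.2)⟩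
      have hfree : ∀ w ∈ S.plane ha.tvL.tv, y • w = w → w = 1 := by
        intro w hw e
        by_contra hw1
        refine hyP fun z hz => ?_
        have hdw : y • (d • w) = d • w := by rw [← mul_smul, hyd.eq, mul_smul, e]
        let F : Subgroup ↥(Vc L) := S.plane ha.tvL.tv ⊓ fix ↥(Vc L) ({y} : Set ↥(Hq L))
        have h4 : F = S.plane ha.tvL.tv := by
          refine Subgroup.eq_of_le_of_card_ge inf_le_left ?_
          rw [S.card_plane]
          have h3 : 3 ≤ Nat.card F := by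
            classical
            letI := Fintype.ofFinite F
            rw [Nat.card_eq_fintype_card]
            refine le_trans ?_ (Finset.card_le_univ ({⟨1, one_mem _⟩, ⟨w, hw, mem_fix_singleton.mpr e⟩,
              ⟨d • w, S.dOf_smul_mem _ hw, mem_fix_singleton.mpr hdw⟩} : Finset F))
            have m1 : d • w ≠ 1 := fun e' => hw1 (MulAction.injective d (e'.trans (smul_one d).symm))
            have m2 : d • w ≠ w := fun e' => hw1 (S.eq_one_of_dOf_fixed _ e' hw)
            rw [Finset.card_insert_of_notMem, Finset.card_pair]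
            · intro e'
              exact m2 (congrArg Subtype.val e').symm
            · rw [Finset.mem_insert, Finset.mem_singleton, not_or]
              exact ⟨fun e' => hw1 (congrArg Subtype.val e').symm,
                fun e' => m1 (congrArg Subtype.val e').symm⟩
          have hd4 : Nat.card F ∣ 4 := S.card_plane ha.tvL.tv ▸ card_dvd_of_le inf_le_left
          have := Nat.le_of_dvd (by omega) hd4
          interval_cases hh : Nat.card F <;> omega
        exact mem_fix_singleton.mp ((h4.symm ▸ hz : z ∈ F).2)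
      have hg : Function.Injective g := by
        intro x z hxz
        have e : (x : Vc L) * y • (x : Vc L) = z * y • (z : Vc L) := congrArg Subtype.val hxz
        have hfx : y • ((x : Vc L) * z) = (x : Vc L) * z := by
          rw [smul_mul']
          calc y • (x : Vc L) * y • (z : Vc L) =
                (x : Vc L) * (x * y • (x : Vc L)) * y • (z : Vc L) := by rw [mul_self_mul Vc_elem]
            _ = (x : Vc L) * z * (y • (z : Vc L) * y • (z : Vc L)) := by
                rw [e]; simp only [mul_assoc]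
            _ = _ := by rw [← smul_mul', Vc_elem, smul_one, mul_one]
        have h1 := hfree _ (mul_mem x.2 z.2) hfx
        rw [mul_eq_one_iff_eq_inv, inv_eq Vc_elem] at h1
        exact Subtype.ext h1
      obtain ⟨w, hw⟩ := Finite.injective_iff_surjective.mp hg ⟨v', hv'⟩
      refine ⟨_, ⟨w, w.2, rfl⟩, ?_⟩
      exact (congrArg (fun z : S.plane ha.tvL.tv => ((z : Vc L) : G)) hw).symm
    have hVO : Vc L ≤ O := le_pCoreOf ((isPGroup_pCoreOf L).to_le (om_le _))
      ((h.Vc_le_jay Z).trans le_sup_right) (hHL.trans (le_normalizer_Vc L))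
    have hZ1 : planeA L a ≤ Cfsg.omegaCenterOf R := by
      intro v hv
      obtain ⟨w, hw, rfl⟩ := hsurj v hv
      have hwV := planeA_le S ha.tvL hw
      have hvV : w * (k * w * k⁻¹) ∈ Vc L := (Vc L).mul_mem hwV (conj_mem_Vc (hKL hk) hwV)
      have hvK : w * (k * w * k⁻¹) ∈ K := by
        rw [show w * (k * w * k⁻¹) = w * k * w⁻¹ * k⁻¹ by
          rw [inv_eq_of_mul_eq_one_right (om_sq hwV)]; group]
        exact K.mul_mem ((mem_normalizer_iff.mp (hON (hVO hwV)) k).mp hk) (K.inv_mem hk)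
      have hsq := om_sq hvV
      have hvR : w * (k * w * k⁻¹) ∈ R := by
        have h3 := hcube _ hvK
        rwa [hsq, one_mul] at h3
      refine mem_om.mpr ⟨hvR, fun r hr => ?_, (mem_om.mp hvV).2.2⟩
      rw [planeA_eq S ha.tvL] at hv
      obtain ⟨z, hz, hze⟩ := hv
      rw [← hze]
      exact (img_smul_eq_iff (⟨r, hKL (pCoreOf_le 2 K hr)⟩ : L) z).mp (hfixR r hr z hz)
    refine Subgroup.eq_of_le_of_card_ge (fun v hv => ?_) ?_
    · obtain ⟨w, hw, rfl⟩ := hsurj v hv
      have := commutator_mem_commutator (hZ1 hw) hk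
      rwa [commutatorElement_def, inv_eq_of_mul_eq_one_right (om_sq (hZ1 hw)), mul_assoc w k w,
        mul_assoc w] at this
    · rw [hW, card_planeA S ha.tvL]

/-- The statement on lifting components between conjugates. -/
theorem LHyp.jcomp_lift (hT : IsPGroup 2 T) (hKL : K ≤ L)
    (hsn : (K.subgroupOf (K ⊔ jay 2 T)).IsSubnormal) {g : G}
    (hKg : K ∈ Cfsg.jComponentsZero (cj g T)) : Cfsg.IsJComponent T K := by
  have hT' := isPGroup_cj (g := g) hT
  have hN := Z.normalizer_eq hT' hKg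
  obtain ⟨hgen, -, hrel, -, hW, -⟩ := hKg.1
  have hJK : jay 2 T ≤ normalizer (K : Set G) := by
    refine (h.jay_split Z).trans (sup_le ((closure_le _).mpr fun a ha =>
      h.adm_le_normalizer Z ha hKL hgen hrel hW hN.ge hsn) ?_)
    set H := K ⊔ jay 2 T with hH
    have hHL : H ≤ L := sup_le hKL (jay_le.trans h.syl.1)
    have hO : jay 2 T ⊓ Cfsg.pCoreOf 2 L ≤ Cfsg.pCoreOf 2 H := by
      refine (le_inf inf_le_right (inf_le_left.trans le_sup_right)).trans
        (le_pCoreOf ((isPGroup_pCoreOf L).to_le inf_le_left) inf_le_right fun g hg =>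
          H61.mem_normalizer_of_conj_mem fun z hz =>
            ⟨(mem_normalizer_iff.mp (le_normalizer_pCoreOf L (hHL hg)) z).mp hz.1,
              H.mul_mem (H.mul_mem hg hz.2) (H.inv_mem hg)⟩)
    refine hO.trans fun x hx => ?_
    have hKO := normalizes_of_sn (O := Cfsg.pCoreOf 2 H) le_sup_left (pCoreOf_le 2 H)
      (isPGroup_pCoreOf H) ((le_sup_left : K ≤ H).trans (le_normalizer_pCoreOf H)) hsn hgen
    exact hKO ▸ normalizer_le_normalizer_oddCl _ (le_normalizer (mem_sup_right hx))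
  exact Z.jcomp_conj hT' hKg (g := g⁻¹) (cj_inv_cj g T).symm
    (hN ▸ hJK)

end

end Cfsg.Agent.H85.ZN
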