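import Cfsg.Agent.H85.ZN.Top

/-!
The action of a component on `Ω₁Z(J(T))`.
-/

set_option autoImplicit false
set_option linter.style.haveILetI false
set_option linter.unusedSectionVars false

namespace Cfsg.Agent.H85.ZN

open Subgroup Cfsg.Agent.Thompson
open scoped commutatorElement

variable {G : Type*} [Group G] [Finite G] {L T : Subgroup G}

/-- `Z₀ = Ω₁Z(J(T))`. -/
abbrev zJ (T : Subgroup G) : Subgroup G := Cfsg.omegaCenterOf (jay 2 T)

theorem mem_zJ_commute {T : Subgroup G} {z j : G} (hz : z ∈ zJ T) (hj : j ∈ jay 2 T) :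
    Commute j z := (mem_om.mp hz).2.1 j hj

theorem jay_le_centralizer_zJ {T : Subgroup G} {z : G} (hz : z ∈ zJ T) :
    jay 2 T ≤ centralizer ({z} : Set G) := fun _ hj =>
  mem_centralizer_singleton_iff.mpr (mem_zJ_commute hz hj).eq

section

variable (Z : ZHyp G) (h : LHyp L T)
include Z h

/-- A generator of order three inverted by `a`. -/
theorem LHyp.exists_k3 {a : G} (ha : TvL L a) :
    ∃ (k : G) (hk : k ∈ L), k ∈ compOf L a ∧ k * k * k = 1 ∧ a * k * a = k⁻¹ ∧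
      k ∉ Cfsg.pCoreOf 2 L ∧ img L ⟨k, hk⟩ ∈ zpowers ((h.setup Z).dOf ha.tv) ∧
      img L ⟨k, hk⟩ ≠ 1 ∧
      (∀ x : G, x ∈ piece L a ↔ ∃ hx : x ∈ L, proj L ⟨x, hx⟩ ∈ zpowers (proj L ⟨k, hk⟩)) := by
  obtain ⟨u, k0, hk0L, hk0K, hk0u, himgu, hord, hAUA, hmem⟩ := h.comp_gen Z ha
  set S := h.setup Z
  set A := proj L ⟨a, ha.mem⟩ with hA
  set U := proj L u with hU
  have hAA : A * A = 1 := by
    rw [hA, ← map_mul, show (⟨a, ha.mem⟩ : L) * ⟨a, ha.mem⟩ = 1 from Subtype.ext ha.1, map_one]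
  have hU3 : U ^ 3 = 1 := hord ▸ pow_orderOf_eq_one _
  set α : L := ⟨a, ha.mem⟩ with hα
  set β : L := ⟨k0, hk0L⟩ with hβ
  have hαα : α * α = 1 := Subtype.ext ha.1
  set m : L := α * (β * α * β⁻¹) with hm
  have hinv : α * m * α = m⁻¹ := by
    rw [hm]
    calc α * (α * (β * α * β⁻¹)) * α = α * α * (β * α * β⁻¹) * α := by group
      _ = β * α⁻¹ * β⁻¹ * α⁻¹ := by rw [inv_eq_of_mul_eq_one_right hαα, hαα, one_mul]
      _ = _ := by group
  have hmU : proj L m = U := by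
    rw [hm, map_mul, map_mul, map_mul, map_inv, hk0u, ← hA]
    calc A * (U * A * U⁻¹) = (A * U * A) * U⁻¹ := by group
      _ = U⁻¹ * U⁻¹ := by rw [hAUA]
      _ = U := by
          rw [← mul_inv_rev]
          exact inv_eq_of_mul_eq_one_right (by rw [← pow_three']; exact hU3)
  obtain ⟨n, q, hq, hnq⟩ := Nat.exists_eq_pow_mul_and_not_dvd (orderOf_pos m).ne' 2 (by omega)
  obtain ⟨e, he3, c, rfl⟩ : ∃ e : ℕ, e % 3 = 1 ∧ 2 ^ n ∣ e :=
    ⟨2 ^ n * 2 ^ n, by rw [← pow_add, ← two_mul, pow_mul, Nat.pow_mod]; norm_num, dvd_mul_right _ _⟩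
  set k : L := m ^ (2 ^ n * c) with hk
  have hkU : proj L k = U := by
    rw [hk, map_pow, hmU, ← pow_mod_orderOf, hord, he3, pow_one]
  have hkinv : α * k * α = k⁻¹ := by
    have : (α * m * α⁻¹) ^ (2 ^ n * c) = α * k * α⁻¹ := conj_pow
    rw [inv_eq_of_mul_eq_one_right hαα, hinv, inv_pow] at this
    exact this.symm
  have hkodd : Odd (orderOf k) := by
    refine Odd.of_dvd_nat (Nat.not_even_iff_odd.mp fun hev => hq (even_iff_two_dvd.mp hev))
      (orderOf_dvd_of_pow_eq_one ?_ : orderOf k ∣ q)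
    rw [hk, ← pow_mul, show 2 ^ n * c * q = orderOf m * c by rw [hnq]; ring, pow_mul,
      pow_orderOf_eq_one, one_pow]
  have hk3 : k * k * k = 1 := by
    have hmemQ : ((k * k * k : L) : G) ∈ Cfsg.pCoreOf 2 L :=
      proj_eq_one.mp (by rw [map_mul, map_mul, hkU, ← pow_three']; exact hU3)
    obtain ⟨i, hi⟩ := isPGroup_pCoreOf L ⟨_, hmemQ⟩
    refine eq_one_of_odd_two (Odd.of_dvd_nat hkodd ?_)
      (Subtype.ext (congrArg Subtype.val hi : ((k * k * k : L) : G) ^ 2 ^ i = 1))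
    rw [← pow_three']
    exact orderOf_pow_dvd 3
  have hkimg : img L k = S.dOf ha.tv := by
    have : ((u⁻¹ * k : L) : G) ∈ Cn L :=
      pCoreOf_le_Cn L (proj_eq_one.mp (by rw [map_mul, map_inv, hkU, inv_mul_cancel]))
    rw [mem_Cn_coe, map_mul, map_inv, inv_mul_eq_one] at this
    exact this.symm.trans himgu
  refine ⟨(k : G), k.2, mem_oddCl ((hmem _).mpr ⟨k.2, ?_⟩) (by rwa [Subgroup.orderOf_coe]), ?_, ?_,
    ?_, ?_, ?_, ?_⟩
  · rw [Subtype.coe_eta, hkU]; exact mem_zpowers U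
  · exact congrArg Subtype.val hk3
  · exact congrArg Subtype.val hkinv
  · intro hQ
    have h1 := proj_eq_one.mpr hQ
    rw [hkU] at h1
    rw [h1, orderOf_one] at hord
    omega
  · rw [Subtype.coe_eta, hkimg]; exact mem_zpowers _
  · rw [Subtype.coe_eta, hkimg]
    intro h1
    have h2 := S.orderOf_dOf ha.tv
    rw [h1, orderOf_one] at h2
    omega
  · intro x
    rw [hmem x]
    simp only [Subtype.coe_eta, hkU]

/-- A component is generated by one element of order three and `J(T)`. -/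
theorem LHyp.comp_le_sup {a k : G} (ha : Adm L T a) (hk : k ∈ compOf L a)
    (hkQ : k ∉ Cfsg.pCoreOf 2 L) : compOf L a ≤ zpowers k ⊔ jay 2 T := by
  obtain ⟨u, -, -, -, -, -, hord, -, hmem⟩ := h.comp_gen Z ha.tvL
  obtain ⟨hkL, hkU⟩ := (hmem k).mp (oddCl_le _ hk)
  haveI : Fact (Nat.Prime 3) := ⟨Nat.prime_three⟩
  have hne : proj L ⟨k, hkL⟩ ≠ 1 := fun e => hkQ ((proj_eq_one (x := (⟨k, hkL⟩ : L))).mp e)
  have hz : zpowers (proj L ⟨k, hkL⟩) = zpowers (proj L u) := by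
    refine Subgroup.eq_of_le_of_card_ge (zpowers_le.mpr hkU) ?_
    have h1 : orderOf (proj L ⟨k, hkL⟩) ∣ 3 := by
      rw [← hord, ← Nat.card_zpowers, ← Nat.card_zpowers]
      exact card_dvd_of_le (zpowers_le.mpr hkU)
    rw [Nat.card_zpowers, Nat.card_zpowers, hord,
      ((Nat.dvd_prime Nat.prime_three).mp h1).resolve_left fun e => hne (orderOf_eq_one_iff.mp e)]
  set M := zpowers k ⊔ jay 2 T with hM
  conv_lhs => rw [← h.comm_comp_jay Z ha]
  rw [commutator_le]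
  intro x hx j hj
  obtain ⟨hxL, hxU⟩ := (hmem x).mp (oddCl_le _ hx)
  rw [← hz] at hxU
  obtain ⟨i, hi : proj L ⟨k, hkL⟩ ^ i = proj L ⟨x, hxL⟩⟩ := hxU
  set r := (k ^ i)⁻¹ * x with hr
  have hrQ : r ∈ Cfsg.pCoreOf 2 L := (proj_eq_one (x := (⟨k, hkL⟩ ^ i : L)⁻¹ * ⟨x, hxL⟩)).mp
    (by rw [map_mul, map_inv, map_zpow, hi, inv_mul_cancel])
  have hrN : r ∈ normalizer (jay 2 T : Set G) :=
    normalizer_le_normalizer_jay 2 T (le_normalizer (pCoreOf_le_sylowTwoIn h.syl hrQ))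
  have hrj : ⁅r, j⁆ ∈ jay 2 T := by
    rw [commutatorElement_def]
    exact mul_mem ((mem_normalizer_iff.mp hrN j).mp hj) (inv_mem hj)
  have hki : k ^ i ∈ M := mem_sup_left (zpow_mem_zpowers k i)
  have hjM : j ∈ M := mem_sup_right hj
  rw [show ⁅x, j⁆ = k ^ i * ⁅r, j⁆ * (k ^ i)⁻¹ * (k ^ i * j * (k ^ i)⁻¹ * j⁻¹) by
    rw [hr]; simp only [commutatorElement_def]; group]
  exact M.mul_mem (M.mul_mem (M.mul_mem hki (mem_sup_right hrj)) (M.inv_mem hki))
    (M.mul_mem (M.mul_mem (M.mul_mem hki hjM) (M.inv_mem hki)) (M.inv_mem hjM))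

/-- A component centralises the planes of the others. -/
theorem LHyp.comp_le_centralizer {a b : G} (ha : TvL L a) (hb : TvL L b)
    (hne : planeA L b ≠ planeA L a) : compOf L b ≤ centralizer (planeA L a : Set G) := by
  set S := h.setup Z
  intro x hx
  obtain ⟨hxL, ⟨S', hb', ht', hmem⟩, -⟩ := (h.mem_piece Z hb.mem hb.1 hb.tv).mp (oddCl_le _ hx)
  rw [mem_centralizer_iff]
  intro v hv
  rw [planeA_eq S ha] at hv
  obtain ⟨w, hw, rfl⟩ := hv
  have hne' : S.plane hb.tv ≠ S.plane ha.tv := fun e => hne (by rw [planeA_eq S ha, planeA_eq S hb, e])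
  have h1 := ((S.of_plane_ne hb.tv ha.tv hne').1 w hw).1
  have h2 : zpowers (S.dOf hb.tv) ≤ MulAction.stabilizer ↥(Hq L) w :=
    zpowers_le.mpr (MulAction.mem_stabilizer_iff.mpr h1)
  exact ((img_smul_eq_iff (⟨x, hxL⟩ : L) w).mp (MulAction.mem_stabilizer_iff.mp (h2 hmem))).eq.symm

/-- Admissible transvections with the same plane agree modulo `O₂(L)`. -/
theorem LHyp.adm_same {a b : G} (ha : Adm L T a) (hb : Adm L T b)
    (hpl : planeA L b = planeA L a) : b * a ∈ Cfsg.pCoreOf 2 L := by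
  obtain ⟨u, -, -, -, -, -, hord, -, hmem⟩ := h.comp_gen Z ha.tvL
  obtain ⟨hL, hU⟩ := (hmem _).mp (h.piece_congr Z ha.tvL hb.tvL hpl).2
  obtain ⟨i, hi⟩ := (h.syl.2.1.to_le jay_le) ⟨_, mul_mem hb.mem_jay ha.mem_jay⟩
  refine (proj_eq_one (x := (⟨b * a, hL⟩ : L))).mp (eq_one_of_odd_two (k := i)
    (Odd.of_dvd_nat (by decide : Odd 3) ?_) ?_)
  · rw [← hord, ← Nat.card_zpowers, ← Nat.card_zpowers]
    exact card_dvd_of_le (zpowers_le.mpr hU)
  · rw [← map_pow, show (⟨b * a, hL⟩ : L) ^ 2 ^ i = 1 from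
      Subtype.ext (congrArg Subtype.val hi : (b * a) ^ 2 ^ i = 1), map_one]

/-- The fixed line of `J(T)` on the plane of a component. -/
theorem LHyp.exists_c {a : G} (ha : Adm L T a) : ∃ c, c ≠ 1 ∧ c ∈ planeA L a ∧ c ∈ zJ T ∧
    (∀ x ∈ planeA L a, Commute a x → x = 1 ∨ x = c) ∧
    ¬ compOf L a ≤ centralizer ({c} : Set G) := by
  set S := h.setup Z
  set t := img L ⟨a, ha.tvL.mem⟩ with ht
  obtain ⟨c, -, hc1, hcP, hcv, hcf, -⟩ := S.tv_centre_mem ha.tvL.tv
  set P := S.plane ha.tvL.tv with hP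
  set F := P ⊓ fix ↥(Vc L) ({t} : Set ↥(Hq L)) with hF
  obtain ⟨⟨w, hw⟩, hw1⟩ : ∃ w : P, w ≠ 1 := by
    haveI := Finite.one_lt_card_iff_nontrivial.mp (by rw [S.card_plane]; omega : 1 < Nat.card P)
    exact exists_ne 1
  have hmove : ¬ P ≤ fix ↥(Vc L) ({t} : Set ↥(Hq L)) := fun hle => by
    have e := S.tv_smul_dOf ha.tvL.tv w
    rw [mem_fix_singleton.mp (hle (S.dOf_smul_mem _ hw)), mem_fix_singleton.mp (hle hw)] at e
    exact hw1 (Subtype.ext (S.eq_one_of_dOf_fixed _ (MulAction.injective _ e.symm) hw))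
  have hF2 : Nat.card F = 2 := by
    have h4 := S.card_plane ha.tvL.tv
    have hd : Nat.card F ∣ 4 := h4 ▸ card_dvd_of_le inf_le_left
    have hne : Nat.card F ≠ 4 := fun e => hmove
      ((Subgroup.eq_of_le_of_card_ge (inf_le_left : F ≤ P) (by rw [e, h4])).ge.trans inf_le_right)
    have h1 : 1 < Nat.card F := Finite.one_lt_card_iff_nontrivial.mpr
      ⟨⟨c, hcP, mem_fix_singleton.mpr hcf⟩, 1, fun e => hc1 (congrArg Subtype.val e)⟩
    have := Nat.le_of_dvd (by omega) hd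
    interval_cases hh : Nat.card F <;> omega
  have hcA : (c : G) ∈ planeA L a := by rw [planeA_eq S ha.tvL]; exact ⟨c, hcP, rfl⟩
  have hline : ∀ x ∈ planeA L a, Commute a x → x = 1 ∨ x = (c : G) := by
    intro x hx hax
    rw [planeA_eq S ha.tvL] at hx
    obtain ⟨y, hy, rfl⟩ := hx
    rcases pair_of_card_two hF2 ⟨hcP, mem_fix_singleton.mpr hcf⟩ hc1
      ⟨hy, mem_fix_singleton.mpr ((img_smul_eq_iff (⟨a, ha.tvL.mem⟩ : L) y).mpr hax)⟩ with e | e
    · exact .inl (congrArg Subtype.val e)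
    · exact .inr (congrArg Subtype.val e)
  have hJc : jay 2 T ≤ centralizer ({(c : G)} : Set G) := by
    refine (h.jay_split Z).trans (sup_le ((closure_le _).mpr fun b hb => ?_) fun q hq => ?_)
    · refine mem_centralizer_singleton_iff.mpr ?_
      by_cases hpl : planeA L b = planeA L a
      · have hab : Commute a (c : G) := (img_smul_eq_iff (⟨a, ha.tvL.mem⟩ : L) c).mp hcf
        have hq : Commute (b * a) (c : G) :=
          (mem_centralizer_iff.mp (pCoreOf_le_Cn L (h.adm_same Z ha hb hpl)).2 _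
            (planeA_le S ha.tvL hcA)).symm
        have := hq.mul_left hab
        rw [mul_assoc, ha.tvL.1, mul_one] at this
        exact this.eq
      · have hne' : S.plane hb.tvL.tv ≠ S.plane ha.tvL.tv :=
          fun e => hpl (by rw [planeA_eq S ha.tvL, planeA_eq S hb.tvL, e])
        exact ((img_smul_eq_iff (⟨b, hb.tvL.mem⟩ : L) c).mp
          ((S.of_plane_ne hb.tvL.tv ha.tvL.tv hne').1 c hcP).2).eq
    · exact mem_centralizer_singleton_iff.mpr
        (mem_centralizer_iff.mp (pCoreOf_le_Cn L hq.2).2 _ c.2).symm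
  refine ⟨c, fun e => hc1 (Subtype.ext e), hcA, mem_om.mpr ⟨h.Vc_le_jay Z c.2, fun j hj =>
    mem_centralizer_singleton_iff.mp (hJc hj), (mem_om.mp c.2).2.2⟩, hline, fun hle => hc1 ?_⟩
  obtain ⟨k, hkL, hkK, -, -, -, hkd, hk1, -⟩ := h.exists_k3 Z ha.tvL
  have hfix : img L ⟨k, hkL⟩ • c = c :=
    (img_smul_eq_iff _ c).mpr (mem_centralizer_singleton_iff.mp (hle hkK))
  refine S.eq_one_of_dOf_fixed ha.tvL.tv ?_ hcP
  rcases zpow3_cases (S.orderOf_dOf ha.tvL.tv) hkd with e | e | e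
  · exact absurd e hk1
  · rwa [e] at hfix
  · rw [e, mul_smul] at hfix
    have h5 := congrArg (S.dOf ha.tvL.tv • ·) hfix
    simp only [S.dOf_cube ha.tvL.tv] at h5
    exact h5.symm

set_option maxHeartbeats 1000000 in
/-- Elements of `J(T)` fixing the plane commute with the generator modulo `O₂(L)`. -/
theorem LHyp.comm_mem_core {a k c : G} (ha : Adm L T a) (hkL : k ∈ L) (hkK : k ∈ compOf L a)
    (hk3 : k * k * k = 1) (hkQ : k ∉ Cfsg.pCoreOf 2 L)
    (hpiece : ∀ x : G, x ∈ piece L a ↔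
      ∃ hx : x ∈ L, proj L ⟨x, hx⟩ ∈ zpowers (proj L ⟨k, hkL⟩))
    (hc1 : c ≠ 1) (hcW : c ∈ planeA L a) (hkW : k ∈ normalizer (planeA L a : Set G))
    (hWfix : ∀ w ∈ planeA L a, Commute k w → w = 1) :
    ∀ j ∈ jay 2 T ⊓ centralizer (planeA L a : Set G),
      k * j * k⁻¹ * j⁻¹ ∈ Cfsg.pCoreOf 2 L := by
  set W := planeA L a with hW
  have hWV : W ≤ Vc L := planeA_le (h.setup Z) ha.tvL
  intro j hj
  have hjL : j ∈ L := h.syl.1 (jay_le hj.1)
  have hjk : j * k * j⁻¹ ∈ compOf L a :=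
    (mem_normalizer_iff.mp (h.jay_le_normalizer_comp Z ha.tvL hj.1) k).mp hkK
  obtain ⟨hcL, hcU⟩ := (hpiece _).mp (oddCl_le _ hjk)
  haveI : Fact (Nat.Prime 3) := ⟨Nat.prime_three⟩
  have hP3 : proj L ⟨k, hkL⟩ ^ 3 = 1 := by
    rw [← map_pow, show (⟨k, hkL⟩ : L) ^ 3 = 1 from Subtype.ext (by simpa [pow_three'] using hk3),
      map_one]
  have hord : orderOf (proj L ⟨k, hkL⟩) = 3 :=
    orderOf_eq_prime hP3 fun e => hkQ ((proj_eq_one (x := (⟨k, hkL⟩ : L))).mp e)
  have hkey : proj L ⟨j * k * j⁻¹, hcL⟩ = proj L ⟨k, hkL⟩ := by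
    rcases zpow3_cases hord hcU with e | e | e
    · exfalso
      rw [show (⟨j * k * j⁻¹, hcL⟩ : L) = ⟨j, hjL⟩ * ⟨k, hkL⟩ * ⟨j, hjL⟩⁻¹ from rfl, map_mul,
        map_mul, map_inv, conj_eq_one_iff] at e
      exact hkQ ((proj_eq_one (x := (⟨k, hkL⟩ : L))).mp e)
    · exact e
    · exfalso
      have hq : (k * k)⁻¹ * (j * k * j⁻¹) ∈ Cfsg.pCoreOf 2 L :=
        (proj_eq_one (x := ((⟨k, hkL⟩ : L) * ⟨k, hkL⟩)⁻¹ * ⟨j * k * j⁻¹, hcL⟩)).mp
          (by rw [map_mul, map_inv, map_mul, e, inv_mul_cancel])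
      have hqC : ∀ w ∈ W, Commute ((k * k)⁻¹ * (j * k * j⁻¹)) w := fun w hw =>
        (mem_centralizer_iff.mp (pCoreOf_le_Cn L hq).2 w (hWV hw)).symm
      have hjC : ∀ w ∈ W, Commute j w := fun w hw =>
        (mem_centralizer_iff.mp hj.2 w hw).symm
      refine hc1 (hWfix c hcW ?_)
      have hcj : j * k * j⁻¹ * c * (j * k * j⁻¹)⁻¹ = k * c * k⁻¹ := by
        have hkc : k * c * k⁻¹ ∈ W := (mem_normalizer_iff.mp hkW c).mp hcW
        calc j * k * j⁻¹ * c * (j * k * j⁻¹)⁻¹ = j * (k * (j⁻¹ * c * j) * k⁻¹) * j⁻¹ := by group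
          _ = j * (k * c * k⁻¹) * j⁻¹ := by
              rw [show j⁻¹ * c * j = c by
                rw [mul_assoc, ← (hjC c hcW).eq, ← mul_assoc, inv_mul_cancel, one_mul]]
          _ = _ := by rw [(hjC _ hkc).eq, mul_inv_cancel_right]
      have h2 : k * k * c * (k * k)⁻¹ = k * c * k⁻¹ := by
        rw [← hcj]
        conv_rhs => rw [show j * k * j⁻¹ = k * k * ((k * k)⁻¹ * (j * k * j⁻¹)) by
          rw [mul_inv_cancel_left]]
        set q := (k * k)⁻¹ * (j * k * j⁻¹)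
        rw [show k * k * q * c * (k * k * q)⁻¹ = k * k * (q * c * q⁻¹) * (k * k)⁻¹ by group,
          (hqC c hcW).eq, mul_inv_cancel_right]
      refine mul_inv_eq_iff_eq_mul.mp ?_
      calc k * c * k⁻¹ = k⁻¹ * (k * k * c * (k * k)⁻¹) * k := by group
        _ = k⁻¹ * (k * c * k⁻¹) * k := by rw [h2]
        _ = c := by group
  refine (proj_eq_one
    (x := (⟨k, hkL⟩ : L) * ⟨j, hjL⟩ * (⟨k, hkL⟩ : L)⁻¹ * (⟨j, hjL⟩ : L)⁻¹)).mp ?_
  have e : proj L ⟨j, hjL⟩ * proj L ⟨k, hkL⟩ * (proj L ⟨j, hjL⟩)⁻¹ = proj L ⟨k, hkL⟩ := by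
    rw [← map_inv, ← map_mul, ← map_mul]; exact hkey
  rw [map_mul, map_mul, map_mul, map_inv, map_inv, ← mul_inv_eq_iff_eq_mul.mp e,
    mul_inv_cancel_right, mul_inv_cancel]

set_option maxHeartbeats 1000000 in
/-- `a` and the part of `A` fixing the plane cover `A`. -/
theorem LHyp.adm_cover {a c : G} {A : Subgroup G} (ha : Adm L T a) (hA : A ∈ maxIn 2 T)
    (haA : a ∈ A) (hcW : c ∈ planeA L a) (hcJ : c ∈ zJ T)
    (hline : ∀ x ∈ planeA L a, Commute a x → x = 1 ∨ x = c) :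
    ∀ x ∈ A, x ∈ A ⊓ centralizer (planeA L a : Set G) ∨
      a * x ∈ A ⊓ centralizer (planeA L a : Set G) := by
  set W := planeA L a with hW
  have hWV : W ≤ Vc L := planeA_le (h.setup Z) ha.tvL
  have hW4 : Nat.card W = 4 := card_planeA (h.setup Z) ha.tvL
  have hJW : jay 2 T ≤ normalizer (W : Set G) := fun j hj =>
    Thompson.mem_normalizer_of_map_conj (cj_planeA_of_plStab (h.jay_le_plStab Z hj) ha.tvL)
  have haW : a ∈ normalizer (W : Set G) := hJW ha.mem_jay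
  set B := A ⊓ centralizer (W : Set G) with hB
  intro x hx
  obtain ⟨w, hw, hwa⟩ : ∃ w ∈ W, a * w * a⁻¹ ≠ w := by
    by_contra hall
    push Not at hall
    have h3 : ∀ w ∈ W, w = 1 ∨ w = c := fun w hw =>
      hline w hw (mul_inv_eq_iff_eq_mul.mp (hall w hw))
    have : Nat.card W ≤ 2 := by
      have hsub : (W : Set G) ⊆ {1, c} := fun w hw => h3 w hw
      exact (Nat.card_mono (Set.toFinite _) hsub).trans (by
        rw [Nat.card_coe_set_eq]
        exact (Set.ncard_insert_le _ _).trans (by rw [Set.ncard_singleton]))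
    omega
  have haw : ∀ v ∈ W, a * v * a⁻¹ = v ∨ a * v * a⁻¹ = v * c := by
    intro v hv
    have hv' := (mem_normalizer_iff.mp haW v).mp hv
    have hd : Commute a (v * (a * v * a⁻¹)) := by
      have hvv : Commute v (a * v * a⁻¹) := om_comm (hWV hv) (hWV hv')
      refine mul_inv_eq_iff_eq_mul.mp ?_
      calc a * (v * (a * v * a⁻¹)) * a⁻¹ = (a * v * a⁻¹) * ((a * a) * v * (a * a)⁻¹) := by group
        _ = _ := by rw [ha.tvL.1, one_mul, inv_one, mul_one, hvv.eq]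
    rcases hline _ (W.mul_mem hv hv') hd with e | e
    · left
      rw [← inv_eq_of_mul_eq_one_right e, inv_eq_of_mul_eq_one_right (om_sq (hWV hv))]
    · right
      rw [← e, ← mul_assoc, om_sq (hWV hv), one_mul]
  have hwc : a * w * a⁻¹ = w * c := (haw w hw).resolve_left hwa
  have hxW : ∀ v ∈ W, x * v * x⁻¹ ∈ W := fun v hv =>
    (mem_normalizer_iff.mp (hJW (le_jay hA hx)) v).mp hv
  have hfixB : ∀ g ∈ A, g * w * g⁻¹ = w → g ∈ B := by
    intro g hg hgw
    refine ⟨hg, mem_centralizer_iff.mpr fun v hv => ?_⟩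
    have hgc : Commute g c := mem_zJ_commute hcJ (le_jay hA hg)
    have hgw' : Commute g w := mul_inv_eq_iff_eq_mul.mp hgw
    rcases haw v hv with e | e
    · rcases hline v hv (mul_inv_eq_iff_eq_mul.mp e) with rfl | rfl
      · simp
      · exact hgc.eq.symm
    · have hfix2 : Commute a (v * w) := by
        refine mul_inv_eq_iff_eq_mul.mp ?_
        rw [show a * (v * w) * a⁻¹ = a * v * a⁻¹ * (a * w * a⁻¹) by group, e, hwc, mul_assoc,
          ← mul_assoc c w, (om_comm (hWV hcW) (hWV hw)).eq, mul_assoc w, om_sq (hWV hcW), mul_one]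
      have hvw : Commute g (v * w) := by
        rcases hline _ (W.mul_mem hv hw) hfix2 with e' | e' <;> rw [e']
        · exact Commute.one_right g
        · exact hgc
      have := hvw.mul_right hgw'.inv_right
      rw [mul_inv_cancel_right] at this
      exact this.eq.symm
  by_cases hxw : x * w * x⁻¹ = w
  · exact .inl (hfixB x hx hxw)
  refine .inr (hfixB _ (A.mul_mem haA hx) ?_)
  have hax : Commute a x := hA.2.1.comm haA hx
  have hd : Commute a (w * (x * w * x⁻¹)) := by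
    refine mul_inv_eq_iff_eq_mul.mp ?_
    have hxc : x * c * x⁻¹ = c := by
      rw [(mem_zJ_commute hcJ (le_jay hA hx)).eq, mul_inv_cancel_right]
    have hax' : a * (x * w * x⁻¹) * a⁻¹ = x * w * x⁻¹ * c := by
      calc a * (x * w * x⁻¹) * a⁻¹ = (a * x) * w * (a * x)⁻¹ := by group
        _ = (x * a) * w * (x * a)⁻¹ := by rw [hax.eq]
        _ = x * (a * w * a⁻¹) * x⁻¹ := by group
        _ = x * w * x⁻¹ * (x * c * x⁻¹) := by rw [hwc]; group
        _ = _ := by rw [hxc]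
    rw [show a * (w * (x * w * x⁻¹)) * a⁻¹ = a * w * a⁻¹ * (a * (x * w * x⁻¹) * a⁻¹) by group,
      hwc, hax', mul_assoc, ← mul_assoc c, (om_comm (hWV hcW) (hWV (hxW w hw))).eq,
      mul_assoc (x * w * x⁻¹), om_sq (hWV hcW), mul_one]
  have hxc2 : x * w * x⁻¹ = w * c := by
    rcases hline _ (W.mul_mem hw (hxW w hw)) hd with e | e
    · exact absurd (by
        rw [← inv_eq_of_mul_eq_one_right e, inv_eq_of_mul_eq_one_right (om_sq (hWV hw))]) hxw
    · rw [← e, ← mul_assoc, om_sq (hWV hw), one_mul]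
  calc a * x * w * (a * x)⁻¹ = a * (x * w * x⁻¹) * a⁻¹ := by group
    _ = a * w * a⁻¹ * (a * c * a⁻¹) := by rw [hxc2]; group
    _ = w := by
        rw [hwc, (mem_zJ_commute hcJ ha.mem_jay).eq, mul_inv_cancel_right, mul_assoc,
          om_sq (hWV hcW), mul_one]

set_option maxHeartbeats 1000000 in
/-- The module argument. -/
theorem LHyp.zJ_kernel_le {a k c : G} {A B W ZY : Subgroup G} (ha : Adm L T a)
    (hA : A ∈ maxIn 2 T) (haA : a ∈ A) (hBA : B ≤ A) (hAB : ∀ x ∈ A, x ∈ B ∨ a * x ∈ B)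
    (hk3 : k * k * k = 1) (hak : a * k * a = k⁻¹) (hWV : W ≤ Vc L) (hW4 : Nat.card W = 4)
    (hcW : c ∈ W) (hline : ∀ x ∈ W, Commute a x → x = 1 ∨ x = c)
    (hkW : k ∈ normalizer (W : Set G)) (hWfix : ∀ w ∈ W, Commute k w → w = 1)
    (hZe : IsAbExp 2 ZY) (hZT : ZY ≤ T) (hkZ : k ∈ normalizer (ZY : Set G))
    (haZ : a ∈ normalizer (ZY : Set G)) (hZ0 : zJ T ≤ ZY) (hWZ : W ≤ ZY)
    (hBZ : ∀ b ∈ B, ∀ u ∈ ZY, Commute b u) :
    Nat.card (zJ T) ≤ 2 * Nat.card ↥(zJ T ⊓ centralizer ({k} : Set G) : Subgroup G) := by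
  have hcom : ∀ {x y : G}, x ∈ ZY → y ∈ ZY → x * y = y * x := fun hx hy => hZe.comm hx hy
  have hsq : ∀ {x : G}, x ∈ ZY → x * x = 1 := fun hx => by rw [← pow_two]; exact hZe.2 _ hx
  obtain ⟨f, hfa⟩ : ∃ f : ZY →* G, ∀ z : ZY, f z = (z : G) * (k * z * k⁻¹) := by
    refine ⟨{ toFun := fun z => (z : G) * (k * z * k⁻¹), map_one' := by simp, map_mul' := ?_ },
      fun z => rfl⟩
    intro z w
    have hc : Commute (w : G) (k * z * k⁻¹) :=
      hcom w.2 ((mem_normalizer_iff.mp hkZ _).mp z.2)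
    rw [coe_mul, show k * ((z : G) * w) * k⁻¹ = k * z * k⁻¹ * (k * w * k⁻¹) by group,
      mul_assoc (z : G) (w : G), ← mul_assoc (w : G), hc.eq]
    group
  set U := f.range with hU
  have hf : ∀ {z : G} (hz : z ∈ ZY), z * (k * z * k⁻¹) ∈ U := fun {z} hz => ⟨⟨z, hz⟩, hfa _⟩
  have hUZ : U ≤ ZY := by
    rintro _ ⟨z, rfl⟩
    rw [hfa]
    exact ZY.mul_mem z.2 ((mem_normalizer_iff.mp hkZ _).mp z.2)
  have hfree : ∀ w ∈ U, Commute k w → w = 1 := by
    rintro _ ⟨⟨z, hz⟩, rfl⟩ hc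
    rw [hfa] at hc ⊢
    change Commute k (z * (k * z * k⁻¹)) at hc
    show z * (k * z * k⁻¹) = 1
    set w := k * z * k⁻¹ with hw
    have hwZ : w ∈ ZY := (mem_normalizer_iff.mp hkZ _).mp hz
    have e1 : w * (k * w * k⁻¹) = z * w := by
      rw [← mul_inv_eq_iff_eq_mul.mpr hc.eq]
      rw [hw]; group
    have e2 : k * w * k⁻¹ = z := by
      rw [show z * w = w * z from hcom hz hwZ] at e1
      exact mul_left_cancel e1
    have e4 : w = z := by
      calc w = k * (k * (k * z * k⁻¹) * k⁻¹) * k⁻¹ := by rw [← hw, e2]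
        _ = k * k * k * z * (k * k * k)⁻¹ := by group
        _ = z := by rw [hk3, one_mul, inv_one, mul_one]
    rw [e4, hsq hz]
  have hainva : ∀ z : G, a * (k * z * k⁻¹) * a⁻¹ = k⁻¹ * (a * z * a⁻¹) * k := fun z => by
    have e : a * k = k⁻¹ * a := by
      rw [← hak, mul_assoc _ a a, ha.tvL.1, mul_one]
    calc a * (k * z * k⁻¹) * a⁻¹ = (a * k) * z * (a * k)⁻¹ := by group
      _ = _ := by rw [e]; group
  have hkU : k ∈ normalizer (U : Set G) := by
    refine H61.mem_normalizer_of_conj_mem ?_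
    rintro _ ⟨⟨z, hz⟩, rfl⟩
    rw [hfa]
    show k * (z * (k * z * k⁻¹)) * k⁻¹ ∈ U
    rw [show k * (z * (k * z * k⁻¹)) * k⁻¹ = k * z * k⁻¹ * (k * (k * z * k⁻¹) * k⁻¹) by group]
    exact hf ((mem_normalizer_iff.mp hkZ _).mp hz)
  have haU : a ∈ normalizer (U : Set G) := by
    refine H61.mem_normalizer_of_conj_mem ?_
    rintro _ ⟨⟨z, hz⟩, rfl⟩
    rw [hfa]
    show a * (z * (k * z * k⁻¹)) * a⁻¹ ∈ U
    have hz' : a * z * a⁻¹ ∈ ZY := (mem_normalizer_iff.mp haZ _).mp hz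
    have hw : k⁻¹ * (a * z * a⁻¹) * k ∈ ZY := by
      have := (mem_normalizer_iff.mp (inv_mem hkZ) _).mp hz'
      rwa [inv_inv] at this
    rw [show a * (z * (k * z * k⁻¹)) * a⁻¹ = a * z * a⁻¹ * (a * (k * z * k⁻¹) * a⁻¹) by group,
      hainva z, hcom hz' hw]
    have := hf hw
    rwa [show k * (k⁻¹ * (a * z * a⁻¹) * k) * k⁻¹ = a * z * a⁻¹ by group] at this
  have hU4 : Nat.card U ≤ 4 := by
    refine small_module hA (hUZ.trans hZT)
      (hZe.mono hUZ) haA haU hkU (fun u _ => by rw [hk3]; exact Commute.one_left u)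
      hfree (fun u _ => hainva u) (B := B) hBA
      (fun b hb => H61.mem_normalizer_of_conj_mem fun u hu => by
        rw [(hBZ b hb u (hUZ hu)).eq, mul_inv_cancel_right]; exact hu)
      hAB (fun b hb u hu _ => hBZ b hb _ ((mem_normalizer_iff.mp hkZ u).mp (hUZ hu)))
  have hWU : W ≤ U := by
    intro v hv
    let g : W → W := fun w => ⟨(w : G) * (k * w * k⁻¹),
      W.mul_mem w.2 ((mem_normalizer_iff.mp hkW _).mp w.2)⟩
    have hg : Function.Injective g := by
      intro x y hxy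
      have e : (x : G) * (k * x * k⁻¹) = y * (k * y * k⁻¹) := congrArg Subtype.val hxy
      refine Subtype.ext ?_
      have hx' := hWV ((mem_normalizer_iff.mp hkW _).mp x.2)
      have hy' := hWV ((mem_normalizer_iff.mp hkW _).mp y.2)
      have hxy1 : (x : G) * y = 1 := by
        refine hWfix _ (W.mul_mem x.2 y.2) (mul_inv_eq_iff_eq_mul.mp ?_)
        calc k * ((x : G) * y) * k⁻¹ = (k * x * k⁻¹) * (k * y * k⁻¹) := by group
          _ = (x * x) * ((k * x * k⁻¹) * (k * y * k⁻¹)) := by rw [om_sq (hWV x.2), one_mul]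
          _ = x * (x * (k * x * k⁻¹)) * (k * y * k⁻¹) := by group
          _ = x * y * ((k * y * k⁻¹) * (k * y * k⁻¹)) := by rw [e]; group
          _ = _ := by rw [om_sq hy', mul_one]
      rw [← inv_eq_of_mul_eq_one_right hxy1, inv_eq_of_mul_eq_one_right (om_sq (hWV x.2))]
    obtain ⟨w, hw⟩ := Finite.injective_iff_surjective.mp hg ⟨v, hv⟩
    have := hf (hWZ w.2)
    rwa [show (w : G) * (k * w * k⁻¹) = v from congrArg Subtype.val hw] at this
  have hUW : U = W := (Subgroup.eq_of_le_of_card_ge hWU (by rw [hW4]; exact hU4)).symm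
  -- the image of `Z₀` is a line
  obtain ⟨φ, hφ⟩ : ∃ φ : zJ T →* G, ∀ z : zJ T, φ z = (z : G) * (k * z * k⁻¹) :=
    ⟨f.comp (Subgroup.inclusion hZ0), fun z => hfa (Subgroup.inclusion hZ0 z)⟩
  have hk2 : k⁻¹ = k * k := by rw [inv_eq_iff_mul_eq_one, ← mul_assoc, hk3]
  have hrange : φ.range ≤ zpowers (k⁻¹ * c * k) := by
    rintro _ ⟨⟨z, hz⟩, rfl⟩
    rw [hφ]
    show z * (k * z * k⁻¹) ∈ zpowers (k⁻¹ * c * k)
    set w := z * (k * z * k⁻¹) with hw
    have hwW : w ∈ W := hUW ▸ hf (hZ0 hz)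
    have hzJ : a * z * a⁻¹ = z := by rw [(mem_zJ_commute hz ha.mem_jay).eq, mul_inv_cancel_right]
    have haw : a * w * a⁻¹ = k⁻¹ * w * k := by
      have hk2 : k⁻¹ * z * k ∈ ZY := by
        have := (mem_normalizer_iff.mp (inv_mem hkZ) _).mp (hZ0 hz)
        rwa [inv_inv] at this
      calc a * w * a⁻¹ = a * z * a⁻¹ * (a * (k * z * k⁻¹) * a⁻¹) := by rw [hw]; group
        _ = z * (k⁻¹ * z * k) := by rw [hainva, hzJ]
        _ = (k⁻¹ * z * k) * z := hcom (hZ0 hz) hk2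
        _ = k⁻¹ * w * k := by rw [hw]; group
    have hwc : k * w * k⁻¹ = 1 ∨ k * w * k⁻¹ = c := by
      refine hline _ ((mem_normalizer_iff.mp hkW _).mp hwW) (mul_inv_eq_iff_eq_mul.mp ?_)
      rw [hainva, haw, hk2]
      calc k * k * (k * k * w * k) * k = (k * k * k) * (k * w * k * k) := by group
        _ = k * w * (k * k) := by rw [hk3, one_mul, mul_assoc (k * w)]
    rcases hwc with e | e
    · have : w = 1 := by
        calc w = k⁻¹ * (k * w * k⁻¹) * k := by group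
          _ = 1 := by rw [e, mul_one, inv_mul_cancel]
      rw [this]; exact one_mem _
    · have : w = k⁻¹ * c * k := by rw [← e]; group
      rw [this]; exact mem_zpowers _
  have hker : φ.ker.map (zJ T).subtype ≤ zJ T ⊓ centralizer ({k} : Set G) := by
    rintro _ ⟨z, hz, rfl⟩
    refine ⟨z.2, mem_centralizer_singleton_iff.mpr ?_⟩
    have e : (z : G) * (k * z * k⁻¹) = 1 := (hφ z).symm.trans hz
    have hkz : Commute k (z : G) := by
      refine mul_inv_eq_iff_eq_mul.mp ?_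
      rw [← inv_eq_of_mul_eq_one_right e, inv_eq_of_mul_eq_one_right (om_sq z.2)]
    exact hkz.eq.symm
  have h2 : Nat.card φ.range ≤ 2 := by
    refine (card_le_of_le hrange).trans ?_
    rw [Nat.card_zpowers]
    refine Nat.le_of_dvd two_pos (orderOf_dvd_of_pow_eq_one ?_)
    rw [pow_two]
    calc k⁻¹ * c * k * (k⁻¹ * c * k) = k⁻¹ * (c * c) * k := by group
      _ = 1 := by rw [om_sq (hWV hcW), mul_one, inv_mul_cancel]
  rw [← φ.ker.card_mul_index, index_ker, mul_comm 2]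
  refine Nat.mul_le_mul ?_ h2
  rw [← card_map_of_injective (zJ T).subtype_injective]
  exact card_le_of_le hker

set_option maxHeartbeats 1000000 in
/-- The centraliser of a component in `Z₀` has index at most two. -/
theorem LHyp.card_zJ_le {a : G} (ha : Adm L T a) :
    Nat.card (zJ T) ≤ 2 * Nat.card ↥(zJ T ⊓ centralizer (compOf L a : Set G) : Subgroup G) := by
  obtain ⟨k, hkL, hkK, hk3, hak, hkQ, hkd, hk1, hpiece⟩ := h.exists_k3 Z ha.tvL
  obtain ⟨c, hc1, hcW, hcJ, hline, -⟩ := h.exists_c Z ha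
  obtain ⟨A, hA, haA, -⟩ := id ha
  set S := h.setup Z
  set W := planeA L a with hW
  have hWV : W ≤ Vc L := planeA_le S ha.tvL
  have hW4 : Nat.card W = 4 := card_planeA S ha.tvL
  have haL := ha.tvL.mem
  have hainv := ha.tvL.inv_eq
  set Y := Cfsg.pCoreOf 2 L ⊔ (jay 2 T ⊓ centralizer (W : Set G)) with hY
  have hYT : Y ≤ T := sup_le (pCoreOf_le_sylowTwoIn h.syl) (inf_le_left.trans jay_le)
  have hWfix : ∀ w ∈ W, Commute k w → w = 1 := by
    intro w hw hkw
    rw [hW, planeA_eq S ha.tvL] at hw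
    obtain ⟨v, hv, rfl⟩ := hw
    have hfix : img L ⟨k, hkL⟩ • v = v := (img_smul_eq_iff _ v).mpr hkw
    have : v = 1 := by
      refine S.eq_one_of_dOf_fixed ha.tvL.tv ?_ hv
      rcases zpow3_cases (S.orderOf_dOf ha.tvL.tv) hkd with e | e | e
      · exact absurd e hk1
      · rwa [e] at hfix
      · rw [e, mul_smul] at hfix
        have h5 := congrArg (S.dOf ha.tvL.tv • ·) hfix
        simp only [S.dOf_cube ha.tvL.tv] at h5
        exact h5.symm
    simp [this]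
  have hkW : k ∈ normalizer (W : Set G) := Thompson.mem_normalizer_of_map_conj
    (cj_planeA_of_plStab (h.piece_le_plStab Z ha.tvL (oddCl_le _ hkK)) ha.tvL)
  have hcomm := h.comm_mem_core Z ha hkL hkK hk3 hkQ hpiece hc1 hcW hkW hWfix
  have hkY : k ∈ normalizer (Y : Set G) := H61.mem_normalizer_of_conj_mem fun x hx => by
    have hle : Y ≤ cj k⁻¹ Y := by
      refine sup_le (fun q hq => ?_) fun j hj => ?_
      · rw [mem_cj, inv_inv]
        exact mem_sup_left ((mem_normalizer_iff.mp (le_normalizer_pCoreOf L hkL) q).mp hq)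
      · rw [mem_cj, inv_inv, show k * j * k⁻¹ = k * j * k⁻¹ * j⁻¹ * j by
          rw [inv_mul_cancel_right]]
        exact mul_mem (mem_sup_left (hcomm j hj)) (mem_sup_right hj)
    have := hle hx
    rwa [mem_cj, inv_inv] at this
  have hJW : jay 2 T ≤ normalizer (W : Set G) := fun j hj =>
    Thompson.mem_normalizer_of_map_conj (cj_planeA_of_plStab (h.jay_le_plStab Z hj) ha.tvL)
  have haW : a ∈ normalizer (W : Set G) := hJW ha.mem_jay
  have haY : a ∈ normalizer (Y : Set G) := H61.mem_normalizer_of_conj_mem fun x hx => by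
    have hle : Y ≤ cj a⁻¹ Y := by
      refine sup_le (fun q hq => ?_) fun j hj => ?_
      · rw [mem_cj, inv_inv]
        exact mem_sup_left ((mem_normalizer_iff.mp (le_normalizer_pCoreOf L haL) q).mp hq)
      · rw [mem_cj, inv_inv]
        refine mem_sup_right ⟨(jay 2 T).mul_mem ((jay 2 T).mul_mem ha.mem_jay hj.1)
          ((jay 2 T).inv_mem ha.mem_jay), mem_centralizer_iff.mpr fun w hw => ?_⟩
        have hw' : a⁻¹ * w * a ∈ W := by
          have := (mem_normalizer_iff.mp (inv_mem haW) w).mp hw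
          rwa [inv_inv] at this
        calc w * (a * j * a⁻¹) = a * ((a⁻¹ * w * a) * j) * a⁻¹ := by group
          _ = a * (j * (a⁻¹ * w * a)) * a⁻¹ := by rw [mem_centralizer_iff.mp hj.2 _ hw']
          _ = a * j * a⁻¹ * w := by group
    have := hle hx
    rwa [mem_cj, inv_inv] at this
  -- `BW` is a largest elementary abelian subgroup inside `Y`
  set B := A ⊓ centralizer (W : Set G) with hB
  have hAB : ∀ x ∈ A, x ∈ B ∨ a * x ∈ B := h.adm_cover Z ha hA haA hcW hcJ hline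
  have hBWc : ∀ b ∈ B, ∀ w ∈ W, Commute b w := fun b hb w hw =>
    (mem_centralizer_iff.mp hb.2 w hw).symm
  have hWT : W ≤ T := hWV.trans (h.Vc_le Z)
  have hBW : B ⊔ W ∈ maxIn 2 T := by
    have hWe : IsAbExp 2 W := (isAbExp_om _).mono hWV
    have hab : IsAbExp 2 (B ⊔ W) := isAbExp_sup (hA.2.1.mono inf_le_left) hWe hBWc
    refine mem_maxIn_of_card_eq hA (sup_le (inf_le_left.trans hA.1) hWT) hab
      (le_antisymm (hA.2.2 _ (sup_le (inf_le_left.trans hA.1) hWT) hab) ?_)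
    have h1 := card_mul_le B W
    have h2 : Nat.card ↥(B ⊓ W : Subgroup G) ≤ 2 := by
      have hsub : ((B ⊓ W : Subgroup G) : Set G) ⊆ {1, c} := fun w hw =>
        hline w hw.2 (hA.2.1.comm haA hw.1.1)
      exact (Nat.card_mono (Set.toFinite _) hsub).trans (by
        rw [Nat.card_coe_set_eq]
        exact (Set.ncard_insert_le _ _).trans (by rw [Set.ncard_singleton]))
    have h3 := card_le_two_mul hAB
    rw [hW4] at h1
    have h4 := Nat.mul_le_mul_left (Nat.card ↥(B ⊔ W : Subgroup G)) h2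
    omega
  have hWY : W ≤ Y := hWV.trans ((om_le _).trans le_sup_left)
  have hBY : B ≤ Y := fun x hx => mem_sup_right ⟨le_jay hA hx.1, hx.2⟩
  have hBWY : B ⊔ W ≤ Y := sup_le hBY hWY
  have hjY : jay 2 Y ≤ jay 2 T := jay_le_jay_of_mem hBW hBWY hYT
  set ZY := Cfsg.omegaCenterOf (jay 2 Y) with hZY
  have hZ0 : zJ T ≤ ZY := fun z hz => by
    have hzA : z ∈ B ⊔ W := mem_of_commute hBW (jay_le (mem_om.mp hz).1) (mem_om.mp hz).2.2
      fun x hx => mem_zJ_commute hz (le_jay hBW hx)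
    exact mem_om.mpr ⟨le_jay (⟨hBWY, hBW.2.1, fun C hC hCe =>
      hBW.2.2 C (hC.trans hYT) hCe⟩ : B ⊔ W ∈ maxIn 2 Y) hzA, fun x hx => mem_zJ_commute hz (hjY hx),
      (mem_om.mp hz).2.2⟩
  have hBWY' : B ⊔ W ∈ maxIn 2 Y :=
    ⟨hBWY, hBW.2.1, fun C hC hCe => hBW.2.2 C (hC.trans hYT) hCe⟩
  have hWZ : W ≤ ZY := fun w hw => mem_om.mpr ⟨le_jay hBWY' (mem_sup_right hw), fun x hx => by
    have hxC : x ∈ centralizer ({w} : Set G) := by
      refine (show Y ≤ centralizer ({w} : Set G) from sup_le (fun q hq => ?_) fun j hj => ?_)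
        (jay_le hx)
      · exact mem_centralizer_singleton_iff.mpr
          (mem_centralizer_iff.mp (pCoreOf_le_Cn L hq).2 w (hWV hw)).symm
      · exact mem_centralizer_singleton_iff.mpr (mem_centralizer_iff.mp hj.2 w hw).symm
    exact (mem_centralizer_singleton_iff.mp hxC), (mem_om.mp (hWV hw)).2.2⟩
  have hkZ : k ∈ normalizer (ZY : Set G) :=
    normalizer_le_normalizer_om _ (normalizer_le_normalizer_jay 2 Y hkY)
  have haZ : a ∈ normalizer (ZY : Set G) :=
    normalizer_le_normalizer_om _ (normalizer_le_normalizer_jay 2 Y haY)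
  have hBZ : ∀ b ∈ B, ∀ u ∈ ZY, Commute b u := fun b hb u hu =>
    (mem_om.mp hu).2.1 b (le_jay hBWY' (mem_sup_left hb))
  refine (h.zJ_kernel_le Z ha hA haA inf_le_left hAB hk3 hak hWV hW4 hcW hline hkW hWfix
    (isAbExp_om _) ((om_le _).trans (jay_le.trans hYT)) hkZ haZ hZ0 hWZ hBZ).trans ?_
  refine Nat.mul_le_mul_left _ (card_le_of_le fun z hz => ⟨hz.1, ?_⟩)
  have hle : zpowers k ⊔ jay 2 T ≤ centralizer ({z} : Set G) :=
    sup_le (zpowers_le.mpr (mem_centralizer_singleton_iff.mpr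
      (mem_centralizer_singleton_iff.mp hz.2).symm)) (jay_le_centralizer_zJ hz.1)
  exact mem_centralizer_iff.mpr fun x hx =>
    mem_centralizer_singleton_iff.mp (hle (h.comp_le_sup Z ha hkK hkQ hx))

end

end Cfsg.Agent.H85.ZN
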