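import Cfsg.Agent.H85.ZN.Tv

/-!
The transvections of such a group: each lies in a subgroup `≅ S₃` acting on a plane, the planes
being independent.
-/

set_option autoImplicit false
set_option linter.style.haveILetI false
set_option linter.unusedSectionVars false

namespace Cfsg.Agent.H85.ZN

open Subgroup

variable {H V : Type*} [Group H] [CommGroup V] [MulDistribMulAction H V] [Finite H] [Finite V]

theorem pair_of_card_two {G : Type*} [Group G] {M : Subgroup G} (h : Nat.card M = 2) {c : G}
    (hc : c ∈ M) (hc1 : c ≠ 1) {x : G} (hx : x ∈ M) : x = 1 ∨ x = c := by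
  haveI : Finite M := Nat.finite_of_card_ne_zero (by omega)
  rcases eq_or_ne x 1 with h1 | h1
  · exact .inl h1
  refine .inr ?_
  by_contra hne
  letI := Fintype.ofFinite M
  classical
  have : ({(⟨1, one_mem M⟩ : M), ⟨c, hc⟩, ⟨x, hx⟩} : Finset M).card ≤ Fintype.card M :=
    Finset.card_le_univ _
  rw [← Nat.card_eq_fintype_card, h, Finset.card_insert_of_notMem (by simp [Ne.symm hc1, Ne.symm h1]),
    Finset.card_pair (by simp [Ne.symm hne])] at this
  omega

theorem card_sup_le {G : Type*} [CommGroup G] [Finite G] (A B : Subgroup G) :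
    Nat.card (A ⊔ B : Subgroup G) ≤ Nat.card A * Nat.card B := by
  rw [← Nat.card_prod]
  refine Nat.card_le_card_of_surjective (fun x : A × B => (⟨(x.1 : G) * x.2,
    mul_mem (mem_sup_left x.1.2) (mem_sup_right x.2.2)⟩ : (A ⊔ B : Subgroup G))) ?_
  rintro ⟨z, hz⟩
  obtain ⟨a, ha, b, hb, rfl⟩ := mem_sup.mp hz
  exact ⟨(⟨a, ha⟩, ⟨b, hb⟩), rfl⟩

variable (V) in
/-- The displacement group `[V, h]`. -/
def dispR (h : H) : Subgroup V := (disp V h).range

theorem disp_mem_dispR (h : H) (v : V) : disp V h v ∈ dispR V h := ⟨v, rfl⟩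

variable (S : Setup H V)
include S

theorem Setup.card_dispR {t : H} (ht : IsTv V t) : Nat.card (dispR V t) = 2 :=
  (card_disp_range S.hV t).trans ht

theorem Setup.exists_centre {t : H} (ht : IsTv V t) :
    ∃ c ∈ dispR V t, c ≠ 1 ∧ (∀ v, t • v = v ∨ t • v = v * c) ∧ t • c = c := by
  obtain ⟨c, hc, hc1⟩ := (Subgroup.nontrivial_iff_exists_ne_one _).mp
    (Finite.one_lt_card_iff_nontrivial.mp (by rw [S.card_dispR ht]; omega))
  have hval : ∀ v, t • v = v ∨ t • v = v * c := fun v => by
    rw [smul_eq_mul_disp S.hV t v]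
    rcases pair_of_card_two (S.card_dispR ht) hc hc1 (disp_mem_dispR t v) with h | h <;> simp [h]
  refine ⟨c, hc, hc1, hval, (hval c).resolve_right fun h => hc1 ?_⟩
  rw [S.hV] at h
  simpa using congrArg (t⁻¹ • ·) h

theorem Setup.tv_sq {t : H} (ht : IsTv V t) : t * t = 1 := by
  obtain ⟨c, -, -, hval, htc⟩ := S.exists_centre ht
  refine S.faith _ fun v => ?_
  rcases hval v with h | h <;> simp [mul_smul, h, smul_mul', htc, mul_assoc, S.hV]

theorem Setup.tv_ne_one {t : H} (ht : IsTv V t) : t ≠ 1 := by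
  rintro rfl
  have : fix V ({(1 : H)} : Set H) = ⊤ := eq_top_iff.mpr fun v _ => mem_fix_singleton.mpr (one_smul H v)
  rw [IsTv, this, index_top] at ht
  omega

theorem Setup.isTv_conj {t : H} (ht : IsTv V t) (g : H) : IsTv V (g * t * g⁻¹) := by
  have h : fix V ({g * t * g⁻¹} : Set H) =
      (fix V ({t} : Set H)).map (MulDistribMulAction.toMulAut H V g).toMonoidHom := by
    ext v
    rw [mem_map_equiv, mem_fix_singleton, mem_fix_singleton]
    change _ ↔ t • g⁻¹ • v = g⁻¹ • v
    rw [mul_smul, mul_smul]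
    constructor <;> intro e
    · conv_lhs => rw [← inv_smul_smul g (t • g⁻¹ • v), e]
    · rw [e, smul_inv_smul]
  rw [IsTv, h]
  exact (index_map_of_bijective (f := (MulDistribMulAction.toMulAut H V g).toMonoidHom)
    (MulDistribMulAction.toMulAut H V g).bijective _).trans ht

/-- A product of two transvections of odd order has order dividing three. -/
theorem Setup.mul_pow_three {t s : H} (ht : IsTv V t) (hs : IsTv V s)
    (hodd : Odd (orderOf (t * s))) : (t * s) ^ 3 = 1 := by
  obtain ⟨c, -, hc1, htv, htc⟩ := S.exists_centre ht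
  obtain ⟨d, -, hd1, hsv, hsd⟩ := S.exists_centre hs
  have h12 : (t * s) ^ 12 = 1 := by
    set u := t * s with hu
    have hcc := S.hV c
    have hdd := S.hV d
    have hx : ∀ v, u • v = v ∨ u • v = v * c ∨ u • v = v * d ∨ u • v = v * c * d := by
      intro v
      rw [hu, mul_smul]
      rcases hsv v with h | h <;> rw [h]
      · rcases htv v with h' | h' <;> simp [h']
      · rw [smul_mul']
        rcases htv v with h' | h' <;> rcases htv d with h'' | h'' <;> rw [h', h''] <;>
          simp [mul_assoc, mul_left_comm d c, hcc, mul_comm d c, mul_self_mul S.hV]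
    have huc : u • c = c ∨ u • c = c * d ∨ u • c = d := by
      rw [hu, mul_smul]
      rcases hsv c with h | h <;> rw [h]
      · exact .inl htc
      · rw [smul_mul', htc]
        rcases htv d with h' | h' <;> rw [h']
        · exact .inr (.inl rfl)
        · exact .inr (.inr (by rw [mul_comm d c, mul_self_mul S.hV]))
    have hud : u • d = d ∨ u • d = c * d := by
      rw [hu, mul_smul, hsd]
      rcases htv d with h | h
      · exact .inl h
      · exact .inr (by rw [h, mul_comm])
    -- on the span of the centres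
    have hW : ∀ x, x = 1 ∨ x = c ∨ x = d ∨ x = c * d →
        ((x * u • x) * u • u • (x * u • x)) * u • u • u • u • ((x * u • x) * u • u • (x * u • x)) *
          u • u • u • u • u • u • u • u • ((x * u • x) * u • u • (x * u • x)) = 1 := by
      intro x hx
      have hbad : ¬ (u • c = c * d ∧ u • d = c * d) := fun ⟨e1, e2⟩ => by
        have h := MulAction.injective u (e1.trans e2.symm)
        rw [h, S.hV] at e2
        exact hd1 (MulAction.injective u (e2.trans (smul_one u).symm))
      rcases huc with e1 | e1 | e1 <;> rcases hud with e2 | e2 <;>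
        first
          | exact (hbad ⟨e1, e2⟩).elim
          | (obtain rfl := MulAction.injective u (e1.trans e2.symm)
             rcases hx with rfl | rfl | rfl | rfl <;>
               simp [e2, smul_mul', mul_assoc, hcc, mul_self_mul S.hV])
          | rcases hx with rfl | rfl | rfl | rfl <;>
              simp [e1, e2, smul_mul', mul_assoc, mul_comm, mul_left_comm, hcc, hdd,
                mul_self_mul S.hV]
    refine S.faith _ fun v => ?_
    obtain ⟨x, hx, hxv⟩ : ∃ x, (x = 1 ∨ x = c ∨ x = d ∨ x = c * d) ∧ u • v = v * x := by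
      rcases hx v with h | h | h | h
      · exact ⟨1, .inl rfl, by simp [h]⟩
      · exact ⟨c, .inr (.inl rfl), h⟩
      · exact ⟨d, .inr (.inr (.inl rfl)), h⟩
      · exact ⟨c * d, .inr (.inr (.inr rfl)), by rw [h, mul_assoc]⟩
    have h2 : u • u • v = v * (x * u • x) := by rw [hxv, smul_mul', hxv, mul_assoc]
    set y := x * u • x with hy
    have h4 : u • u • u • u • v = v * (y * u • u • y) := by
      rw [h2, smul_mul', smul_mul', h2, mul_assoc]
    set z := y * u • u • y with hz
    have h8 : u • u • u • u • u • u • u • u • v = v * (z * u • u • u • u • z) := by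
      rw [h4]; simp only [smul_mul']; rw [h4, mul_assoc]
    rw [show (12 : ℕ) = 4 + 8 from rfl, pow_add]
    simp only [pow_succ', pow_zero, mul_one, mul_smul]
    rw [h8]
    simp only [smul_mul']
    rw [h4]
    have h := hW x hx
    rw [← hy, ← hz] at h
    simp only [mul_assoc] at h ⊢
    rw [h, mul_one]
  have h1 : orderOf (t * s) ∣ 12 := orderOf_dvd_of_pow_eq_one h12
  have h2 : (orderOf (t * s)).Coprime (2 ^ 2) :=
    Nat.Coprime.pow_right 2 (Nat.coprime_two_right.mpr hodd)
  exact orderOf_dvd_iff_pow_eq_one.mp (h2.dvd_of_dvd_mul_left (show _ ∣ 2 ^ 2 * 3 from h1))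

/-- For a transvection `t` the products `t * tᶠ`, `f ∈ F`, lie in one subgroup of order three. -/
theorem Setup.exists_three {t : H} (ht : IsTv V t) :
    ∃ d ∈ fittingSubgroup H, orderOf d = 3 ∧ t * d * t = d⁻¹ ∧
      (∀ f ∈ fittingSubgroup H, t * (f * t * f⁻¹) ∈ zpowers d) ∧
      (∀ f ∈ fittingSubgroup H, f * d = d * f) ∧
      (∃ f₁ ∈ fittingSubgroup H, d = t * (f₁ * t * f₁⁻¹)) := by
  set F := fittingSubgroup H with hF
  haveI : Fact (Nat.Prime 3) := ⟨Nat.prime_three⟩
  haveI := Cores.fittingSubgroup_isNilpotent (G := H)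
  have ht2 := S.tv_sq ht
  have htinv : t⁻¹ = t := inv_eq_of_mul_eq_one_right ht2
  have hmem : ∀ f ∈ F, t * (f * t * f⁻¹) ∈ F := fun f hf => by
    have := mul_mem ((inferInstance : F.Normal).conj_mem f hf t) (inv_mem hf)
    rw [htinv] at this
    simpa [mul_assoc] using this
  have hpow : ∀ f ∈ F, (t * (f * t * f⁻¹)) ^ 3 = 1 := fun f hf =>
    S.mul_pow_three ht (S.isTv_conj ht f) (S.odd_of_mem (hmem f hf))
  obtain ⟨f₁, hf₁, hne⟩ : ∃ f ∈ F, t * (f * t * f⁻¹) ≠ 1 := by
    by_contra hall
    push Not at hall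
    have hc : t ∈ centralizer (F : Set H) := mem_centralizer_iff.mpr fun f hf => by
      have := eq_inv_of_mul_eq_one_right (hall f hf)
      rw [htinv] at this
      exact mul_inv_eq_iff_eq_mul.mp this
    have := S.odd_of_mem (S.hC hc)
    have h2 : orderOf t = 2 := orderOf_eq_prime (by rw [pow_two, ht2]) (S.tv_ne_one ht)
    rw [h2] at this
    exact absurd this (by decide)
  set d := t * (f₁ * t * f₁⁻¹) with hd
  have hdF : d ∈ F := hmem f₁ hf₁
  have hd3 : orderOf d = 3 := orderOf_eq_prime (hpow f₁ hf₁) hne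
  have htd : t * d * t = d⁻¹ := by
    rw [hd]
    simp [mul_assoc, htinv]
    rw [← mul_assoc t t, ht2, one_mul]
  -- all products lie in `⟨d⟩`
  have hall : ∀ f ∈ F, t * (f * t * f⁻¹) ∈ zpowers d := by
    intro f hf
    by_contra hnot
    set e := t * (f * t * f⁻¹) with he
    have heF : e ∈ F := hmem f hf
    have he3 : orderOf e = 3 :=
      orderOf_eq_prime (hpow f hf) fun h => hnot (h ▸ one_mem _)
    obtain ⟨c, hc, -, htv, -⟩ := S.exists_centre ht
    obtain ⟨c₁, hc₁, -, h1v, -⟩ := S.exists_centre (S.isTv_conj ht f₁)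
    obtain ⟨c₂, hc₂, -, h2v, -⟩ := S.exists_centre (S.isTv_conj ht f)
    set U := zpowers c ⊔ zpowers c₁ ⊔ zpowers c₂ with hU
    have hzc : ∀ z : V, Nat.card (zpowers z) ≤ 2 := fun z => by
      rw [Nat.card_zpowers]
      exact Nat.le_of_dvd two_pos (orderOf_dvd_of_pow_eq_one (by rw [pow_two, S.hV]))
    have hU8 : Nat.card U ≤ 8 :=
      calc Nat.card U ≤ Nat.card (zpowers c ⊔ zpowers c₁ : Subgroup V) * Nat.card (zpowers c₂) :=
            card_sup_le _ _
        _ ≤ (Nat.card (zpowers c) * Nat.card (zpowers c₁)) * Nat.card (zpowers c₂) :=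
            Nat.mul_le_mul_right _ (card_sup_le _ _)
        _ ≤ 2 * 2 * 2 := Nat.mul_le_mul (Nat.mul_le_mul (hzc _) (hzc _)) (hzc _)
    -- `⟨d, e⟩` is a 3-group
    set Y := closure ({d, e} : Set H) with hY
    have hYF : Y ≤ F := (closure_le _).mpr (by rintro _ (rfl | rfl) <;> assumption)
    have hY3 : IsPGroup 3 Y := by
      let P : Sylow 3 F := default
      have hPn : (P : Subgroup F).Normal :=
        ((Group.isNilpotent_of_finite_tfae (G := F)).out 0 3 rfl rfl).mp
          (Cores.fittingSubgroup_isNilpotent (G := H)) 3 ⟨Nat.prime_three⟩ P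
      haveI := P.unique_of_normal hPn
      have hmemP : ∀ x, ∀ hx : x ∈ F, orderOf x = 3 → (⟨x, hx⟩ : F) ∈ (P : Subgroup F) := by
        intro x hx ho
        have hp : IsPGroup 3 (zpowers (⟨x, hx⟩ : F)) :=
          IsPGroup.of_card (n := 1) (by rw [Nat.card_zpowers, Subgroup.orderOf_mk, ho, pow_one])
        obtain ⟨Q, hQ⟩ := hp.exists_le_sylow
        rw [Subsingleton.elim Q P] at hQ
        exact hQ (mem_zpowers _)
      refine (P.isPGroup'.map F.subtype).to_le ((closure_le _).mpr ?_)
      rintro _ (rfl | rfl)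
      · exact ⟨⟨_, hdF⟩, hmemP _ hdF hd3, rfl⟩
      · exact ⟨⟨_, heF⟩, hmemP _ heF he3, rfl⟩
    have hd9 : 9 ≤ Nat.card Y := by
      obtain ⟨n, hn⟩ := hY3.exists_card_eq
      have hdY : zpowers d ≤ Y := zpowers_le.mpr (subset_closure (by simp))
      have h3 : Nat.card (zpowers d) < Nat.card Y := by
        refine lt_of_le_of_ne (card_le_of_le hdY) fun h => hnot ?_
        rw [Subgroup.eq_of_le_of_card_ge hdY h.ge]
        exact subset_closure (by simp)
      rw [Nat.card_zpowers, hd3, hn] at h3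
      rw [hn]
      have : 2 ≤ n := by
        by_contra hh
        interval_cases n <;> omega
      calc 9 = 3 ^ 2 := rfl
        _ ≤ 3 ^ n := Nat.pow_le_pow_right (by omega) this
    -- an abelian subgroup of order nine
    obtain ⟨E', hE'⟩ := Sylow.exists_subgroup_card_pow_prime 3 (n := 2) (G := Y) (by
      obtain ⟨n, hn⟩ := hY3.exists_card_eq
      rw [hn] at hd9 ⊢
      exact pow_dvd_pow 3 (by
        by_contra hh
        interval_cases n <;> omega))
    set E := E'.map Y.subtype with hE
    have hEY : E ≤ Y := map_subtype_le _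
    have hEcard : Nat.card E = 3 ^ 2 := by
      rw [hE, card_map_of_injective Y.subtype_injective, hE']
    have hEcomm : ∀ a b : E, a * b = b * a := IsPGroup.commutative_of_card_eq_prime_sq hEcard
    -- every element of `Y` moves vectors inside `U`
    have hdisp : ∀ y ∈ Y, ∀ v, v * y • v ∈ U := by
      have hgen : ∀ {a : H} {z : V}, z ∈ U → (∀ v, a • v = v ∨ a • v = v * z) →
          ∀ v, v * a • v ∈ U := fun {a z} hz h v => by
        rcases h v with e | e <;> rw [e]
        · rw [S.hV]; exact one_mem U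
        · rw [mul_self_mul S.hV]; exact hz
      have hmul : ∀ {a b : H}, (∀ v, v * a • v ∈ U) → (∀ v, v * b • v ∈ U) →
          ∀ v, v * (a * b) • v ∈ U := fun {a b} ha hb v => by
        have := mul_mem (hb v) (ha (b • v))
        rwa [mul_assoc, mul_self_mul S.hV, ← mul_smul] at this
      intro y hy
      induction hy using closure_induction with
      | mem x hx =>
        rcases hx with rfl | rfl
        · exact hmul (hgen (mem_sup_left (mem_sup_left (mem_zpowers c))) htv)
            (hgen (mem_sup_left (mem_sup_right (mem_zpowers c₁))) h1v)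
        · exact hmul (hgen (mem_sup_left (mem_sup_left (mem_zpowers c))) htv)
            (hgen (mem_sup_right (mem_zpowers c₂)) h2v)
      | one => intro v; simpa [S.hV] using one_mem U
      | mul a b _ _ ha hb => exact hmul ha hb
      | inv a _ ha =>
        intro v
        have := ha (a⁻¹ • v)
        rwa [smul_inv_smul, mul_comm] at this
    have hEU : ∀ y ∈ E, ∀ x ∈ U, y • x ∈ U := fun y hy x hx => by
      have := mul_mem hx (hdisp y (hEY hy) x)
      rwa [mul_self_mul S.hV] at this
    have hEodd : ∀ y ∈ E, Odd (orderOf y) := fun y hy => S.odd_of_mem (hYF (hEY hy))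
    -- no nontrivial element of `E` fixes `U`
    have hinj : ∀ y ∈ E, (∀ x ∈ U, y • x = x) → y = 1 := fun y hy h => S.faith y fun v =>
      smul_eq_self_of_disp_fixed S.hV (hEodd y hy) (h _ (hdisp y (hEY hy) v))
    letI : MulAction E U :=
      { smul := fun y x => ⟨(y : H) • (x : V), hEU y y.2 x x.2⟩
        one_smul := fun x => Subtype.ext (one_smul H (x : V))
        mul_smul := fun a b x => Subtype.ext (mul_smul (a : H) b (x : V)) }
    have hsmul : ∀ (y : E) (x : U), ((y • x : U) : V) = (y : H) • (x : V) := fun _ _ => rfl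
    -- fixed points of nontrivial elements are small
    have hsmall : ∀ y : E, y ≠ 1 → Nat.card {x : U // y • x = x} ≤ 2 := by
      intro y hy
      let Fy : Subgroup U :=
        { carrier := {x | y • x = x}
          one_mem' := Subtype.ext (by rw [hsmul]; exact smul_one _)
          mul_mem' := fun {a b} ha hb => Subtype.ext (by
            rw [hsmul, coe_mul, smul_mul', ← hsmul, ← hsmul, ha, hb])
          inv_mem' := fun {a} ha => Subtype.ext (by rw [hsmul, coe_inv, smul_inv', ← hsmul, ha]) }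
      change Nat.card Fy ≤ 2
      have hne : Fy ≠ ⊤ := fun h => hy (Subtype.ext (hinj y y.2 fun x hx => by
        have : (⟨x, hx⟩ : U) ∈ Fy := h ▸ mem_top _
        exact congrArg Subtype.val this))
      have hidx : 2 ≤ Fy.index := by
        have : Fy.index ≠ 0 := index_ne_zero_of_finite
        have : Fy.index ≠ 1 := fun h => hne (index_eq_one.mp h)
        omega
      have hmul := Fy.card_mul_index
      -- orbits of `⟨y⟩` of length three outside the fixed points
      have hp : IsPGroup 3 (zpowers y) := (hY3.to_le hEY).to_subgroup _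
      have hmod := hp.card_modEq_card_fixedPoints (α := U)
      have hfix : MulAction.fixedPoints (zpowers y) U = (Fy : Set U) := by
        ext x
        refine ⟨fun h => h ⟨y, mem_zpowers y⟩, fun h z => ?_⟩
        have : zpowers y ≤ MulAction.stabilizer E x :=
          zpowers_le.mpr (MulAction.mem_stabilizer_iff.mpr h)
        exact this z.2
      rw [hfix] at hmod
      change Nat.card U ≡ Nat.card Fy [MOD 3] at hmod
      obtain ⟨k, hk⟩ : ∃ k, Nat.card Fy = 2 ^ k := by
        have : IsPGroup 2 Fy := fun x => ⟨1, Subtype.ext (Subtype.ext (by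
          simpa [pow_two] using S.hV _))⟩
        exact this.exists_card_eq
      by_contra hgt
      have hU' : Nat.card Fy * 2 ≤ Nat.card U := hmul ▸ Nat.mul_le_mul_left _ hidx
      have hk2 : k = 2 := by
        rcases k with _ | _ | _ | k
        · simp only [pow_zero] at hk; omega
        · simp only [pow_one, zero_add] at hk; omega
        · rfl
        · have h8 : 8 ≤ Nat.card Fy := by
            rw [hk]
            calc 8 = 2 ^ 3 := rfl
              _ ≤ _ := Nat.pow_le_pow_right two_pos (by omega)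
          omega
      rw [hk2] at hk
      have hUc : Nat.card U = 8 := by omega
      rw [hUc, hk] at hmod
      exact absurd hmod (by decide)
    obtain ⟨y₀, hy₀⟩ : ∃ y : E, y ≠ 1 := by
      have : 1 < Nat.card E := by rw [hEcard]; omega
      haveI := Finite.one_lt_card_iff_nontrivial.mp this
      exact exists_ne 1
    -- a point with trivial stabiliser
    obtain ⟨x, hx⟩ : ∃ x : U, y₀ • x ≠ x := by
      by_contra hall
      push Not at hall
      exact hy₀ (Subtype.ext (hinj y₀ y₀.2 fun x hx => congrArg Subtype.val (hall ⟨x, hx⟩)))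
    have hfree : ∀ y : E, y • x = x → y = 1 := by
      intro y hyx
      by_contra hy1
      -- `y₀` fixes the fixed points of `y`
      have hstab : ∀ z : U, y • z = z → y₀ • z = z := by
        intro z hz
        have hfz : ∀ w : U, y • w = w → y • (y₀ • w) = y₀ • w := fun w hw => by
          rw [← mul_smul, hEcomm, mul_smul, hw]
        have h1 : y • (1 : U) = 1 := Subtype.ext (by rw [hsmul]; exact smul_one _)
        have h01 : y₀ • (1 : U) = 1 := Subtype.ext (by rw [hsmul]; exact smul_one _)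
        by_contra hne2
        have hz1 : z ≠ 1 := fun h => hne2 (h ▸ h01)
        have hy0z1 : y₀ • z ≠ 1 := fun h => hz1 (MulAction.injective y₀ (h.trans h01.symm))
        haveI : Finite {w : U // y • w = w} := inferInstance
        have h3 : 3 ≤ Nat.card {w : U // y • w = w} := by
          classical
          letI := Fintype.ofFinite {w : U // y • w = w}
          rw [Nat.card_eq_fintype_card]
          refine le_trans ?_ (Finset.card_le_univ
            ({⟨1, h1⟩, ⟨z, hz⟩, ⟨y₀ • z, hfz z hz⟩} : Finset {w : U // y • w = w}))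
          rw [Finset.card_insert_of_notMem (by simp [Ne.symm hz1, Ne.symm hy0z1]),
            Finset.card_pair (by simp [Ne.symm hne2])]
        have := hsmall y hy1
        omega
      exact hx (hstab x hyx)
    have hle : Nat.card E ≤ Nat.card U :=
      Nat.card_le_card_of_injective (fun y : E => y • x) fun a b (h : a • x = b • x) => by
        refine (inv_mul_eq_one.mp (hfree _ ?_)).symm
        rw [mul_smul, h, inv_smul_smul]
    omega
  refine ⟨d, hdF, hd3, htd, hall, ?_, f₁, hf₁, rfl⟩
  -- `⟨d⟩` is normalised, hence centralised, by `F`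
  intro f hf
  set D := zpowers d with hD
  have hconj : ∀ g ∈ F, g * d * g⁻¹ ∈ D := by
    intro g hg
    have h1 : g * d * g⁻¹ = (t * (g * t * g⁻¹))⁻¹ * (t * ((g * f₁) * t * (g * f₁)⁻¹)) ∨
        g * d * g⁻¹ ∈ D := .inl (by
      have htt : ∀ z, t * (t * z) = z := fun z => by rw [← mul_assoc, ht2, one_mul]
      simp [hd, mul_assoc, htinv, htt])
    rcases h1 with e | e
    · rw [e]; exact mul_mem (inv_mem (hall g hg)) (hall _ (mul_mem hg hf₁))
    · exact e
  have hcases : f * d * f⁻¹ = d ∨ f * d * f⁻¹ = d⁻¹ := by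
    obtain ⟨n, hn : d ^ n = f * d * f⁻¹⟩ := hconj f hf
    rw [← hn, ← zpow_mod_orderOf, hd3]
    have h1 : n % 3 = 0 ∨ n % 3 = 1 ∨ n % 3 = 2 := by omega
    push_cast
    rcases h1 with h | h | h <;> rw [h]
    · exfalso
      rw [← zpow_mod_orderOf, hd3] at hn
      push_cast at hn
      rw [h, zpow_zero] at hn
      exact hne (conj_eq_one_iff.mp hn.symm)
    · exact .inl (zpow_one d)
    · refine .inr (eq_inv_of_mul_eq_one_left ?_)
      rw [zpow_ofNat, ← pow_succ, show 2 + 1 = orderOf d from hd3.symm, pow_orderOf_eq_one]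
  rcases hcases with h | h
  · exact mul_inv_eq_iff_eq_mul.mp h
  · exfalso
    have h2 : ∀ n : ℕ, f ^ n * d * (f ^ n)⁻¹ = if Even n then d else d⁻¹ := by
      intro n
      induction n with
      | zero => simp
      | succ n ih =>
        calc f ^ (n + 1) * d * (f ^ (n + 1))⁻¹ = f * (f ^ n * d * (f ^ n)⁻¹) * f⁻¹ := by group
          _ = f * (if Even n then d else d⁻¹) * f⁻¹ := by rw [ih]
          _ = _ := by
            by_cases he : Even n
            · rw [if_pos he, if_neg (by simpa [Nat.even_add_one] using he), h]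
            · rw [if_neg he, if_pos (by simpa [Nat.even_add_one] using he)]
              have := congrArg (·⁻¹) h
              simpa [mul_assoc] using this
    have h3 := h2 (orderOf f)
    rw [pow_orderOf_eq_one, if_neg (Nat.not_even_iff_odd.mpr (S.odd_of_mem hf))] at h3
    have h4 : d * d = 1 := by
      rw [one_mul, inv_one, mul_one] at h3
      exact mul_eq_one_iff_eq_inv.mpr h3
    have : orderOf d ∣ 2 := orderOf_dvd_of_pow_eq_one (by rw [pow_two, h4])
    rw [hd3] at this
    exact absurd this (by decide)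

omit S

theorem fix_zpowers (d : H) : fix V (zpowers d : Set H) = fix V ({d} : Set H) := by
  rw [zpowers_eq_closure, fix_closure]

/-- A chosen element of order three attached to the transvection `t`. -/
noncomputable def Setup.dOf (S : Setup H V) {t : H} (ht : IsTv V t) : H :=
  (S.exists_three ht).choose

/-- The plane `[V, d]` of a transvection. -/
noncomputable def Setup.plane (S : Setup H V) {t : H} (ht : IsTv V t) : Subgroup V :=
  dispR V (S.dOf ht)

include S

variable {t s : H} (ht : IsTv V t) (hs : IsTv V s)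

theorem Setup.dOf_mem : S.dOf ht ∈ fittingSubgroup H := (S.exists_three ht).choose_spec.1

theorem Setup.orderOf_dOf : orderOf (S.dOf ht) = 3 := (S.exists_three ht).choose_spec.2.1

theorem Setup.tv_dOf : t * S.dOf ht * t = (S.dOf ht)⁻¹ := (S.exists_three ht).choose_spec.2.2.1

theorem Setup.mem_zpowers_dOf {f : H} (hf : f ∈ fittingSubgroup H) :
    t * (f * t * f⁻¹) ∈ zpowers (S.dOf ht) :=
  (S.exists_three ht).choose_spec.2.2.2.1 f hf

theorem Setup.commute_dOf {f : H} (hf : f ∈ fittingSubgroup H) :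
    Commute f (S.dOf ht) :=
  (S.exists_three ht).choose_spec.2.2.2.2.1 f hf

theorem Setup.exists_dOf : ∃ f ∈ fittingSubgroup H, S.dOf ht = t * (f * t * f⁻¹) :=
  (S.exists_three ht).choose_spec.2.2.2.2.2

theorem Setup.dOf_cases {d : H} (hd : orderOf d = 3) {x : H} (hx : x ∈ zpowers d) :
    x = 1 ∨ x = d ∨ x = d * d := by
  obtain ⟨n, rfl⟩ := hx
  show d ^ n = 1 ∨ d ^ n = d ∨ d ^ n = d * d
  rw [← zpow_mod_orderOf, hd]
  push_cast
  rcases (by omega : n % 3 = 0 ∨ n % 3 = 1 ∨ n % 3 = 2) with h | h | h <;> rw [h]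
  · exact .inl (zpow_zero d)
  · exact .inr (.inl (zpow_one d))
  · exact .inr (.inr (by rw [zpow_ofNat, pow_two]))

theorem Setup.eq_one_of_dOf_fixed {v : V} (h : S.dOf ht • v = v) (hv : v ∈ S.plane ht) : v = 1 := by
  obtain ⟨w, rfl⟩ := hv
  have := smul_eq_self_of_disp_fixed S.hV (S.odd_of_mem (S.dOf_mem ht)) (v := w) h
  rw [disp_apply, this, S.hV]

theorem Setup.dOf_smul_mem {v : V} (hv : v ∈ S.plane ht) : S.dOf ht • v ∈ S.plane ht := by
  obtain ⟨w, rfl⟩ := hv
  exact ⟨S.dOf ht • w, by rw [disp_apply, disp_apply, smul_mul']⟩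

theorem Setup.plane_inf_fix : S.plane ht ⊓ fix V ({S.dOf ht} : Set H) = ⊥ :=
  eq_bot_iff.mpr fun _ hv => mem_bot.mpr (S.eq_one_of_dOf_fixed ht (mem_fix_singleton.mp hv.2) hv.1)

theorem Setup.card_plane : Nat.card (S.plane ht) = 4 := by
  set d := S.dOf ht with hd
  obtain ⟨f, hf, hdf⟩ := S.exists_dOf ht
  obtain ⟨c, hc, hc1, hcv, -⟩ := S.exists_centre ht
  obtain ⟨c', hc', -, hcv', -⟩ := S.exists_centre (S.isTv_conj ht f)
  have hle : S.plane ht ≤ zpowers c ⊔ zpowers c' := by
    rintro _ ⟨v, rfl⟩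
    rw [disp_apply, hdf, mul_smul]
    rcases hcv' v with e | e <;> rw [e]
    · rcases hcv v with e' | e' <;> rw [e']
      · rw [S.hV]; exact one_mem _
      · rw [mul_self_mul S.hV]; exact mem_sup_left (mem_zpowers c)
    · rw [smul_mul']
      rcases hcv v with e' | e' <;> rw [e'] <;>
        rcases hcv c' with e'' | e'' <;> rw [e''] <;>
        simp only [mul_assoc, mul_self_mul S.hV]
      · exact mem_sup_right (mem_zpowers c')
      · exact mul_mem (mem_sup_right (mem_zpowers c')) (mem_sup_left (mem_zpowers c))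
      · exact mul_mem (mem_sup_left (mem_zpowers c)) (mem_sup_right (mem_zpowers c'))
      · exact mul_mem (mem_sup_left (mem_zpowers c))
          (mul_mem (mem_sup_right (mem_zpowers c')) (mem_sup_left (mem_zpowers c)))
  have hzc : ∀ z : V, Nat.card (zpowers z) ≤ 2 := fun z => by
    rw [Nat.card_zpowers]
    exact Nat.le_of_dvd two_pos (orderOf_dvd_of_pow_eq_one (by rw [pow_two, S.hV]))
  have hle4 : Nat.card (S.plane ht) ≤ 4 :=
    (card_le_of_le hle).trans ((card_sup_le _ _).trans (Nat.mul_le_mul (hzc c) (hzc c')))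
  -- three distinct nontrivial elements
  obtain ⟨v, hv⟩ : ∃ v, d • v ≠ v := by
    by_contra hall
    push Not at hall
    have h1 := S.orderOf_dOf ht
    rw [← hd, S.faith d hall, orderOf_one] at h1
    omega
  set w := disp V d v with hw
  have hwP : w ∈ S.plane ht := disp_mem_dispR d v
  have hw1 : w ≠ 1 := fun h => hv (mem_fix_singleton.mp ((disp_ker S.hV d).le h))
  have hdw : d • w ≠ w := fun h => hw1 (S.eq_one_of_dOf_fixed ht h hwP)
  have hdw1 : d • w ≠ 1 := fun h => hw1 (MulAction.injective d (h.trans (smul_one d).symm))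
  have hprod : w * d • w ≠ 1 := fun h => hdw (by
    simpa [mul_self_mul S.hV] using congrArg (w * ·) h)
  have h4 : 4 ≤ Nat.card (S.plane ht) := by
    classical
    letI := Fintype.ofFinite (S.plane ht)
    have hdwP := S.dOf_smul_mem ht hwP
    rw [Nat.card_eq_fintype_card]
    refine le_trans ?_ (Finset.card_le_univ
      ({⟨1, one_mem _⟩, ⟨w, hwP⟩, ⟨d • w, hdwP⟩, ⟨w * d • w, mul_mem hwP hdwP⟩} :
        Finset (S.plane ht)))
    rw [Finset.card_insert_of_notMem (by simp [Ne.symm hw1, Ne.symm hdw1, Ne.symm hprod]),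
      Finset.card_insert_of_notMem (by simp [Ne.symm hdw, hdw1]),
      Finset.card_pair (by simp [hw1])]
  omega

theorem Setup.plane_sup_fix : S.plane ht ⊔ fix V ({S.dOf ht} : Set H) = ⊤ := by
  refine eq_top_of_card_eq _ ?_
  have h1 := card_mul_index (fix V ({S.dOf ht} : Set H))
  rw [← disp_ker S.hV, index_ker] at h1
  rw [← h1, ← disp_ker S.hV]
  have hd : Disjoint (S.plane ht) (disp V (S.dOf ht)).ker := by
    rw [disp_ker S.hV, disjoint_iff]; exact S.plane_inf_fix ht
  let f : (S.plane ht) × (disp V (S.dOf ht)).ker →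
      (S.plane ht ⊔ (disp V (S.dOf ht)).ker : Subgroup V) := fun x =>
    ⟨(x.1 : V) * x.2, mul_mem (mem_sup_left x.1.2) (mem_sup_right x.2.2)⟩
  have hf : Function.Bijective f := ⟨fun a b h => by
      have h' : (a.1 : V) * a.2 = b.1 * b.2 := congrArg Subtype.val h
      have := mul_injective_of_disjoint hd h'
      exact this,
    fun ⟨z, hz⟩ => by
      obtain ⟨a, ha, b, hb, rfl⟩ := mem_sup.mp hz
      exact ⟨(⟨a, ha⟩, ⟨b, hb⟩), rfl⟩⟩
  rw [← Nat.card_eq_of_bijective f hf, Nat.card_prod, mul_comm]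
  rfl

theorem Setup.dOf_cube (v : V) : S.dOf ht • S.dOf ht • S.dOf ht • v = v := by
  rw [← mul_smul, ← mul_smul]
  have : S.dOf ht * S.dOf ht * S.dOf ht = 1 := by
    rw [← pow_three', ← S.orderOf_dOf ht, pow_orderOf_eq_one]
  rw [this, one_smul]

theorem Setup.tv_smul_dOf (v : V) : t • S.dOf ht • v = S.dOf ht • S.dOf ht • t • v := by
  have h1 : t * S.dOf ht = (S.dOf ht)⁻¹ * t := by
    rw [← S.tv_dOf ht, mul_assoc _ t t, S.tv_sq ht, mul_one]
  rw [← mul_smul, h1, mul_smul, inv_smul_eq_iff, S.dOf_cube ht]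

theorem Setup.tv_smul_mem_plane {v : V} (hv : v ∈ S.plane ht) : t • v ∈ S.plane ht := by
  obtain ⟨z, rfl⟩ := hv
  refine ⟨t • z * S.dOf ht • t • z, ?_⟩
  rw [disp_apply, disp_apply, smul_mul', smul_mul', S.tv_smul_dOf ht, mul_assoc,
    mul_self_mul S.hV]

theorem Setup.tv_centre_mem : ∃ c ∈ dispR V t, c ≠ 1 ∧ c ∈ S.plane ht ∧
    (∀ v : V, t • v = v ∨ t • v = v * c) ∧ t • c = c ∧
    ∀ v : V, S.dOf ht • v = v → t • v = v := by
  obtain ⟨c, hc, hc1, hcv, htc⟩ := S.exists_centre ht
  obtain ⟨w, hw, hwne⟩ : ∃ w ∈ S.plane ht, t • w ≠ w := by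
    by_contra hall
    push Not at hall
    obtain ⟨⟨w, hw⟩, hw1⟩ : ∃ w : S.plane ht, w ≠ 1 := by
      haveI := Finite.one_lt_card_iff_nontrivial.mp (by rw [S.card_plane ht]; omega : 1 < Nat.card (S.plane ht))
      exact exists_ne 1
    have h := S.tv_smul_dOf ht w
    rw [hall w hw, hall _ (S.dOf_smul_mem ht hw)] at h
    exact hw1 (Subtype.ext (S.eq_one_of_dOf_fixed ht (MulAction.injective _ h.symm) hw))
  have hcP : c ∈ S.plane ht := by
    have := mul_mem hw (S.tv_smul_mem_plane ht hw)
    rwa [(hcv w).resolve_left hwne, mul_self_mul S.hV] at this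
  refine ⟨c, hc, hc1, hcP, hcv, htc, fun v hv => (hcv v).resolve_right fun e => hc1 ?_⟩
  refine S.eq_one_of_dOf_fixed ht ?_ hcP
  have h := S.tv_smul_dOf ht v
  rw [hv, e, smul_mul', hv, smul_mul', hv] at h
  have h2 : c = S.dOf ht • S.dOf ht • c := mul_left_cancel h
  conv_lhs => rw [h2, S.dOf_cube ht]

theorem Setup.dispR_le_plane : dispR V t ≤ S.plane ht := by
  obtain ⟨c, hc, hc1, hcP, -⟩ := S.tv_centre_mem ht
  intro x hx
  rcases pair_of_card_two (S.card_dispR ht) hc hc1 hx with rfl | rfl
  · exact one_mem _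
  · exact hcP

theorem Setup.tv_fix_of_dOf_fix {v : V} (h : S.dOf ht • v = v) : t • v = v := by
  obtain ⟨c, -, -, -, -, -, hf⟩ := S.tv_centre_mem ht
  exact hf v h

/-- Two transvections with the same plane. -/
theorem Setup.eq_of_plane_eq (h : S.plane ht = S.plane hs) :
    S.dOf hs ∈ zpowers (S.dOf ht) ∧
      ∃ e ∈ zpowers (S.dOf ht), s = e * t * e⁻¹ := by
  set d := S.dOf ht with hd
  set d' := S.dOf hs with hd'
  have hcomm : Commute d' d := S.commute_dOf ht (S.dOf_mem hs)
  obtain ⟨⟨w, hw⟩, hw1'⟩ : ∃ w : S.plane ht, w ≠ 1 := by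
    haveI := Finite.one_lt_card_iff_nontrivial.mp (by rw [S.card_plane ht]; omega : 1 < Nat.card (S.plane ht))
    exact exists_ne 1
  have hw1 : w ≠ 1 := fun e => hw1' (Subtype.ext e)
  -- the plane is `1, w, d w, d² w`
  have hpl : ∀ x ∈ S.plane ht, x = 1 ∨ x = w ∨ x = d • w ∨ x = d • d • w := by
    intro x hx
    classical
    letI := Fintype.ofFinite (S.plane ht)
    have hdw := S.dOf_smul_mem ht hw
    have hddw := S.dOf_smul_mem ht hdw
    have n1 : d • w ≠ 1 := fun e => hw1 (MulAction.injective d (e.trans (smul_one d).symm))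
    have n2 : d • d • w ≠ 1 := fun e => n1 (MulAction.injective d (e.trans (smul_one d).symm))
    have n3 : d • w ≠ w := fun e => hw1 (S.eq_one_of_dOf_fixed ht e hw)
    have n4 : d • d • w ≠ w := fun e => n3 (by
      have := congrArg (d • ·) e
      simp only [hd, S.dOf_cube ht] at this
      exact this.symm)
    have n5 : d • d • w ≠ d • w := fun e => n3 (MulAction.injective d e)
    by_contra hno
    simp only [not_or] at hno
    have := Finset.card_le_univ ({⟨1, one_mem _⟩, ⟨w, hw⟩, ⟨d • w, hdw⟩, ⟨d • d • w, hddw⟩,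
      ⟨x, hx⟩} : Finset (S.plane ht))
    rw [← Nat.card_eq_fintype_card, S.card_plane ht,
      Finset.card_insert_of_notMem (by simp [Ne.symm hw1, Ne.symm n1, Ne.symm n2, Ne.symm hno.1]),
      Finset.card_insert_of_notMem (by simp [Ne.symm n3, Ne.symm n4, Ne.symm hno.2.1]),
      Finset.card_insert_of_notMem (by simp [Ne.symm n5, Ne.symm hno.2.2.1]),
      Finset.card_pair (by simp [Ne.symm hno.2.2.2])] at this
    omega
  have hdec : ∀ v, ∃ x ∈ S.plane ht, ∃ u, d • u = u ∧ d' • u = u ∧ x * u = v := by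
    intro v
    obtain ⟨x, hx, u, hu, hxu⟩ := mem_sup.mp (S.plane_sup_fix ht ▸ mem_top v)
    refine ⟨x, hx, u, mem_fix_singleton.mp hu, ?_, hxu⟩
    have h1 : d • d' • u = d' • u := by
      rw [← mul_smul, ← hcomm.eq, mul_smul, mem_fix_singleton.mp hu]
    have h2 : u * d' • u ∈ S.plane ht := h ▸ disp_mem_dispR d' u
    have h3 := S.eq_one_of_dOf_fixed ht
      (by rw [smul_mul', ← hd, mem_fix_singleton.mp hu, h1]) h2
    calc d' • u = u * (u * d' • u) := (mul_self_mul S.hV _ _).symm
      _ = u := by rw [h3, mul_one]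
  -- an element agreeing on the plane and fixing the complement
  have hagree : ∀ g₁ g₂ : H, (∀ u : V, d • u = u → d' • u = u → g₁ • u = g₂ • u) →
      g₁ • w = g₂ • w → g₁ • d • w = g₂ • d • w → g₁ = g₂ := by
    intro g₁ g₂ hu e1 e2
    refine inv_mul_eq_one.mp (S.faith _ fun v => ?_)
    obtain ⟨x, hx, u, hu1, hu2, rfl⟩ := hdec v
    have hprod : d • d • w = w * d • w := by
      rcases hpl _ (mul_mem hw (S.dOf_smul_mem ht hw)) with e | e | e | e
      · exact absurd (by simpa [mul_self_mul S.hV, hd] using congrArg (w * ·) e) fun e' : d • w = w =>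
          hw1 (S.eq_one_of_dOf_fixed ht e' hw)
      · exact absurd ((mul_eq_left (a := w)).mp e) fun e' : d • w = 1 =>
          hw1 (MulAction.injective d (e'.trans (smul_one d).symm))
      · exact absurd ((mul_eq_right (b := d • w)).mp e) hw1
      · exact e.symm
    have hx' : g₁ • x = g₂ • x := by
      rcases hpl x hx with rfl | rfl | rfl | rfl
      · rw [smul_one, smul_one]
      · exact e1
      · exact e2
      · rw [hprod, smul_mul', smul_mul', e1, e2]
    rw [mul_smul, inv_smul_eq_iff, smul_mul', smul_mul', hx', hu u hu1 hu2]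
  have hdw' : d' • d • w = d • d' • w := by rw [← mul_smul, hcomm.eq, mul_smul]
  have hzd : ∀ k ∈ zpowers d, ∀ u : V, d • u = u → k • u = u := fun k hk u hu =>
    (zpowers_le.mpr (MulAction.mem_stabilizer_iff.mpr hu) : zpowers d ≤ MulAction.stabilizer H u) hk
  have hd'mem : d' ∈ zpowers d := by
    have hd'w : d' • w ∈ S.plane ht := h ▸ S.dOf_smul_mem hs (h ▸ hw)
    obtain ⟨k, hk, hkw⟩ : ∃ k ∈ zpowers d, d' • w = k • w := by
      rcases hpl _ hd'w with e | e | e | e
      · exact absurd (MulAction.injective d' (e.trans (smul_one d').symm)) hw1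
      · exact ⟨1, one_mem _, by rw [e, one_smul]⟩
      · exact ⟨d, mem_zpowers d, e⟩
      · exact ⟨d * d, mul_mem (mem_zpowers d) (mem_zpowers d), by rw [e, mul_smul]⟩
    rw [hagree d' k (fun u hu hu' => by rw [hu', hzd k hk u hu]) hkw (by
      rw [hdw', hkw, ← mul_smul, ← mul_smul]
      obtain ⟨n, rfl⟩ := hk
      rw [((Commute.refl d).zpow_right n).eq])]
    exact hk
  refine ⟨hd'mem, ?_⟩
  -- move the centre of `t` to that of `s`
  obtain ⟨c, -, hc1, hcP, -, htc, -⟩ := S.tv_centre_mem ht
  obtain ⟨c', -, hc'1, hc'P, -, hsc', -⟩ := S.tv_centre_mem hs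
  rw [← h] at hc'P
  obtain ⟨e, he, hec⟩ : ∃ e ∈ zpowers d, e • c = c' := by
    have horb : ∀ x ∈ S.plane ht, x ≠ 1 → ∃ e ∈ zpowers d, e • w = x := by
      intro x hx hx1
      rcases hpl x hx with e | e | e | e
      · exact absurd e hx1
      · exact ⟨1, one_mem _, by rw [e, one_smul]⟩
      · exact ⟨d, mem_zpowers d, e.symm⟩
      · exact ⟨d * d, mul_mem (mem_zpowers d) (mem_zpowers d), by rw [e, mul_smul]⟩
    obtain ⟨e₁, he₁, h₁⟩ := horb c hcP hc1
    obtain ⟨e₂, he₂, h₂⟩ := horb c' hc'P hc'1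
    exact ⟨e₂ * e₁⁻¹, mul_mem he₂ (inv_mem he₁), by rw [mul_smul, ← h₁, inv_smul_smul, h₂]⟩
  refine ⟨e, he, ?_⟩
  -- both are involutions inverting `d` and fixing `c'`
  set t' := e * t * e⁻¹ with ht'
  have hed : Commute e d := by
    obtain ⟨n, rfl⟩ := he
    exact (Commute.refl d).zpow_left n
  have ht'c : t' • c' = c' := by rw [ht', mul_smul, mul_smul, ← hec, inv_smul_smul, htc]
  have ht'd : ∀ v : V, t' • d • v = d • d • t' • v := by
    intro v
    rw [ht']
    simp only [mul_smul]
    rw [← mul_smul e⁻¹ d, hed.inv_left.eq, mul_smul, S.tv_smul_dOf ht, ← hd, ← mul_smul e d,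
      hed.eq, mul_smul, ← mul_smul e d, hed.eq, mul_smul]
  have hsd : ∀ v : V, s • d • v = d • d • s • v := by
    intro v
    have hd'd : d = d' ∨ d = d' * d' := by
      rcases S.dOf_cases (S.orderOf_dOf ht) hd'mem with e0 | e0 | e0
      · exact absurd (congrArg orderOf e0) (by rw [hd', S.orderOf_dOf hs, orderOf_one]; omega)
      · exact .inl e0.symm
      · refine .inr ?_
        have h3 : d * d * d = 1 := by rw [← pow_three', ← S.orderOf_dOf ht, ← hd, pow_orderOf_eq_one]
        rw [e0, show d * d * (d * d) = d * d * d * d by simp only [mul_assoc], h3, one_mul]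
    rcases hd'd with e0 | e0 <;> rw [e0]
    · exact S.tv_smul_dOf hs v
    · simp only [mul_smul]
      rw [S.tv_smul_dOf hs, S.tv_smul_dOf hs]
  have hc'w : ∃ k ∈ zpowers d, k • c' = w := by
    rcases hpl c' hc'P with e0 | e0 | e0 | e0
    · exact absurd e0 hc'1
    · exact ⟨1, one_mem _, by rw [e0, one_smul]⟩
    · exact ⟨d * d, mul_mem (mem_zpowers d) (mem_zpowers d), by rw [e0, mul_smul, hd, S.dOf_cube ht]⟩
    · exact ⟨d, mem_zpowers d, by rw [e0, hd, S.dOf_cube ht]⟩
  obtain ⟨k, hk, hkc⟩ := hc'w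
  have hkey : s • w = t' • w := by
    rw [← hkc]
    rcases S.dOf_cases (S.orderOf_dOf ht) hk with rfl | rfl | rfl
    · rw [one_smul, hsc', ht'c]
    · rw [hsd, ht'd, hsc', ht'c]
    · simp only [mul_smul]
      rw [hsd, hsd, ht'd, ht'd, hsc', ht'c]
  refine hagree s t' (fun u hu hu' => ?_) hkey ?_
  · rw [S.tv_fix_of_dOf_fix hs hu', ht', mul_smul, mul_smul,
      hzd e⁻¹ (inv_mem he) u hu, S.tv_fix_of_dOf_fix ht hu, hzd e he u hu]
  · rw [hsd, ht'd, hkey]

/-- Transvections with different planes commute and centralise each other's planes. -/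
theorem Setup.of_plane_ne (h : S.plane ht ≠ S.plane hs) :
    (∀ v ∈ S.plane hs, S.dOf ht • v = v ∧ t • v = v) ∧ Commute t s ∧ Commute t (S.dOf hs) ∧
      Commute (S.dOf ht) (S.dOf hs) := by
  have key : ∀ {t s : H} (ht : IsTv V t) (hs : IsTv V s), S.plane ht ≠ S.plane hs →
      ∀ v ∈ S.plane hs, S.dOf ht • v = v ∧ t • v = v := by
    intro t s ht hs h v hv
    have hcomm : Commute (S.dOf ht) (S.dOf hs) := S.commute_dOf hs (S.dOf_mem ht)
    have hpres : ∀ x ∈ S.plane hs, S.dOf ht • x ∈ S.plane hs := by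
      rintro _ ⟨z, rfl⟩
      refine ⟨S.dOf ht • z, ?_⟩
      rw [disp_apply, disp_apply, smul_mul', ← mul_smul, ← mul_smul, hcomm.eq]
    have hfix : S.dOf ht • v = v := by
      by_contra hne
      -- then the planes coincide
      apply h
      have hm : v * S.dOf ht • v ∈ S.plane ht ⊓ S.plane hs :=
        ⟨disp_mem_dispR _ v, mul_mem hv (hpres v hv)⟩
      have hm1 : v * S.dOf ht • v ≠ 1 := fun e => hne (by
        simpa [mul_self_mul S.hV] using congrArg (v * ·) e)
      have hm' : S.dOf ht • (v * S.dOf ht • v) ∈ S.plane ht ⊓ S.plane hs :=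
        ⟨S.dOf_smul_mem ht hm.1, hpres _ hm.2⟩
      have hm'1 : S.dOf ht • (v * S.dOf ht • v) ≠ v * S.dOf ht • v := fun e =>
        hm1 (S.eq_one_of_dOf_fixed ht e hm.1)
      have h3 : 3 ≤ Nat.card (S.plane ht ⊓ S.plane hs : Subgroup V) := by
        classical
        letI := Fintype.ofFinite (S.plane ht ⊓ S.plane hs : Subgroup V)
        rw [Nat.card_eq_fintype_card]
        refine le_trans ?_ (Finset.card_le_univ
          ({⟨1, one_mem _⟩, ⟨_, hm⟩, ⟨_, hm'⟩} : Finset (S.plane ht ⊓ S.plane hs : Subgroup V)))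
        rw [Finset.card_insert_of_notMem (by
            simp only [Finset.mem_insert, Finset.mem_singleton, Subtype.mk.injEq, not_or]
            exact ⟨Ne.symm hm1, fun e => hm1 (MulAction.injective _ (e.symm.trans (smul_one _).symm))⟩),
          Finset.card_pair (by simpa only [Ne, Subtype.mk.injEq] using Ne.symm hm'1)]
      have hd1 : Nat.card (S.plane ht ⊓ S.plane hs : Subgroup V) ∣ 4 :=
        S.card_plane ht ▸ card_dvd_of_le inf_le_left
      have h4 : Nat.card (S.plane ht ⊓ S.plane hs : Subgroup V) = 4 := by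
        have := Nat.le_of_dvd (by omega) hd1
        interval_cases hh : Nat.card (S.plane ht ⊓ S.plane hs : Subgroup V) <;> omega
      have e1 := Subgroup.eq_of_le_of_card_ge (inf_le_left : S.plane ht ⊓ S.plane hs ≤ S.plane ht)
        (by rw [h4, S.card_plane ht])
      have e2 := Subgroup.eq_of_le_of_card_ge (inf_le_right : S.plane ht ⊓ S.plane hs ≤ S.plane hs)
        (by rw [h4, S.card_plane hs])
      exact e1.symm.trans e2
    exact ⟨hfix, S.tv_fix_of_dOf_fix ht hfix⟩
  obtain ⟨c, -, -, hcP, hcv, -, -⟩ := S.tv_centre_mem ht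
  obtain ⟨c', -, -, hc'P, hc'v, -, -⟩ := S.tv_centre_mem hs
  have htc' := (key ht hs h c' hc'P).2
  have hsc := (key hs ht (Ne.symm h) c hcP).2
  have hdc := (key hs ht (Ne.symm h) c hcP).1
  refine ⟨key ht hs h, inv_mul_eq_one.mp (S.faith _ fun v => ?_), inv_mul_eq_one.mp
    (S.faith _ fun v => ?_), S.commute_dOf hs (S.dOf_mem ht)⟩
  · rw [mul_smul, inv_smul_eq_iff, mul_smul, mul_smul]
    rcases hcv v with a | a <;> rcases hc'v v with b | b <;>
      simp [a, b, smul_mul', htc', hsc, mul_assoc, mul_comm c c']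
  · rw [mul_smul, inv_smul_eq_iff, mul_smul, mul_smul]
    have hdv : t • (v * S.dOf hs • v) = v * S.dOf hs • v :=
      (key ht hs h _ (disp_mem_dispR _ v)).2
    rw [smul_mul'] at hdv
    rcases hcv v with a | a <;> rw [a] at hdv ⊢
    · exact ((mul_right_inj v).mp hdv).symm
    · rw [smul_mul', hdc]
      have h2 : c * t • S.dOf hs • v = S.dOf hs • v := mul_left_cancel (mul_assoc v c _ ▸ hdv)
      have h3 := congrArg (c * ·) h2
      simp only [mul_self_mul S.hV] at h3
      rw [h3, mul_comm c]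

/-- Conjugation of the data. -/
theorem Setup.plane_conj (g : H) (hg : IsTv V (g * t * g⁻¹)) :
    S.dOf hg ∈ zpowers (g * S.dOf ht * g⁻¹) ∧
      ∀ v, v ∈ S.plane hg ↔ g⁻¹ • v ∈ S.plane ht := by
  obtain ⟨f, hf, hdf⟩ := S.exists_dOf ht
  have hf' : g * f * g⁻¹ ∈ fittingSubgroup H :=
    (inferInstance : (fittingSubgroup H).Normal).conj_mem f hf g
  have hmem := S.mem_zpowers_dOf hg hf'
  rw [show g * t * g⁻¹ * (g * f * g⁻¹ * (g * t * g⁻¹) * (g * f * g⁻¹)⁻¹) =
    g * S.dOf ht * g⁻¹ by rw [hdf]; group] at hmem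
  have hord : orderOf (g * S.dOf ht * g⁻¹) = 3 := by
    rw [← MulAut.conj_apply, MulEquiv.orderOf_eq, S.orderOf_dOf ht]
  have heq : zpowers (g * S.dOf ht * g⁻¹) = zpowers (S.dOf hg) :=
    Subgroup.eq_of_le_of_card_ge (zpowers_le.mpr hmem)
      (by rw [Nat.card_zpowers, Nat.card_zpowers, hord, S.orderOf_dOf hg])
  have h1 : S.dOf hg ∈ zpowers (g * S.dOf ht * g⁻¹) := heq ▸ mem_zpowers _
  have hR : ∀ {x : H}, x ∈ zpowers (g * S.dOf ht * g⁻¹) → orderOf x = 3 →
      dispR V x = dispR V (g * S.dOf ht * g⁻¹) := by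
    intro x hx ho
    rcases S.dOf_cases hord hx with e | e | e
    · exact absurd ho (by rw [e, orderOf_one]; omega)
    · rw [e]
    · set y := g * S.dOf ht * g⁻¹
      have hyy : y * y = y⁻¹ := eq_inv_of_mul_eq_one_left (by
        rw [← pow_three', ← hord, pow_orderOf_eq_one])
      rw [e, hyy]
      ext z
      constructor <;> rintro ⟨v, rfl⟩
      · exact ⟨y⁻¹ • v, by rw [disp_apply, disp_apply, smul_inv_smul, mul_comm]⟩
      · exact ⟨y • v, by rw [disp_apply, disp_apply, inv_smul_smul, mul_comm]⟩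
  refine ⟨h1, fun v => ?_⟩
  rw [Setup.plane, hR h1 (S.orderOf_dOf hg)]
  constructor
  · rintro ⟨w, rfl⟩
    exact ⟨g⁻¹ • w, by rw [disp_apply, disp_apply, smul_mul', mul_smul, mul_smul, inv_smul_smul]⟩
  · rintro ⟨w, hw⟩
    refine ⟨g • w, ?_⟩
    rw [disp_apply] at hw ⊢
    rw [mul_smul, mul_smul, inv_smul_smul, ← smul_mul', hw, smul_inv_smul]

end Cfsg.Agent.H85.ZN
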