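import Cfsg.Agent.H85.ZN.Basic
import Cfsg.Agent.H85.ZN.Planes
import Cfsg.Agent.Cores.PSolvable

/-!
A subgroup `L` with `C_G(O₂(L)) ≤ O₂(L)` in a ZN-group: its action on `V = Ω₁Z(O₂(L))`.
-/

set_option autoImplicit false
set_option linter.style.haveILetI false
set_option linter.unusedSectionVars false

namespace Cfsg.Agent.H85.ZN

open Subgroup Cfsg.Agent.Thompson

variable {G : Type*} [Group G] [Finite G]

/-- `V = Ω₁Z(O₂(L))`. -/
abbrev Vc (L : Subgroup G) : Subgroup G := Cfsg.omegaCenterOf (Cfsg.pCoreOf 2 L)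

theorem le_normalizer_Vc (L : Subgroup G) : L ≤ normalizer (Vc L : Set G) :=
  (le_normalizer_pCoreOf L).trans (normalizer_le_normalizer_om _)

theorem conj_mem_Vc {L : Subgroup G} {l v : G} (hl : l ∈ L) (hv : v ∈ Vc L) :
    l * v * l⁻¹ ∈ Vc L :=
  (mem_normalizer_iff.mp (le_normalizer_Vc L hl) v).mp hv

instance actVc (L : Subgroup G) : MulDistribMulAction ↥L ↥(Vc L) where
  smul l v := ⟨(l : G) * v * (l : G)⁻¹, conj_mem_Vc l.2 v.2⟩
  one_smul v := Subtype.ext (by show (1 : G) * v * 1⁻¹ = v; simp)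
  mul_smul a b v := Subtype.ext (by
    show (a : G) * b * v * ((a : G) * b)⁻¹ = (a : G) * ((b : G) * v * (b : G)⁻¹) * (a : G)⁻¹
    group)
  smul_mul a v w := Subtype.ext (by
    show (a : G) * (v * w) * (a : G)⁻¹ = (a : G) * v * (a : G)⁻¹ * ((a : G) * w * (a : G)⁻¹)
    group)
  smul_one a := Subtype.ext (by show (a : G) * 1 * (a : G)⁻¹ = 1; simp)

theorem coe_smul_Vc {L : Subgroup G} (l : L) (v : Vc L) :
    ((l • v : Vc L) : G) = (l : G) * v * (l : G)⁻¹ := rfl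

/-- The action homomorphism. -/
noncomputable def rho (L : Subgroup G) : ↥L →* MulAut ↥(Vc L) :=
  MulDistribMulAction.toMulAut ↥L ↥(Vc L)

/-- The acting group `L/C_L(V)`. -/
noncomputable abbrev Hq (L : Subgroup G) : Subgroup (MulAut ↥(Vc L)) := (rho L).range

/-- The image in the acting group. -/
noncomputable abbrev img (L : Subgroup G) : ↥L →* ↥(Hq L) := (rho L).rangeRestrict

theorem img_smul {L : Subgroup G} (l : L) (v : Vc L) : img L l • v = l • v := rfl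

theorem img_eq_one_iff {L : Subgroup G} {l : L} :
    img L l = 1 ↔ ∀ v ∈ Vc L, Commute (l : G) v := by
  constructor
  · intro h v hv
    have h1 := congrArg Subtype.val (img_smul l (⟨v, hv⟩ : Vc L))
    rw [h, one_smul, coe_smul_Vc] at h1
    exact (mul_inv_eq_iff_eq_mul.mp h1.symm)
  · intro h
    refine Subtype.ext (MulEquiv.ext fun v => Subtype.ext ?_)
    show (l : G) * v * (l : G)⁻¹ = v
    rw [(h v v.2).eq, mul_inv_cancel_right]

theorem img_smul_eq_iff {L : Subgroup G} (l : L) (v : Vc L) :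
    img L l • v = v ↔ Commute (l : G) v := by
  rw [img_smul, Subtype.ext_iff, coe_smul_Vc, mul_inv_eq_iff_eq_mul]; rfl

theorem Vc_elem {L : Subgroup G} (v : Vc L) : v * v = 1 := Subtype.ext (om_sq v.2)

/-- `C_L(V)`. -/
abbrev Cn (L : Subgroup G) : Subgroup G := L ⊓ centralizer (Vc L : Set G)

theorem mem_Cn {L : Subgroup G} {x : G} (hx : x ∈ L) :
    x ∈ Cn L ↔ img L ⟨x, hx⟩ = 1 := by
  rw [img_eq_one_iff, mem_inf, mem_centralizer_iff]
  exact ⟨fun h v hv => (h.2 v hv).symm, fun h => ⟨hx, fun v hv => (h v hv).symm⟩⟩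

theorem conj_mem_Cn {L : Subgroup G} {l c : G} (hl : l ∈ L) (hc : c ∈ Cn L) :
    l * c * l⁻¹ ∈ Cn L := by
  have hm : l * c * l⁻¹ ∈ L := L.mul_mem (L.mul_mem hl hc.1) (L.inv_mem hl)
  rw [mem_Cn hm, show (⟨l * c * l⁻¹, hm⟩ : L) = ⟨l, hl⟩ * ⟨c, hc.1⟩ * ⟨l, hl⟩⁻¹ from rfl,
    map_mul, map_mul, (mem_Cn hc.1).mp hc, mul_one, map_inv, mul_inv_cancel]

theorem pCoreOf_le_Cn (L : Subgroup G) : Cfsg.pCoreOf 2 L ≤ Cn L := fun x hx =>
  ⟨pCoreOf_le 2 L hx, mem_centralizer_iff.mpr fun v hv => ((mem_om.mp hv).2.1 x hx).eq.symm⟩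

/-- `L` has characteristic 2 inside `G` and Sylow 2-subgroup `T`. -/
structure LHyp (L T : Subgroup G) : Prop where
  syl : Cfsg.IsSylowTwoIn T L
  cent : centralizer (Cfsg.pCoreOf 2 L : Set G) ≤ Cfsg.pCoreOf 2 L

section

variable {L T : Subgroup G} (Z : ZHyp G) (h : LHyp L T)
include Z h

theorem LHyp.congr {T' : Subgroup G} (hT' : Cfsg.IsSylowTwoIn T' L) : LHyp L T' := ⟨hT', h.cent⟩

theorem LHyp.pCoreOf_ne_bot : Cfsg.pCoreOf 2 L ≠ ⊥ := by
  intro hbot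
  have htop : centralizer ((Cfsg.pCoreOf 2 L : Subgroup G) : Set G) = ⊤ := by
    rw [hbot, eq_top_iff]
    exact fun x _ => mem_centralizer_iff.mpr fun y hy => by
      rw [mem_bot.mp hy, one_mul, mul_one]
  have h1 := h.cent
  rw [htop, hbot, top_le_iff] at h1
  have h2 := Z.char2.1
  rw [← Subgroup.card_top (G := G), ← h1, card_bot] at h2
  exact absurd h2 (by decide)

theorem LHyp.isSolvable : Group.IsSolvable ↥L := by
  have hN : Cfsg.IsTwoLocal (normalizer (Cfsg.pCoreOf 2 L : Set G)) :=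
    ⟨_, isPGroup_pCoreOf L, h.pCoreOf_ne_bot Z, rfl⟩
  haveI := Z.solv _ hN
  exact Group.isSolvable_of_isSolvable_injective (f := Subgroup.inclusion (le_normalizer_pCoreOf L))
    (Subgroup.inclusion_injective _)

/-- `Ω₁Z(S) ≤ V` for a Sylow 2-subgroup `S` of `G` containing `T`. -/
theorem LHyp.om_sylow_le {S : Sylow 2 G} (hS : T ≤ (S : Subgroup G)) :
    Cfsg.omegaCenterOf (S : Subgroup G) ≤ Vc L := by
  intro z hz
  obtain ⟨-, hc, h2⟩ := mem_om.mp hz
  have hQS : Cfsg.pCoreOf 2 L ≤ (S : Subgroup G) := (pCoreOf_le_sylowTwoIn h.syl).trans hS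
  exact mem_om.mpr ⟨h.cent (mem_centralizer_iff.mpr fun q hq => (hc q (hQS hq)).eq),
    fun q hq => hc q (hQS hq), h2⟩

/-- `C_L(V)` normalises every Sylow 2-subgroup of `L`. -/
theorem LHyp.Cn_le_normalizer : Cn L ≤ normalizer (T : Set G) := by
  obtain ⟨S, hS⟩ := h.syl.2.1.exists_le_sylow
  intro c hc
  have hcS : c ∈ normalizer ((S : Subgroup G) : Set G) :=
    Z.zc S (centralizer_le (h.om_sylow_le Z hS) hc.2)
  have hT : (S : Subgroup G) ⊓ L = T :=
    sylowTwoIn_eq_of_le h.syl (S.isPGroup'.to_le inf_le_left) inf_le_right (le_inf hS h.syl.1)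
  refine H61.mem_normalizer_of_conj_mem fun x hx => ?_
  rw [← hT] at hx ⊢
  exact ⟨(mem_normalizer_iff.mp hcS x).mp hx.1,
    L.mul_mem (L.mul_mem hc.1 hx.2) (L.inv_mem hc.1)⟩

/-- A 2-subgroup of `C_L(V)` lies in every Sylow 2-subgroup. -/
theorem LHyp.two_le_of_le_Cn {R : Subgroup G} (hR : IsPGroup 2 R) (hRC : R ≤ Cn L) : R ≤ T := by
  haveI : Fact (Nat.Prime 2) := ⟨Nat.prime_two⟩
  rw [← sylowTwoIn_eq_of_le h.syl (hR.to_sup_of_normal_right' h.syl.2.1 (hRC.trans (h.Cn_le_normalizer Z)))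
    (sup_le (hRC.trans inf_le_left) h.syl.1) le_sup_right]
  exact le_sup_left

omit h in
/-- A 2-subgroup contained in every Sylow 2-subgroup of `L` lies in `O₂(L)`. -/
theorem le_pCoreOf_of_forall_sylow {L R : Subgroup G} (hR : IsPGroup 2 R) (hRL : R ≤ L)
    (hall : ∀ T', Cfsg.IsSylowTwoIn T' L → R ≤ T') : R ≤ Cfsg.pCoreOf 2 L := by
  obtain ⟨T0, hT0, -⟩ := exists_sylowTwoIn hR hRL
  set I : Subgroup G := ⨅ T' ∈ {T' : Subgroup G | Cfsg.IsSylowTwoIn T' L}, T' with hI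
  have hI0 : I ≤ T0 := iInf₂_le T0 hT0
  refine (le_iInf₂ fun T' hT' => hall T' hT').trans
    (le_pCoreOf (hT0.2.1.to_le hI0) (hI0.trans hT0.1) fun l hl => ?_)
  refine H61.mem_normalizer_of_conj_mem fun x hx => ?_
  rw [mem_iInf] at hx ⊢
  intro T'
  rw [mem_iInf]
  intro hT'
  have hT'' : Cfsg.IsSylowTwoIn (cj l⁻¹ T') L := by
    have h1 := sylowTwoIn_cj (show Cfsg.IsSylowTwoIn T' L from hT') l⁻¹
    rwa [cj_of_mem_normalizer (Subgroup.le_normalizer (L.inv_mem hl))] at h1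
  have := mem_iInf.mp (hx (cj l⁻¹ T')) hT''
  rw [mem_cj, inv_inv] at this
  exact this

/-- A 2-element of `C_L(V)` lies in `O₂(L)`. -/
theorem LHyp.mem_core_of_two {c : G} (hc : c ∈ Cn L) (k : ℕ) (hk : c ^ 2 ^ k = 1) :
    c ∈ Cfsg.pCoreOf 2 L := by
  have h2 : IsPGroup 2 (zpowers c) := fun x => by
    obtain ⟨n, hn⟩ := mem_zpowers_iff.mp x.2
    refine ⟨k, Subtype.ext ?_⟩
    rw [coe_pow, coe_one, ← hn, ← zpow_natCast (c ^ n), ← zpow_mul, mul_comm, zpow_mul,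
      zpow_natCast, hk, one_zpow]
  exact (le_pCoreOf_of_forall_sylow Z h2 (zpowers_le.mpr hc.1)
    fun T' hT' => (h.congr Z hT').two_le_of_le_Cn Z h2 (zpowers_le.mpr hc)) (mem_zpowers c)

theorem LHyp.sylow_inf_Cn : T ⊓ Cn L = Cfsg.pCoreOf 2 L :=
  le_antisymm
    (le_pCoreOf_of_forall_sylow Z (h.syl.2.1.to_le inf_le_left) (inf_le_left.trans h.syl.1)
      fun T' hT' => (h.congr Z hT').two_le_of_le_Cn Z (h.syl.2.1.to_le inf_le_left) inf_le_right)
    (le_inf (pCoreOf_le_sylowTwoIn h.syl) (pCoreOf_le_Cn L))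

omit Z h in
/-- The subgroup of `L` generated by its 2-elements. -/
def gen2 (L : Subgroup G) : Subgroup G := closure {g | g ∈ L ∧ ∃ k : ℕ, g ^ 2 ^ k = 1}

omit Z h in
theorem gen2_le (L : Subgroup G) : gen2 L ≤ L := (closure_le _).mpr fun _ hg => hg.1

omit Z h in
theorem two_le_gen2 {L R : Subgroup G} (hR : IsPGroup 2 R) (hRL : R ≤ L) : R ≤ gen2 L :=
  fun x hx => subset_closure ⟨hRL hx, by
    obtain ⟨k, hk⟩ := hR ⟨x, hx⟩
    exact ⟨k, congrArg Subtype.val hk⟩⟩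

/-- Elements generated by 2-elements centralise `C_L(V)` modulo `O₂(L)`. -/
theorem LHyp.comm_gen2 {g c : G} (hg : g ∈ gen2 L) (hc : c ∈ Cn L) :
    g * c * g⁻¹ * c⁻¹ ∈ Cfsg.pCoreOf 2 L := by
  induction hg using closure_induction generalizing c with
  | mem g hg =>
    obtain ⟨k, hk⟩ := hg.2
    have h2 : IsPGroup 2 (zpowers g) := fun x => by
      obtain ⟨n, hn⟩ := mem_zpowers_iff.mp x.2
      refine ⟨k, Subtype.ext ?_⟩
      rw [coe_pow, coe_one, ← hn, ← zpow_natCast (g ^ n), ← zpow_mul, mul_comm, zpow_mul,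
        zpow_natCast, hk, one_zpow]
    obtain ⟨T', hT', hgT⟩ := exists_sylowTwoIn h2 (zpowers_le.mpr hg.1)
    have hgT' : g ∈ T' := hgT (mem_zpowers g)
    rw [← (h.congr Z hT').sylow_inf_Cn Z]
    refine ⟨?_, mul_mem (conj_mem_Cn hg.1 hc) ((Cn L).inv_mem hc)⟩
    have := (mem_normalizer_iff.mp ((h.congr Z hT').Cn_le_normalizer Z hc) g⁻¹).mp (inv_mem hgT')
    simpa [mul_assoc] using T'.mul_mem hgT' this
  | one => simpa using (Cfsg.pCoreOf 2 L).one_mem
  | mul a b ha hb iha ihb =>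
    have h1 := iha (conj_mem_Cn (gen2_le L hb) hc)
    have h2 := ihb hc
    simpa [mul_assoc] using (Cfsg.pCoreOf 2 L).mul_mem h1 h2
  | inv a ha iha =>
    have h1 := (Cfsg.pCoreOf 2 L).inv_mem (iha (conj_mem_Cn (L.inv_mem (gen2_le L ha)) hc))
    simpa [mul_assoc] using h1

/-- `C_L(V)/O₂(L)` has odd order: square roots. -/
theorem LHyp.mem_core_of_sq {c : G} (hc : c ∈ Cn L) (hcq : c * c ∈ Cfsg.pCoreOf 2 L) :
    c ∈ Cfsg.pCoreOf 2 L := by
  obtain ⟨k, hk⟩ := isPGroup_pCoreOf L ⟨c * c, hcq⟩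
  refine h.mem_core_of_two Z hc (k + 1) ?_
  rw [pow_succ', pow_mul, pow_two]
  exact congrArg Subtype.val hk

omit Z in
theorem LHyp.img_sylow :
    Cfsg.IsSylowTwoIn ((T.subgroupOf L).map (img L)) (⊤ : Subgroup (Hq L)) := by
  refine ⟨le_top, ((h.syl.2.1.comap_of_injective L.subtype L.subtype_injective).map _), ?_⟩
  rw [relIndex_top_right]
  exact Odd.of_dvd_nat h.syl.2.2 (index_map_dvd _ (rho L).rangeRestrict_surjective)

/-- `O₂(L/C_L(V)) = 1`. -/
theorem LHyp.pCore_Hq : Cfsg.pCore 2 (Hq L) = ⊥ := by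
  haveI : Fact (Nat.Prime 2) := ⟨Nat.prime_two⟩
  rw [Subgroup.eq_bot_iff_forall]
  intro r hr
  obtain ⟨x, rfl⟩ := (rho L).rangeRestrict_surjective r
  -- replace `x` by a 2-element with the same image
  obtain ⟨j, hj⟩ := H61.isPGroup_pCore (G := Hq L) ⟨img L x, hr⟩
  have hj' : img L x ^ 2 ^ j = 1 := congrArg Subtype.val hj
  obtain ⟨n, m, hm, hnm⟩ := Nat.exists_eq_pow_mul_and_not_dvd (orderOf_pos x).ne' 2 (by omega)
  suffices hy : img L (x ^ m) = 1 by
    have h1 : orderOf (img L x) ∣ m := orderOf_dvd_of_pow_eq_one (by rw [← map_pow, hy])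
    have h2 : orderOf (img L x) ∣ 2 ^ j := orderOf_dvd_of_pow_eq_one hj'
    exact orderOf_eq_one_iff.mp (Nat.eq_one_of_dvd_coprimes
      (Nat.Coprime.pow_right j ((Nat.prime_two.coprime_iff_not_dvd).mpr hm).symm) h1 h2)
  set y := x ^ m with hy
  have hy2 : (y : G) ^ 2 ^ n = 1 := by
    rw [hy, Subgroup.coe_pow, ← pow_mul, mul_comm, ← hnm, ← Subgroup.orderOf_coe, pow_orderOf_eq_one]
  have hyR : IsPGroup 2 (zpowers (y : G)) := fun z => by
    obtain ⟨i, hi⟩ := mem_zpowers_iff.mp z.2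
    refine ⟨n, Subtype.ext ?_⟩
    rw [coe_pow, coe_one, ← hi, ← zpow_natCast ((y : G) ^ i), ← zpow_mul, mul_comm, zpow_mul,
      zpow_natCast, hy2, one_zpow]
  have hyO : img L y ∈ Cfsg.pCore 2 (Hq L) := by
    rw [hy, map_pow]; exact Subgroup.pow_mem _ hr m
  rw [← mem_Cn y.2]
  refine pCoreOf_le_Cn L (le_pCoreOf_of_forall_sylow Z hyR (zpowers_le.mpr y.2) (fun T' hT' => ?_)
    (mem_zpowers (y : G)))
  -- `O₂` lies in the image of `T'`
  have himg := (h.congr Z hT').img_sylow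
  have hle : Cfsg.pCore 2 (Hq L) ≤ (T'.subgroupOf L).map (img L) := by
    refine le_sylowTwoIn himg H61.isPGroup_pCore le_top ?_
    intro w _
    rw [normalizer_eq_top_iff.mpr (Cfsg.pCore_normal 2 (Hq L))]
    exact mem_top w
  obtain ⟨t, ht, hty⟩ := hle hyO
  set c := (t : G)⁻¹ * y with hc
  have hcC : c ∈ Cn L := by
    have hm' : c ∈ L := L.mul_mem (L.inv_mem t.2) y.2
    rw [mem_Cn hm', show (⟨c, hm'⟩ : L) = t⁻¹ * y from rfl, map_mul, map_inv, hty, inv_mul_cancel]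
  have hyN : (y : G) ∈ normalizer (T' : Set G) := by
    rw [show (y : G) = (t : G) * c by rw [hc, mul_inv_cancel_left]]
    exact mul_mem (Subgroup.le_normalizer ht) ((h.congr Z hT').Cn_le_normalizer Z hcC)
  rw [← sylowTwoIn_eq_of_le hT' (hyR.to_sup_of_normal_right' hT'.2.1 (zpowers_le.mpr hyN))
    (sup_le (zpowers_le.mpr y.2) hT'.1) le_sup_right]
  exact le_sup_left

theorem LHyp.setup : Setup ↥(Hq L) ↥(Vc L) := by
  haveI := h.isSolvable Z
  exact Setup.of_pCore (Group.isSolvable_of_surjective (rho L).rangeRestrict_surjective) Vc_elem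
    (fun g hg => Subtype.ext (MulEquiv.ext fun v => hg v)) (h.pCore_Hq Z)

theorem LHyp.Hq_solvable : Group.IsSolvable ↥(Hq L) := by
  haveI := h.isSolvable Z
  exact Group.isSolvable_of_surjective (rho L).rangeRestrict_surjective

end

end Cfsg.Agent.H85.ZN
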