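import Cfsg.Agent.H85.ZN.Lift

/-!
Maximal straddling 2-subgroups.
-/

set_option autoImplicit false
set_option linter.style.haveILetI false
set_option linter.unusedSectionVars false

namespace Cfsg.Agent.H85.ZN

open Subgroup Cfsg.Agent.Thompson

variable {G : Type*} [Group G] [Finite G]

theorem exists_normalizer_gt {R P : Subgroup G} (hP : IsPGroup 2 P) (hlt : R < P) :
    R < P ⊓ normalizer (R : Set G) := by
  haveI : Fact (Nat.Prime 2) := ⟨Nat.prime_two⟩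
  haveI : Group.IsNilpotent P := hP.isNilpotent
  have h1 : R.subgroupOf P < ⊤ := lt_of_le_of_ne le_top fun e => hlt.not_ge (subgroupOf_eq_top.mp e)
  have h2 := Group.normalizerCondition_of_isNilpotent _ h1
  obtain ⟨x, hxN, hxR⟩ := SetLike.exists_of_lt h2
  refine lt_of_le_of_ne (le_inf hlt.le le_normalizer) fun e => hxR ?_
  rw [mem_subgroupOf, e]
  refine ⟨x.2, H61.mem_normalizer_of_conj_mem fun y hy => ?_⟩
  exact (mem_normalizer_iff.mp hxN ⟨y, hlt.le hy⟩).mp hy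

/-- The standing hypotheses on `M` and `S`. -/
structure MHyp (M : Subgroup G) (S : Sylow 2 G) : Prop where
  zn : ZHyp G
  core : Cfsg.pCore 2 G = ⊥
  loc : Cfsg.IsTwoLocal M
  nj : normalizer (jay 2 (S : Subgroup G) : Set G) ≤ M

section

variable {M : Subgroup G} {S : Sylow 2 G} {T : Subgroup G}

theorem straddle_of {R L : Subgroup G} (h2 : IsPGroup 2 R) (hne : R ≠ ⊥) (hM : R ≤ M)
    (hL : Cfsg.IsTwoLocal L) (hRL : R ≤ L) (hLM : ¬ L ≤ M) :
    R ∈ Cfsg.straddlingTwoSubgroups M := ⟨h2, hne, hM, L, hL, hRL, hLM⟩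

theorem isTwoLocal_normalizer {R : Subgroup G} (h2 : IsPGroup 2 R) (hne : R ≠ ⊥) :
    Cfsg.IsTwoLocal (normalizer (R : Set G)) := ⟨R, h2, hne, rfl⟩

theorem max_eq (hT : T ∈ Cfsg.maxStraddlingTwoSubgroups M) {R : Subgroup G}
    (hR : R ∈ Cfsg.straddlingTwoSubgroups M) (hle : jay 2 T ≤ R) :
    jay 2 R = jay 2 T ∧ Nat.card R ≤ Nat.card T := by
  obtain ⟨h1, h2⟩ := hT.2 R hR
  simp only [tJ_eq] at h2
  have he : Cfsg.maxElemAbelianOrder R = Cfsg.maxElemAbelianOrder T :=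
    le_antisymm h1 (maxElemAbelianOrder_mono hle)
  obtain ⟨h3, h4⟩ := h2 he
  have heq : jay 2 T = jay 2 R := Subgroup.eq_of_le_of_card_ge (jay_le_jay hle he.le) h3
  exact ⟨heq.symm, h4 (by rw [heq])⟩

theorem jay_ne_bot_of_max (hT : T ∈ Cfsg.maxStraddlingTwoSubgroups M) : jay 2 T ≠ ⊥ :=
  jay_ne_bot hT.1.1 hT.1.2.1

variable (H : MHyp M S)
include H

theorem MHyp.sylow_le : (S : Subgroup G) ≤ M :=
  le_normalizer.trans ((normalizer_le_normalizer_jay 2 _).trans H.nj)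

/-- The normaliser of `J(T)` lies in `M`. -/
theorem MHyp.normalizer_jay_le (hT : T ∈ Cfsg.maxStraddlingTwoSubgroups M) :
    normalizer (jay 2 T : Set G) ≤ M := by
  by_contra hNM
  have hT2 := hT.1.1
  have hTM := hT.1.2.2.1
  have hmax : ∀ R : Subgroup G, IsPGroup 2 R → T ≤ R → R ≤ M →
      R ≤ normalizer (jay 2 T : Set G) → R = T := by
    intro R hR hTR hRM hRN
    have hRs : R ∈ Cfsg.straddlingTwoSubgroups M :=
      straddle_of hR (fun e => hT.1.2.1 (le_bot_iff.mp (e ▸ hTR))) hRM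
        (isTwoLocal_normalizer (hT2.to_le jay_le) (jay_ne_bot_of_max hT)) hRN hNM
    exact (Subgroup.eq_of_le_of_card_ge hTR (max_eq hT hRs (jay_le.trans hTR)).2).symm
  obtain ⟨T2, hT2s, hTT2⟩ := exists_sylowTwoIn hT2 hTM
  have hsyl : T2 = T := by
    by_contra hne
    have hlt := exists_normalizer_gt hT2s.2.1 (lt_of_le_of_ne hTT2 (Ne.symm hne))
    exact hlt.ne' (hmax _ (hT2s.2.1.to_le inf_le_left) hlt.le (inf_le_left.trans hT2s.1)
      (inf_le_right.trans (normalizer_le_normalizer_jay 2 T)))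
  rw [hsyl] at hT2s
  obtain ⟨l, hl, hle⟩ := sylowTwoIn_conj hT2s S.isPGroup' H.sylow_le
  have heq : (S : Subgroup G) = cj l T := by
    obtain ⟨P, hP⟩ := hT2.exists_le_sylow
    refine Subgroup.eq_of_le_of_card_ge hle ?_
    rw [card_cj]
    exact (card_le_of_le hP).trans (by rw [Sylow.card_eq_multiplicity, Sylow.card_eq_multiplicity])
  refine hNM fun x hx => ?_
  have hlx : l * x * l⁻¹ ∈ M := H.nj (by
    rw [heq, jay_cj]
    refine Thompson.mem_normalizer_of_map_conj ?_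
    rw [← cj, ← cj_mul, show l * x * l⁻¹ * l = l * x by group, cj_mul, cj_of_mem_normalizer hx])
  simpa [mul_assoc] using M.mul_mem (M.mul_mem (M.inv_mem hl) hlx) hl

/-- The 2-local overgroups of `J(T)` outside `M`. -/
theorem MHyp.local_outside (hT : T ∈ Cfsg.maxStraddlingTwoSubgroups M) {L T₀ : Subgroup G}
    (hL2 : Cfsg.IsTwoLocal L) (hLM : ¬ L ≤ M) (hT₀ : Cfsg.IsSylowTwoIn T₀ L)
    (hJ : jay 2 T ≤ T₀) :
    jay 2 T₀ = jay 2 T ∧ T₀ ∈ Cfsg.straddlingTwoSubgroups M ∧ LHyp L T₀ ∧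
      ¬ jay 2 T ≤ Cfsg.pCoreOf 2 L := by
  have hNJ := H.normalizer_jay_le hT
  have hne := jay_ne_bot_of_max hT
  set T1 := T₀ ⊓ normalizer (jay 2 T : Set G) with hT1
  have hJT1 : jay 2 T ≤ T1 := le_inf hJ le_normalizer
  have hT1s : T1 ∈ Cfsg.straddlingTwoSubgroups M :=
    straddle_of (hT₀.2.1.to_le inf_le_left) (fun e => hne (le_bot_iff.mp (e ▸ hJT1)))
      (inf_le_right.trans hNJ) hL2 (inf_le_left.trans hT₀.1) hLM
  have hJ1 : jay 2 T1 = jay 2 T := (max_eq hT hT1s hJT1).1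
  have heq : T1 = T₀ := by
    by_contra h
    have hlt := exists_normalizer_gt hT₀.2.1 (lt_of_le_of_ne inf_le_left h)
    refine hlt.not_ge (le_inf inf_le_left ?_)
    exact inf_le_right.trans ((normalizer_le_normalizer_jay 2 T1).trans (by rw [hJ1]))
  rw [heq] at hJ1 hT1s
  obtain ⟨R, hR2, hRne, rfl⟩ := hL2
  have hl : LHyp (normalizer (R : Set G)) T₀ := ⟨hT₀, H.zn.cent_normalizer hR2 hRne⟩
  refine ⟨hJ1, hT1s, hl, fun hle => hLM ?_⟩
  have hJQ : jay 2 (Cfsg.pCoreOf 2 (normalizer (R : Set G))) = jay 2 T := by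
    rw [← hJ1] at hle ⊢
    exact jay_eq_of_le hle (pCoreOf_le_sylowTwoIn hT₀)
  exact (le_normalizer_pCoreOf _).trans
    ((normalizer_le_normalizer_jay 2 _).trans (hJQ ▸ hNJ))

theorem MHyp.overgroup (hT : T ∈ Cfsg.maxStraddlingTwoSubgroups M) {L : Subgroup G}
    (hL2 : Cfsg.IsTwoLocal L) (hLM : ¬ L ≤ M) (hTL : T ≤ L) :
    LHyp L T ∧ ¬ jay 2 T ≤ Cfsg.pCoreOf 2 L := by
  obtain ⟨T₀, hT₀, hTT₀⟩ := exists_sylowTwoIn hT.1.1 hTL
  obtain ⟨-, hs, hl, hnot⟩ := H.local_outside hT hL2 hLM hT₀ (jay_le.trans hTT₀)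
  have heq : T = T₀ := Subgroup.eq_of_le_of_card_ge hTT₀ (max_eq hT hs (jay_le.trans hTT₀)).2
  exact ⟨heq ▸ hl, hnot⟩

/-- Components outside `M` lie in `jComponentsZero`. -/
theorem MHyp.mem_zero (hT : T ∈ Cfsg.maxStraddlingTwoSubgroups M) {K : Subgroup G}
    (hK : Cfsg.IsJComponent T K) (hKM : ¬ K ≤ M) : K ∈ Cfsg.jComponentsZero T := by
  refine ⟨hK, fun S1 hJS hS1 => ?_⟩
  rw [tJ_eq] at hJS ⊢
  rw [tJ_eq]
  refine (H.local_outside hT (isTwoLocal_normalizer (wOf_pGroup hK) (wOf_ne_bot hK))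
    (fun hle => hKM ((le_normalizer.trans (normalizer_le_normalizer_wOf K)).trans hle)) hS1 hJS).1

end

section

variable {L T : Subgroup G} (Z : ZHyp G) (h : LHyp L T)
include Z h

theorem LHyp.piece_le_of {a : G} (ha : TvL L a) {M : Subgroup G} (hK : compOf L a ≤ M)
    (hQ : Cfsg.pCoreOf 2 L ≤ M) : piece L a ≤ M := by
  obtain ⟨u, k, hkL, hkK, hku, -, -, -, hmem⟩ := h.comp_gen Z ha
  intro x hx
  obtain ⟨hxL, n, hn : proj L u ^ n = proj L ⟨x, hxL⟩⟩ := (hmem x).mp hx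
  have hq : (k ^ n)⁻¹ * x ∈ Cfsg.pCoreOf 2 L :=
    (proj_eq_one (x := ((⟨k, hkL⟩ : L) ^ n)⁻¹ * ⟨x, hxL⟩)).mp
      (by rw [map_mul, map_inv, map_zpow, hku, hn, inv_mul_cancel])
  rw [show x = k ^ n * ((k ^ n)⁻¹ * x) from (mul_inv_cancel_left _ x).symm]
  exact M.mul_mem (M.zpow_mem (hK hkK) n) (hQ hq)

omit Z h in
/-- The normal closure of `J(T)` in `L`. -/
def jCl (L T : Subgroup G) : Subgroup G :=
  closure {x | ∃ l ∈ L, ∃ j ∈ jay 2 T, x = l * j * l⁻¹}

theorem LHyp.jCl_le : jCl L T ≤ L :=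
  (closure_le _).mpr fun _ ⟨_, hl, _, hj, e⟩ =>
    e ▸ L.mul_mem (L.mul_mem hl ((jay_le.trans h.syl.1) hj)) (L.inv_mem hl)

theorem LHyp.jCl_le_plStab : jCl L T ≤ plStab L := by
  rw [jCl, closure_le]
  rintro _ ⟨l, hl, j, hj, rfl⟩
  exact (mem_normalizer_iff.mp (h.le_normalizer_plStab Z hl) j).mp (h.jay_le_plStab Z hj)

/-- Frattini argument for the normal closure of `J(T)`. -/
theorem LHyp.exists_frattini : ∀ l ∈ L, ∃ x ∈ jCl L T,
    ∃ n ∈ L ⊓ normalizer (jay 2 T : Set G), l = x * n := by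
  set J := jay 2 T with hJ
  set X := jCl L T with hX
  have hXL : X ≤ L := h.jCl_le Z
  have hJX : J ≤ X := fun j hj => subset_closure ⟨1, L.one_mem, j, hj, by simp⟩
  have hXn : L ≤ normalizer (X : Set G) := fun g hg => H61.mem_normalizer_of_conj_mem fun x hx => by
    induction hx using closure_induction with
    | mem x hx =>
      obtain ⟨l, hl, j, hj, rfl⟩ := hx
      exact subset_closure ⟨g * l, L.mul_mem hg hl, j, hj, by group⟩
    | one => simp [X.one_mem]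
    | mul x y _ _ p q => simpa [mul_assoc] using X.mul_mem p q
    | inv x _ p => simpa [mul_assoc] using X.inv_mem p
  -- a Sylow subgroup of `X` and the Frattini argument
  have hTX : Cfsg.IsSylowTwoIn (T ⊓ X) X := by
    obtain ⟨R, hR, -⟩ := exists_sylowTwoIn (L := X) (R := ⊥) IsPGroup.of_bot bot_le
    obtain ⟨l, hl, hle⟩ := sylowTwoIn_conj h.syl hR.2.1 (hR.1.trans hXL)
    have hR' : Cfsg.IsSylowTwoIn (cj l⁻¹ R) X := by
      have := sylowTwoIn_cj hR l⁻¹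
      rwa [cj_of_mem_normalizer (hXn (L.inv_mem hl))] at this
    have hle' : cj l⁻¹ R ≤ T := by
      have := cj_le_cj (g := l⁻¹) hle
      rwa [cj_inv_cj] at this
    rw [sylowTwoIn_eq_of_le hR' (h.syl.2.1.to_le inf_le_left) inf_le_right (le_inf hle' hR'.1)]
    exact hR'
  intro l hl
  have h1 := sylowTwoIn_cj hTX l
  rw [cj_of_mem_normalizer (hXn hl)] at h1
  obtain ⟨x, hx, hxe⟩ := sylowTwoIn_card_eq hTX h1
  have hn : x⁻¹ * l ∈ normalizer ((T ⊓ X : Subgroup G) : Set G) :=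
    Thompson.mem_normalizer_of_map_conj (by rw [← cj, cj_mul, hxe, cj_inv_cj])
  refine ⟨x, hx, x⁻¹ * l, ⟨L.mul_mem (L.inv_mem (hXL hx)) hl, ?_⟩, (mul_inv_cancel_left x l).symm⟩
  have hJe : jay 2 (T ⊓ X) = J := jay_eq_of_le (le_inf jay_le hJX) inf_le_left
  exact hJe ▸ normalizer_le_normalizer_jay 2 _ hn

/-- The plane of a conjugate of an admissible transvection is the plane of an admissible one. -/
theorem LHyp.conj_adm {l a : G} (hl : l ∈ L) (ha : Adm L T a) :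
    ∃ a', Adm L T a' ∧ TvL L (l * a * l⁻¹) ∧ planeA L (l * a * l⁻¹) = planeA L a' := by
  set S := h.setup Z
  set J := jay 2 T with hJ
  obtain ⟨x, hx, n, ⟨hnL, hnN⟩, rfl⟩ := h.exists_frattini Z l hl
  replace hnN : n ∈ normalizer (J : Set G) := hnN
  have ha' : Adm L T (n * a * n⁻¹) := by
    obtain ⟨A, hA, haA, -⟩ := id ha
    refine ⟨cj n A, ?_, conj_mem_cj haA, ha.tvL.conj S hnL⟩
    have h1 : maxIn 2 J = maxIn 2 T := by
      ext B
      constructor
      · intro hB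
        refine mem_maxIn_of_card_eq hA (hB.1.trans jay_le) hB.2.1 ?_
        exact le_antisymm (hA.2.2 B (hB.1.trans jay_le) hB.2.1) (hB.2.2 A (le_jay hA) hA.2.1)
      · intro hB
        exact ⟨le_jay hB, hB.2.1, fun C hC hCe => hB.2.2 C (hC.trans jay_le) hCe⟩
    rw [← h1] at hA ⊢
    rw [← cj_of_mem_normalizer hnN, cj, maxIn_map _ (MulAut.conj n).injective]
    exact ⟨A, hA, rfl⟩
  have hxL := h.jCl_le Z hx
  have e : x * n * a * (x * n)⁻¹ = x * (n * a * n⁻¹) * x⁻¹ := by group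
  refine ⟨n * a * n⁻¹, ha', e ▸ ha'.tvL.conj S hxL, ?_⟩
  rw [e, planeA_conj S ha'.tvL hxL, cj_planeA_of_plStab (h.jCl_le_plStab Z hx) ha'.tvL]

/-- If all components of `L` lie in `M`, so does `L`. -/
theorem LHyp.le_of_comps {M : Subgroup G} (hTM : T ≤ M)
    (hN : L ⊓ normalizer (jay 2 T : Set G) ≤ M)
    (hcomp : ∀ a, Adm L T a → compOf L a ≤ M) : L ≤ M := by
  set J := jay 2 T with hJ
  set X := jCl L T with hX
  have hQM : Cfsg.pCoreOf 2 L ≤ M := (pCoreOf_le_sylowTwoIn h.syl).trans hTM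
  have hconj : ∀ l ∈ L, ∀ a, Adm L T a → l * a * l⁻¹ ∈ M := by
    intro l hl a ha
    obtain ⟨a', ha', hb, hpl⟩ := h.conj_adm Z hl ha
    have hmem := h.piece_le_of Z ha'.tvL (hcomp _ ha') hQM (h.piece_congr Z ha'.tvL hb hpl).2
    have := M.mul_mem hmem (hTM (jay_le ha'.mem_jay))
    rwa [mul_assoc, ha'.tvL.1, mul_one] at this
  have hXM : X ≤ M := by
    rw [hX, jCl, closure_le]
    rintro _ ⟨l, hl, j, hj, rfl⟩
    have hle : J ≤ cj l⁻¹ M := (h.jay_split Z).trans (sup_le ((closure_le _).mpr fun a ha => by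
        show a ∈ cj l⁻¹ M
        rw [mem_cj, inv_inv]; exact hconj l hl a ha)
      fun q hq => by
        rw [mem_cj, inv_inv]
        exact hQM ((mem_normalizer_iff.mp (le_normalizer_pCoreOf L hl) q).mp hq.2))
    have := hle hj
    rwa [mem_cj, inv_inv] at this
  intro l hl
  obtain ⟨x, hx, n, hn, rfl⟩ := h.exists_frattini Z l hl
  exact M.mul_mem (hXM hx) (hN hn)

end

/-- There is a component outside `M`. -/
theorem MHyp.exists_outside {M : Subgroup G} {S : Sylow 2 G} (H : MHyp M S) {T : Subgroup G}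
    (hT : T ∈ Cfsg.maxStraddlingTwoSubgroups M) : (Cfsg.jComponentsOutside M T).Nonempty := by
  obtain ⟨-, -, hTM, L, hL2, hTL, hLM⟩ := id hT.1
  obtain ⟨h, -⟩ := H.overgroup hT hL2 hLM hTL
  by_contra hno
  refine hLM (h.le_of_comps H.zn hTM (inf_le_right.trans (H.normalizer_jay_le hT)) fun a ha => ?_)
  by_contra hKM
  refine hno ⟨compOf L a, H.mem_zero hT (h.isJComponent_comp H.zn ha) hKM, hKM, fun hbot => ?_⟩
  have hle : compOf L a ⊔ T ≤ L := sup_le (h.comp_le H.zn) hTL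
  have hQ := le_pCoreOf (L := compOf L a ⊔ T) (isPGroup_pCoreOf L)
    ((pCoreOf_le_sylowTwoIn h.syl).trans le_sup_right) (hle.trans (le_normalizer_pCoreOf L))
  rw [hbot, le_bot_iff] at hQ
  exact h.pCoreOf_ne_bot H.zn hQ

end Cfsg.Agent.H85.ZN
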