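import Cfsg.Agent.H85.ZN.Sub

/-!
`N(K) = N(W_K)` and conjugates of `T`.
-/

set_option autoImplicit false
set_option linter.style.haveILetI false
set_option linter.unusedSectionVars false

namespace Cfsg.Agent.H85.ZN

open Subgroup Cfsg.Agent.Thompson

variable {G : Type*} [Group G] [Finite G] {T K : Subgroup G}

theorem wOf_pGroup (hK : Cfsg.IsJComponent T K) : IsPGroup 2 (Cfsg.wOf K) := fun x =>
  ⟨1, Subtype.ext (by simpa [pow_two] using hK.2.2.2.2.2 x x.2)⟩

theorem wOf_ne_bot (hK : Cfsg.IsJComponent T K) : Cfsg.wOf K ≠ ⊥ := fun h => by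
  have := hK.2.2.2.2.1
  rw [h, card_bot] at this
  omega

theorem jcomp_jay_le_normalizer_wOf (hK : Cfsg.IsJComponent T K) :
    jay 2 T ≤ normalizer (Cfsg.wOf K : Set G) :=
  (jcomp_jay_le_normalizer hK).trans (normalizer_le_normalizer_wOf K)

/-- `N(K) = N(W_K)` for the members of `jComponentsZero T`. -/
theorem ZHyp.normalizer_eq (Z : ZHyp G) (hT : IsPGroup 2 T) (hK : K ∈ Cfsg.jComponentsZero T) :
    normalizer (K : Set G) = normalizer (Cfsg.wOf K : Set G) := by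
  obtain ⟨hK, hzero⟩ := hK
  refine le_antisymm (normalizer_le_normalizer_wOf K) fun g hg => ?_
  set L := normalizer (Cfsg.wOf K : Set G) with hL
  have hJL : jay 2 T ≤ L := jcomp_jay_le_normalizer_wOf hK
  obtain ⟨T1, hT1, hJT1⟩ := exists_sylowTwoIn (hT.to_le jay_le) hJL
  have h : LHyp L T1 := ⟨hT1, Z.cent_normalizer (wOf_pGroup hK) (wOf_ne_bot hK)⟩
  have hJ1 : jay 2 T1 = jay 2 T := by
    simpa only [tJ_eq] using hzero T1 (by rw [tJ_eq]; exact hJT1) hT1
  have hKL : K ≤ L := le_normalizer.trans (normalizer_le_normalizer_wOf K)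
  obtain ⟨a, ha, hKa⟩ := h.exists_eq_comp Z (jcomp_congr hJ1 hK) hKL
  rw [hKa]
  refine h.mem_normalizer_comp Z ha.tvL hg ?_
  rw [← h.wOf_comp Z ha, ← hKa]
  exact cj_of_mem_normalizer hg

theorem jay_eq_cj_of_le {N R T' : Subgroup G} (hR : Cfsg.IsSylowTwoIn R N)
    (hT' : IsPGroup 2 T') (ha : Cfsg.maxElemAbelianOrder R = Cfsg.maxElemAbelianOrder T')
    (hcard : Nat.card (jay 2 R) = Nat.card (jay 2 T')) (hle : jay 2 T' ≤ N) :
    ∃ l ∈ N, jay 2 T' = cj l (jay 2 R) := by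
  obtain ⟨l, hl, hle'⟩ := sylowTwoIn_conj hR (hT'.to_le jay_le) hle
  refine ⟨l, hl, ?_⟩
  rw [← jay_cj]
  refine Subgroup.eq_of_le_of_card_ge (jay_le_jay hle' ?_) ?_
  · rw [maxElemAbelianOrder_cj, ha]
  · rw [jay_cj, card_cj, hcard]

/-- `a(T)` depends only on `J(T)`. -/
theorem maxElemAbelianOrder_congr {P R : Subgroup G} (hJ : jay 2 P = jay 2 R) :
    Cfsg.maxElemAbelianOrder P = Cfsg.maxElemAbelianOrder R :=
  le_antisymm (maxElemAbelianOrder_mono (hJ.le.trans jay_le))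
    (maxElemAbelianOrder_mono (hJ.ge.trans jay_le))

/-- Conjugates of `T` with `J` in `N(W_K)` have `K` as component. -/
theorem ZHyp.jcomp_conj (Z : ZHyp G) (hT : IsPGroup 2 T) (hK : K ∈ Cfsg.jComponentsZero T)
    {T' : Subgroup G} {g : G} (hT' : T' = cj g T)
    (hle : jay 2 T' ≤ normalizer (Cfsg.wOf K : Set G)) : Cfsg.IsJComponent T' K := by
  subst hT'
  have hN := Z.normalizer_eq hT hK
  obtain ⟨hK, hzero⟩ := hK
  set L := normalizer (Cfsg.wOf K : Set G) with hL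
  obtain ⟨R, hR, hJR⟩ := exists_sylowTwoIn (hT.to_le jay_le) (jcomp_jay_le_normalizer_wOf hK)
  have hJ1 : jay 2 R = jay 2 T := by
    simpa only [tJ_eq] using hzero R (by rw [tJ_eq]; exact hJR) hR
  obtain ⟨l, hl, hl'⟩ := jay_eq_cj_of_le hR (isPGroup_cj (g := g) hT)
    (by rw [maxElemAbelianOrder_cj, maxElemAbelianOrder_congr hJ1])
    (by rw [jay_cj, card_cj, hJ1]) hle
  have hlK : cj l K = K := cj_of_mem_normalizer (hN ▸ hl)
  have := jcomp_cj l hK
  rw [hlK] at this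
  exact jcomp_congr (by rw [jay_cj l, ← hJ1, hl']) this

end Cfsg.Agent.H85.ZN
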