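import Cfsg.Agent.H85.ZN.Local

/-!
Largest elementary abelian 2-subgroups act on `V` as offenders generated by transvections.
-/

set_option autoImplicit false
set_option linter.style.haveILetI false
set_option linter.unusedSectionVars false

namespace Cfsg.Agent.H85.ZN

open Subgroup Cfsg.Agent.Thompson

variable {G : Type*} [Group G] [Finite G]

/-- Two elementary abelian subgroups centralising each other generate one. -/
theorem isAbExp_sup {B U : Subgroup G} (hB : IsAbExp 2 B) (hU : IsAbExp 2 U)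
    (hc : ∀ b ∈ B, ∀ u ∈ U, Commute b u) : IsAbExp 2 (B ⊔ U) := by
  have h1 : ∀ x ∈ B ⊔ U, ∀ y ∈ B ⊔ U, x * y = y * x := by
    have key : ∀ x, x ∈ B ∨ x ∈ U → ∀ y ∈ B ⊔ U, Commute x y := by
      intro x hx y hy
      have : B ⊔ U ≤ centralizer ({x} : Set G) := by
        rcases hx with hx | hx
        · exact sup_le (fun z hz => mem_centralizer_singleton_iff.mpr (hB.comm hz hx))
            (fun z hz => mem_centralizer_singleton_iff.mpr (hc x hx z hz).eq.symm)
        · exact sup_le (fun z hz => mem_centralizer_singleton_iff.mpr (hc z hz x hx).eq)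
            (fun z hz => mem_centralizer_singleton_iff.mpr (hU.comm hz hx))
      exact (mem_centralizer_singleton_iff.mp (this hy)).symm
    intro x hx y hy
    have : B ⊔ U ≤ centralizer ({y} : Set G) := sup_le
      (fun z hz => mem_centralizer_singleton_iff.mpr (key z (.inl hz) y hy).eq)
      (fun z hz => mem_centralizer_singleton_iff.mpr (key z (.inr hz) y hy).eq)
    exact mem_centralizer_singleton_iff.mp (this hx)
  refine ⟨isMulCommutative_iff_forall.mpr h1, fun x hx => ?_⟩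
  obtain ⟨b, hb, u, hu, rfl⟩ : ∃ b ∈ B, ∃ u ∈ U, b * u = x := by
    have hmem : x ∈ ((B ⊔ U : Subgroup G) : Set G) := hx
    rw [coe_mul_of_left_le_normalizer_right B U ?_] at hmem
    · exact hmem
    · intro b hb
      exact (centralizer_le_normalizer _) (mem_centralizer_iff.mpr fun u hu => (hc b hb u hu).eq.symm)
  rw [(hc b hb u hu).mul_pow, hB.2 b hb, hU.2 u hu, one_mul]

theorem card_mul_le (B U : Subgroup G) :
    Nat.card B * Nat.card U ≤
      Nat.card ↥(B ⊔ U : Subgroup G) * Nat.card ↥(B ⊓ U : Subgroup G) := by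
  have e1 : Nat.card B = (B ⊓ U).relIndex B * Nat.card ↥(B ⊓ U : Subgroup G) := by
    rw [relIndex, ← card_mul_index ((B ⊓ U).subgroupOf B), mul_comm,
      Nat.card_congr (subgroupOfEquivOfLe (inf_le_left : B ⊓ U ≤ B)).toEquiv]
  have e2 : Nat.card ↥(B ⊔ U : Subgroup G) = U.relIndex (B ⊔ U) * Nat.card U := by
    rw [relIndex, ← card_mul_index (U.subgroupOf (B ⊔ U)), mul_comm,
      Nat.card_congr (subgroupOfEquivOfLe (le_sup_right : U ≤ B ⊔ U)).toEquiv]
  have e3 : (B ⊓ U).relIndex B ≤ U.relIndex (B ⊔ U) := by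
    rw [inf_relIndex_left]
    exact relIndex_le_of_le_right le_sup_left index_ne_zero_of_finite
  rw [e1, e2]
  calc (B ⊓ U).relIndex B * Nat.card ↥(B ⊓ U : Subgroup G) * Nat.card U
      ≤ U.relIndex (B ⊔ U) * Nat.card ↥(B ⊓ U : Subgroup G) * Nat.card U :=
        Nat.mul_le_mul_right _ (Nat.mul_le_mul_right _ e3)
    _ = _ := by ring

/-- The basic inequality for a largest elementary abelian subgroup and a part centralising `U`. -/
theorem max_bound {P A B U : Subgroup G} (hA : A ∈ maxIn 2 P) (hB : B ≤ A) (hU : U ≤ P)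
    (hUe : IsAbExp 2 U) (hc : ∀ b ∈ B, ∀ u ∈ U, Commute b u) :
    Nat.card B * Nat.card U ≤ Nat.card A * Nat.card ↥(U ⊓ centralizer (A : Set G)) :=
  (card_mul_le B U).trans (Nat.mul_le_mul
    (hA.2.2 _ (sup_le (hB.trans hA.1) hU) (isAbExp_sup (hA.2.1.mono hB) hUe hc))
    (card_le_of_le (le_inf inf_le_right fun x hx =>
      mem_centralizer_iff.mpr fun a ha => hA.2.1.comm ha (hB hx.1))))

/-- `a` is an involution (or `1`) of `L` inducing a transvection on `V`. -/
def TvL (L : Subgroup G) (a : G) : Prop :=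
  a * a = 1 ∧ ∃ ha : a ∈ L, IsTv ↥(Vc L) (img L ⟨a, ha⟩)

/-- The image in the acting group of a subgroup. -/
noncomputable abbrev imgS (L A : Subgroup G) : Subgroup ↥(Hq L) := (A.subgroupOf L).map (img L)

section

variable {L T : Subgroup G} (Z : ZHyp G) (h : LHyp L T)

theorem card_imgS {A : Subgroup G} (hA : A ≤ L) :
    Nat.card (imgS L A) * Nat.card ↥(A ⊓ Cn L) = Nat.card A := by
  have h1 : ((img L).ker.subgroupOf (A.subgroupOf L)).index = Nat.card (imgS L A) :=
    relIndex_ker (A.subgroupOf L) (img L)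
  rw [← h1, mul_comm]
  have h3 := ((img L).ker.subgroupOf (A.subgroupOf L)).card_mul_index
  rw [Nat.card_congr (subgroupOfEquivOfLe hA).toEquiv] at h3
  refine Eq.trans ?_ h3
  congr 1
  refine Nat.card_congr
    { toFun := fun x => ⟨⟨⟨(x : G), hA x.2.1⟩, x.2.1⟩, MonoidHom.mem_ker.mpr ((mem_Cn _).mp x.2.2)⟩
      invFun := fun x => ⟨((x : A.subgroupOf L) : L), (x : A.subgroupOf L).2,
        (mem_Cn ((x : A.subgroupOf L) : L).2).mpr (MonoidHom.mem_ker.mp x.2)⟩
      left_inv := fun _ => rfl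
      right_inv := fun _ => rfl }

theorem card_fix_imgS {A : Subgroup G} (hA : A ≤ L) :
    Nat.card (fix ↥(Vc L) (imgS L A : Set ↥(Hq L))) = Nat.card ↥(Vc L ⊓ centralizer (A : Set G)) :=
  Nat.card_congr
    { toFun := fun v => ⟨((v : Vc L) : G), (v : Vc L).2, mem_centralizer_iff.mpr fun a ha => by
        have := (img_smul_eq_iff (⟨a, hA ha⟩ : L) (v : Vc L)).mp
          (v.2 _ ⟨⟨a, hA ha⟩, ha, rfl⟩)
        exact this.eq⟩
      invFun := fun v => ⟨⟨(v : G), v.2.1⟩, by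
        rintro _ ⟨a, ha, rfl⟩
        exact (img_smul_eq_iff a _).mpr (mem_centralizer_iff.mp v.2.2 (a : G) ha)⟩
      left_inv := fun _ => rfl
      right_inv := fun _ => rfl }

theorem elem_imgS {A : Subgroup G} (hA : IsAbExp 2 A) :
    Cfsg.IsElementaryAbelian 2 (imgS L A) := by
  refine ⟨isMulCommutative_iff_forall.mpr ?_, ?_⟩
  · rintro _ ⟨a, ha, rfl⟩ _ ⟨b, hb, rfl⟩
    rw [← map_mul, ← map_mul, show a * b = b * a from Subtype.ext (hA.comm ha hb)]
  · rintro _ ⟨a, ha, rfl⟩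
    rw [← map_pow, show a ^ 2 = 1 from Subtype.ext (hA.2 _ ha), map_one]

include Z h

/-- An elementary abelian subgroup of `L` is no more than an offender on `V`. -/
theorem LHyp.bound {A : Subgroup G} (hA : A ≤ L) (hAe : IsAbExp 2 A) :
    Nat.card A * Nat.card ↥(Vc L ⊓ centralizer (A : Set G)) ≤
      Nat.card ↥(Vc L) * Nat.card ↥(A ⊓ Cn L) := by
  have h1 := (offender_bound (h.setup Z) (h.Hq_solvable Z) (elem_imgS (L := L) hAe)).1
  have h2 := card_mul_index (fix ↥(Vc L) (imgS L A : Set ↥(Hq L)))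
  rw [card_fix_imgS hA] at h2
  rw [← card_imgS hA, ← h2]
  calc Nat.card (imgS L A) * Nat.card ↥(A ⊓ Cn L) * Nat.card ↥(Vc L ⊓ centralizer (A : Set G))
      ≤ (fix ↥(Vc L) (imgS L A : Set ↥(Hq L))).index * Nat.card ↥(A ⊓ Cn L) *
          Nat.card ↥(Vc L ⊓ centralizer (A : Set G)) :=
        Nat.mul_le_mul_right _ (Nat.mul_le_mul_right _ h1)
    _ = _ := by ring

theorem LHyp.Vc_le : Vc L ≤ T := (om_le _).trans (pCoreOf_le_sylowTwoIn h.syl)

/-- Exactness for a largest elementary abelian subgroup of `T`. -/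
theorem LHyp.exact {A : Subgroup G} (hA : A ∈ maxIn 2 T) :
    Nat.card A * Nat.card ↥(Vc L ⊓ centralizer (A : Set G)) =
      Nat.card ↥(Vc L) * Nat.card ↥(A ⊓ Cn L) := by
  refine le_antisymm (h.bound Z (hA.1.trans h.syl.1) hA.2.1) ?_
  rw [mul_comm]
  exact max_bound hA inf_le_left (h.Vc_le Z) (isAbExp_om _)
    fun b hb u hu => (mem_centralizer_iff.mp hb.2.2 u hu).symm

/-- `V ≤ J(T)`. -/
theorem LHyp.Vc_le_jay : Vc L ≤ jay 2 T := by
  obtain ⟨A, hA⟩ := maxIn_nonempty 2 T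
  have hex := h.exact Z hA
  set B := A ⊓ Cn L with hB
  have hcom : ∀ b ∈ B, ∀ u ∈ Vc L, Commute b u := fun b hb u hu =>
    (mem_centralizer_iff.mp hb.2.2 u hu).symm
  have hab : IsAbExp 2 (B ⊔ Vc L) := isAbExp_sup (hA.2.1.mono inf_le_left) (isAbExp_om _) hcom
  have hmem : B ⊔ Vc L ∈ maxIn 2 T := by
    refine mem_maxIn_of_card_eq hA (sup_le (inf_le_left.trans hA.1) (h.Vc_le Z)) hab ?_
    refine le_antisymm (hA.2.2 _ (sup_le (inf_le_left.trans hA.1) (h.Vc_le Z)) hab) ?_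
    have hle : Nat.card B * Nat.card ↥(Vc L) ≤
        Nat.card ↥(B ⊔ Vc L : Subgroup G) * Nat.card ↥(Vc L ⊓ centralizer (A : Set G)) :=
      (card_mul_le B (Vc L)).trans (Nat.mul_le_mul_left _ (card_le_of_le (le_inf inf_le_right
        fun x hx => mem_centralizer_iff.mpr fun a ha => hA.2.1.comm ha hx.1.1)))
    rw [mul_comm (Nat.card B), ← hex] at hle
    exact Nat.le_of_mul_le_mul_right hle Nat.card_pos
  exact le_sup_right.trans (le_jay hmem)

/-- A largest elementary abelian subgroup is generated modulo `C_L(V)` by transvections. -/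
theorem LHyp.gen_tv {A : Subgroup G} (hA : A ∈ maxIn 2 T) :
    A ≤ closure ({a | a ∈ A ∧ TvL L a} ∪ (Cn L : Set G)) := by
  have hAL : A ≤ L := hA.1.trans h.syl.1
  have heq : Nat.card (imgS L A) = (fix ↥(Vc L) (imgS L A : Set ↥(Hq L))).index := by
    have h1 := h.exact Z hA
    have h2 := card_mul_index (fix ↥(Vc L) (imgS L A : Set ↥(Hq L)))
    rw [card_fix_imgS hAL] at h2
    rw [← card_imgS hAL, ← h2] at h1
    have h3 : Nat.card (imgS L A) * Nat.card ↥(Vc L ⊓ centralizer (A : Set G)) *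
        Nat.card ↥(A ⊓ Cn L) = (fix ↥(Vc L) (imgS L A : Set ↥(Hq L))).index *
        Nat.card ↥(Vc L ⊓ centralizer (A : Set G)) * Nat.card ↥(A ⊓ Cn L) := by linarith
    exact Nat.eq_of_mul_eq_mul_right Nat.card_pos (Nat.eq_of_mul_eq_mul_right Nat.card_pos h3)
  have hgen := (offender_bound (h.setup Z) (h.Hq_solvable Z) (elem_imgS (L := L) hA.2.1)).2 heq
  intro a ha
  have hmem : img L ⟨a, hAL ha⟩ ∈
      closure {g : ↥(Hq L) | g ∈ imgS L A ∧ IsTv ↥(Vc L) g} := by
    rw [hgen]; exact ⟨⟨a, hAL ha⟩, ha, rfl⟩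
  have hle : closure {g : ↥(Hq L) | g ∈ imgS L A ∧ IsTv ↥(Vc L) g} ≤
      ((closure ({a | a ∈ A ∧ TvL L a} ∪ (Cn L : Set G))).subgroupOf L).map (img L) := by
    rw [closure_le]
    rintro g ⟨⟨⟨b, hbL⟩, hb, rfl⟩, htv⟩
    refine ⟨⟨b, hbL⟩, subset_closure (Or.inl ⟨hb, ?_, hbL, htv⟩), rfl⟩
    rw [← pow_two]; exact hA.2.1.2 b hb
  obtain ⟨⟨b, hbL⟩, hb, hba⟩ := hle hmem
  have hc : b⁻¹ * a ∈ Cn L := by
    rw [mem_Cn (L.mul_mem (L.inv_mem hbL) (hAL ha)),
      show (⟨b⁻¹ * a, L.mul_mem (L.inv_mem hbL) (hAL ha)⟩ : L) = ⟨b, hbL⟩⁻¹ * ⟨a, hAL ha⟩ from rfl,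
      map_mul, map_inv, hba, inv_mul_cancel]
  have := mul_mem (mem_subgroupOf.mp hb) (subset_closure (Or.inr hc) :
    b⁻¹ * a ∈ closure ({a | a ∈ A ∧ TvL L a} ∪ (Cn L : Set G)))
  simpa using this

/-- `J(T)` is generated modulo `C_L(V)` by transvections. -/
theorem LHyp.jay_le_tv : jay 2 T ≤ closure ({a | a ∈ jay 2 T ∧ TvL L a} ∪ (Cn L : Set G)) :=
  sSup_le fun _ hA => (h.gen_tv Z hA).trans (closure_mono
    (Set.union_subset_union_left _ fun _ hb => ⟨le_jay hA hb.1, hb.2⟩))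

end

end Cfsg.Agent.H85.ZN
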