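import Cfsg.Agent.H85.ZN.Line

/-!
Two components with different maximal 2-local overgroups.
-/

set_option autoImplicit false
set_option linter.style.haveILetI false
set_option linter.unusedSectionVars false

namespace Cfsg.Agent.H85.ZN

open Subgroup Cfsg.Agent.Thompson
open scoped commutatorElement

variable {G : Type*} [Group G] [Finite G]

/-- Two distinct involutions generate a four-group. -/
theorem four_cases {V : Subgroup G} (hV : Nat.card V ≤ 4) {x y : G} (hx : x ∈ V) (hy : y ∈ V)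
    (hx1 : x ≠ 1) (hy1 : y ≠ 1) (hxy : x ≠ y) (hx2 : x * x = 1) :
    ∀ e ∈ V, e = 1 ∨ e = x ∨ e = y ∨ e = x * y := by
  intro e he
  by_contra hno
  simp only [not_or] at hno
  classical
  letI := Fintype.ofFinite V
  have hxy1 : x * y ≠ 1 := fun h => hxy (by
    rw [← inv_eq_of_mul_eq_one_right h, inv_eq_of_mul_eq_one_right hx2])
  have hxyx : x * y ≠ x := fun h => hy1 (mul_eq_left.mp h)
  have hxyy : x * y ≠ y := fun h => hx1 (mul_eq_right.mp h)
  have := Finset.card_le_univ ({⟨1, V.one_mem⟩, ⟨x, hx⟩, ⟨y, hy⟩, ⟨x * y, V.mul_mem hx hy⟩,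
    ⟨e, he⟩} : Finset V)
  rw [← Nat.card_eq_fintype_card,
    Finset.card_insert_of_notMem (by simp [Ne.symm hx1, Ne.symm hy1, Ne.symm hxy1, Ne.symm hno.1]),
    Finset.card_insert_of_notMem (by simp [hxy, hy1, Ne.symm hno.2.1]),
    Finset.card_insert_of_notMem (by simp [hx1, Ne.symm hno.2.2.1]),
    Finset.card_pair (by simp [Ne.symm hno.2.2.2])] at this
  omega

theorem two_cases {V : Subgroup G} (hV : Nat.card V ≤ 2) {x : G} (hx : x ∈ V) (hx1 : x ≠ 1) :
    ∀ e ∈ V, e = 1 ∨ e = x := fun _ he => pair_of_card_two (le_antisymm hV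
      (Finite.one_lt_card_iff_nontrivial.mpr
        ⟨⟨x, hx⟩, 1, fun h => hx1 (congrArg Subtype.val h)⟩)) hx hx1 he

theorem normalizer_cj (g : G) (H : Subgroup G) :
    normalizer ((cj g H : Subgroup G) : Set G) = cj g (normalizer (H : Set G)) := by
  ext x
  rw [mem_cj]
  constructor
  · intro hx
    refine Thompson.mem_normalizer_of_map_conj ?_
    rw [← cj, cj_mul, cj_mul, cj_of_mem_normalizer hx, cj_inv_cj]
  · intro hx
    refine Thompson.mem_normalizer_of_map_conj ?_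
    rw [← cj]
    calc cj x (cj g H) = cj g (cj (g⁻¹ * x * g) H) := by
          rw [← cj_mul, ← cj_mul]; congr 1; group
      _ = cj g H := by rw [cj_of_mem_normalizer hx]

theorem isTwoLocal_cj {N : Subgroup G} (hN : Cfsg.IsTwoLocal N) (g : G) :
    Cfsg.IsTwoLocal (cj g N) := by
  obtain ⟨R, h2, hne, rfl⟩ := hN
  refine ⟨cj g R, isPGroup_cj h2, fun e => hne ?_, (normalizer_cj g R).symm⟩
  rw [← cj_inv_cj g R, e]; simp

theorem isMaximalTwoLocal_cj {N : Subgroup G} (hN : Cfsg.IsMaximalTwoLocal N) (g : G) :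
    Cfsg.IsMaximalTwoLocal (cj g N) := by
  refine ⟨isTwoLocal_cj hN.1 g, fun N' hN' hle => ?_⟩
  have h1 := cj_le_cj (g := g⁻¹) hle
  rw [cj_inv_cj] at h1
  have h2 := hN.2 _ (isTwoLocal_cj hN' g⁻¹) h1
  rw [← cj_cj_inv g N', h2]

theorem centralizer_singleton_le_normalizer (x : G) :
    centralizer ({x} : Set G) ≤ normalizer (zpowers x : Set G) := fun g hg =>
  H61.mem_normalizer_of_conj_mem fun y hy => by
    obtain ⟨n, rfl⟩ := mem_zpowers_iff.mp hy
    rw [← conj_zpow, mem_centralizer_singleton_iff.mp hg, mul_inv_cancel_right]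
    exact zpow_mem_zpowers x n

/-- `C_{Z₀}(K)`. -/
abbrev hC (T K : Subgroup G) : Subgroup G := zJ T ⊓ centralizer (K : Set G)

theorem zJ_congr {T T' : Subgroup G} (hJ : jay 2 T' = jay 2 T) : zJ T' = zJ T := by
  rw [zJ, hJ]

theorem hC_congr {T T' K : Subgroup G} (hJ : jay 2 T' = jay 2 T) : hC T' K = hC T K := by
  rw [hC, zJ_congr hJ]

theorem mem_hC_cj {T K : Subgroup G} {g x : G} (hx : x ∈ hC T K) :
    g * x * g⁻¹ ∈ hC (cj g T) (cj g K) := by
  refine ⟨?_, ?_⟩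
  · show g * x * g⁻¹ ∈ Cfsg.omegaCenterOf (jay 2 (cj g T))
    rw [jay_cj, ← cj_om]
    exact conj_mem_cj hx.1
  · show g * x * g⁻¹ ∈ centralizer ((cj g K : Subgroup G) : Set G)
    rw [← centralizer_cj]
    exact conj_mem_cj hx.2

theorem LHyp.cj' {L T : Subgroup G} (h : LHyp L T) (g : G) : LHyp (cj g L) (cj g T) := by
  refine ⟨sylowTwoIn_cj h.syl g, ?_⟩
  rw [pCoreOf_cj, ← centralizer_cj]
  exact cj_le_cj h.cent

theorem max_cj {M : Subgroup G} {T : Subgroup G} (hT : T ∈ Cfsg.maxStraddlingTwoSubgroups M)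
    {g : G} (hg : g ∈ M) : cj g T ∈ Cfsg.maxStraddlingTwoSubgroups M := by
  obtain ⟨⟨h2, hne, hTM, N, hN, hTN, hNM⟩, hmax⟩ := hT
  refine ⟨⟨isPGroup_cj h2, fun e => hne ?_, cj_le_of_mem hg hTM, cj g N, isTwoLocal_cj hN g,
    cj_le_cj hTN, fun hle => hNM ?_⟩, fun R hR => ?_⟩
  · rw [← cj_inv_cj g T, e]; simp
  · rw [← cj_inv_cj g N]
    exact cj_le_of_mem (M.inv_mem hg) hle
  · simpa only [tJ_eq, jay_cj, card_cj, maxElemAbelianOrder_cj] using hmax R hR

/-- No component is centralised, with `J(T)`, by `Ω₁Z` of a Sylow 2-subgroup. -/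
theorem ZHyp.not_centralised (Z : ZHyp G) {T K : Subgroup G} (hT : IsPGroup 2 T)
    (hK : Cfsg.IsJComponent T K) (P : Sylow 2 G)
    (hKz : K ≤ centralizer (Cfsg.omegaCenterOf (P : Subgroup G) : Set G))
    (hJz : jay 2 T ≤ centralizer (Cfsg.omegaCenterOf (P : Subgroup G) : Set G)) : False := by
  have hKN := hKz.trans (Z.zc P)
  have hJP : jay 2 T ≤ (P : Subgroup G) := by
    have hP : Cfsg.IsSylowTwoIn (P : Subgroup G) (normalizer ((P : Subgroup G) : Set G)) :=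
      ⟨le_normalizer, P.isPGroup', by
        haveI : Fact (Nat.Prime 2) := ⟨Nat.prime_two⟩
        exact Odd.of_dvd_nat
          (Nat.not_even_iff_odd.mp fun h => P.not_dvd_index (even_iff_two_dvd.mp h))
          (Dvd.intro _ (relIndex_mul_index le_normalizer))⟩
    obtain ⟨l, hl, hle⟩ := sylowTwoIn_conj hP (hT.to_le jay_le) (hJz.trans (Z.zc P))
    rwa [cj_of_mem_normalizer hl] at hle
  refine jcomp_not_pGroup hK (P.isPGroup'.to_le ?_)
  have hcomm : ⁅K, jay 2 T⁆ = K := by simpa only [tJ_eq] using hK.2.1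
  rw [← hcomm, commutator_le]
  intro k hk j hj
  rw [commutatorElement_def]
  exact mul_mem ((mem_normalizer_iff.mp (hKN hk) j).mp (hJP hj)) (inv_mem (hJP hj))

section

variable {L T K K' : Subgroup G} (Z : ZHyp G) (h : LHyp L T)
include Z h

theorem LHyp.jcomp_c (hK : Cfsg.IsJComponent T K) (hKL : K ≤ L) :
    ∃ c, c ≠ 1 ∧ c ∈ Cfsg.wOf K ∧ c ∈ zJ T ∧
      (∀ x ∈ Cfsg.wOf K, (∀ j ∈ jay 2 T, Commute j x) → x = 1 ∨ x = c) ∧
      ¬ K ≤ centralizer ({c} : Set G) := by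
  obtain ⟨a, ha, rfl⟩ := h.exists_eq_comp Z hK hKL
  obtain ⟨c, h1, h2, h3, h4, h5⟩ := h.exists_c Z ha
  rw [h.wOf_comp Z ha]
  exact ⟨c, h1, h2, h3, fun x hx hc => h4 x hx (hc a ha.mem_jay), h5⟩

theorem LHyp.jcomp_card (hK : Cfsg.IsJComponent T K) (hKL : K ≤ L) :
    Nat.card (zJ T) ≤ 2 * Nat.card (hC T K) := by
  obtain ⟨a, ha, rfl⟩ := h.exists_eq_comp Z hK hKL
  exact h.card_zJ_le Z ha

theorem LHyp.jcomp_centralizes (hK : Cfsg.IsJComponent T K) (hKL : K ≤ L)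
    (hK' : Cfsg.IsJComponent T K') (hKL' : K' ≤ L) (hne : K' ≠ K) :
    K' ≤ centralizer (Cfsg.wOf K : Set G) := by
  obtain ⟨a, ha, rfl⟩ := h.exists_eq_comp Z hK hKL
  obtain ⟨b, hb, rfl⟩ := h.exists_eq_comp Z hK' hKL'
  rw [h.wOf_comp Z ha]
  exact h.comp_le_centralizer Z ha.tvL hb.tvL fun hpl =>
    hne (by rw [compOf, compOf, (h.piece_congr Z ha.tvL hb.tvL hpl).1])

end

section

variable {M : Subgroup G} {S : Sylow 2 G} {T L K : Subgroup G} (X : TopHyp M S T L K)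
include X

theorem TopHyp.conj {g : G} (hg : g ∈ M) : TopHyp M S (cj g T) (cj g L) (cj g K) := by
  refine ⟨X.m, max_cj X.max hg, X.lh.cj' g, isMaximalTwoLocal_cj X.loc g, jcomp_cj g X.jc,
    cj_le_cj X.kl, fun hle => X.nm ?_⟩
  rw [← cj_inv_cj g K]
  exact cj_le_of_mem (M.inv_mem hg) hle

theorem TopHyp.mem_of_cj_eq {g : G} (h : cj g L = L) : g ∈ L :=
  X.normalizer_le (Thompson.mem_normalizer_of_map_conj h)

/-- Components with different tops have disjoint centralisers in `Z₀`. -/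
theorem TopHyp.inter_bot {M' : Subgroup G} {S' : Sylow 2 G} {T' L' K' : Subgroup G}
    (X' : TopHyp M' S' T' L' K') (hJ : jay 2 T' = jay 2 T) (hne : L' ≠ L) :
    hC T K ⊓ hC T' K' = ⊥ := by
  rw [eq_bot_iff]
  rintro x ⟨⟨hxZ, hxK⟩, ⟨hxZ', hxK'⟩⟩
  by_contra hx1
  refine hne ?_
  have hC' : centralizer ({x} : Set G) ≤ L := X.centralizer_le hx1 (om_sq hxZ)
    (fun k hk => mem_centralizer_singleton_iff.mpr (mem_centralizer_iff.mp hxK k hk))
    (jay_le_centralizer_zJ hxZ)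
  have hle : K' ⊔ jay 2 T' ≤ L := sup_le
    (fun k hk => hC' (mem_centralizer_singleton_iff.mpr (mem_centralizer_iff.mp hxK' k hk)))
    ((jay_le_centralizer_zJ hxZ').trans hC')
  exact (X'.m.top_unique X'.max X'.jc X'.nm X'.loc X'.sup_jay_le X.loc hle).symm

theorem TopHyp.card_zJ_le_four {M' : Subgroup G} {S' : Sylow 2 G} {T' L' K' : Subgroup G}
    (X' : TopHyp M' S' T' L' K') (hJ : jay 2 T' = jay 2 T) (hne : L' ≠ L) :
    Nat.card (zJ T) ≤ 4 := by
  have h1 := X.lh.jcomp_card X.m.zn X.jc X.kl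
  have h2 := X'.lh.jcomp_card X'.m.zn X'.jc X'.kl
  rw [zJ_congr hJ, hC_congr hJ] at h2
  have h3 := card_mul_le (hC T K) (hC T K')
  have h4 := X.inter_bot X' hJ hne
  rw [hC_congr hJ] at h4
  rw [h4, card_bot, mul_one] at h3
  have h5 : Nat.card ↥(hC T K ⊔ hC T K' : Subgroup G) ≤ Nat.card (zJ T) :=
    card_le_of_le (sup_le inf_le_left inf_le_left)
  have h6 : 0 < Nat.card (zJ T) := Nat.card_pos
  refine Nat.le_of_mul_le_mul_right ?_ h6
  calc Nat.card (zJ T) * Nat.card (zJ T) ≤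
        2 * Nat.card (hC T K) * (2 * Nat.card (hC T K')) := Nat.mul_le_mul h1 h2
    _ = 4 * (Nat.card (hC T K) * Nat.card (hC T K')) := by ring
    _ ≤ _ := Nat.mul_le_mul_left _ (h3.trans h5)

theorem TopHyp.cj_jay {g : G} (hg : g ∈ normalizer (jay 2 T : Set G)) :
    jay 2 (cj g T) = jay 2 T := by rw [jay_cj, cj_of_mem_normalizer hg]

/-- Outside `L`, the normaliser of `J(T)` forces a single component outside `M`. -/
theorem TopHyp.unique {g : G} (hg : g ∈ normalizer (jay 2 T : Set G)) (hgL : g ∉ L)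
    {K' : Subgroup G} (X' : TopHyp M S T L K') : K' = K := by
  by_contra hne
  have Z := X.m.zn
  have hgM : g ∈ M := X.m.normalizer_jay_le X.max hg
  have hneL : cj g L ≠ L := fun e => hgL (X.mem_of_cj_eq e)
  have hJ := X.cj_jay hg
  obtain ⟨c, hc1, hcW, hcZ, -, hcK⟩ := X.lh.jcomp_c Z X.jc X.kl
  obtain ⟨c', hc'1, hc'W, hc'Z, -, hc'K⟩ := X.lh.jcomp_c Z X'.jc X'.kl
  have hcH : c ∈ hC T K' := ⟨hcZ, mem_centralizer_iff.mpr fun x hx =>
    (mem_centralizer_iff.mp (X.lh.jcomp_centralizes Z X.jc X.kl X'.jc X'.kl hne hx) c hcW).symm⟩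
  have hc'H : c' ∈ hC T K := ⟨hc'Z, mem_centralizer_iff.mpr fun x hx =>
    (mem_centralizer_iff.mp (X.lh.jcomp_centralizes Z X'.jc X'.kl X.jc X.kl (Ne.symm hne) hx) c'
      hc'W).symm⟩
  have hcH' : c ∉ hC T K := fun h => hcK fun x hx =>
    mem_centralizer_singleton_iff.mpr (mem_centralizer_iff.mp h.2 x hx)
  have hc'H' : c' ∉ hC T K' := fun h => hc'K fun x hx =>
    mem_centralizer_singleton_iff.mpr (mem_centralizer_iff.mp h.2 x hx)
  have hcc : c ≠ c' := fun e => hc'H' (e ▸ hcH)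
  have h4 := X.card_zJ_le_four (X.conj hgM) hJ hneL
  have hcases := four_cases h4 hcZ hc'Z hc1 hc'1 hcc (om_sq hcZ)
  have key : ∀ {Ki : Subgroup G}, TopHyp M S T L Ki → ∀ x ∈ hC T Ki, x ≠ 1 →
      g * x * g⁻¹ = c * c' := by
    intro Ki Xi x hx hx1
    have hmem := mem_hC_cj (g := g) hx
    have hne1 : g * x * g⁻¹ ≠ 1 := fun e => hx1 (conj_eq_one_iff.mp e)
    have hZ : g * x * g⁻¹ ∈ zJ T := zJ_congr hJ ▸ hmem.1
    have hd1 := X.inter_bot (Xi.conj hgM) hJ hneL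
    have hd2 := X'.inter_bot (Xi.conj hgM) hJ hneL
    rcases hcases _ hZ with e | e | e | e
    · exact absurd e hne1
    · exact absurd (hd2.le ⟨e ▸ hcH, hmem⟩) (fun h => hne1 (mem_bot.mp h))
    · exact absurd (hd1.le ⟨e ▸ hc'H, hmem⟩) (fun h => hne1 (mem_bot.mp h))
    · exact e
  exact hcc (mul_left_cancel (mul_right_cancel
    ((key X' c hcH hc1).trans (key X c' hc'H hc'1).symm)))

theorem TopHyp.le_normalizer_of {g : G} (hg : g ∈ normalizer (jay 2 T : Set G)) (hgL : g ∉ L) :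
    T ≤ normalizer (K : Set G) := fun t ht => by
  have htM := X.max.1.2.2.1 ht
  have X' := X.conj htM
  rw [cj_of_mem_normalizer (le_normalizer ht), cj_of_mem_normalizer (le_normalizer (X.lh.syl.1 ht))]
    at X'
  exact Thompson.mem_normalizer_of_map_conj (X.unique hg hgL X')

/-- An element normalising `T` outside `L`, if `T` is no Sylow subgroup. -/
theorem TopHyp.exists_g (P : Sylow 2 G) (hTP : T < (P : Subgroup G)) :
    ∃ g, g ∈ (P : Subgroup G) ∧ g ∈ normalizer (T : Set G) ∧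
      g ∈ normalizer (jay 2 T : Set G) ∧ g ∉ L := by
  obtain ⟨g, hg, hgT⟩ := SetLike.exists_of_lt (exists_normalizer_gt P.isPGroup' hTP)
  refine ⟨g, hg.1, hg.2, normalizer_le_normalizer_jay 2 T hg.2, fun hgL => hgT ?_⟩
  have hR := sylowTwoIn_eq_of_le X.lh.syl
    (P.isPGroup'.to_le (inf_le_left.trans inf_le_left) :
      IsPGroup 2 ↥((P : Subgroup G) ⊓ normalizer (T : Set G) ⊓ L : Subgroup G))
    inf_le_right (le_inf (le_inf hTP.le le_normalizer) X.lh.syl.1)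
  rw [← hR]
  exact ⟨hg, hgL⟩

/-- `T` centralises `Z₀` once it normalises `K` and `|Z₀| ≤ 4`. -/
theorem TopHyp.om_eq (hN : T ≤ normalizer (K : Set G)) (h4 : Nat.card (zJ T) ≤ 4) :
    Cfsg.omegaCenterOf T = zJ T := by
  refine le_antisymm om_le_om_jay fun z hz => ?_
  have Z := X.m.zn
  obtain ⟨c, hc1, hcW, hcZ, hline, hcK⟩ := X.lh.jcomp_c Z X.jc X.kl
  refine mem_om.mpr ⟨jay_le (mem_om.mp hz).1, fun t ht => ?_, (mem_om.mp hz).2.2⟩
  have htJ : t ∈ normalizer (jay 2 T : Set G) := normalizer_le_normalizer_jay 2 T (le_normalizer ht)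
  have htZ : ∀ x ∈ zJ T, t * x * t⁻¹ ∈ zJ T := fun x hx =>
    (mem_normalizer_iff.mp (normalizer_le_normalizer_om _ htJ) x).mp hx
  have htc : Commute t c := by
    have hW : t * c * t⁻¹ ∈ Cfsg.wOf K :=
      (mem_normalizer_iff.mp (normalizer_le_normalizer_wOf K (hN ht)) c).mp hcW
    rcases hline _ hW (fun j hj => mem_zJ_commute (htZ c hcZ) hj) with e | e
    · exact absurd (conj_eq_one_iff.mp e) hc1
    · exact mul_inv_eq_iff_eq_mul.mp e
  have htH : ∀ x ∈ hC T K, Commute t x := by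
    intro x hx
    rcases eq_or_ne x 1 with rfl | hx1
    · exact Commute.one_right t
    have hcH : c ∉ hC T K := fun h => hcK fun x hx =>
      mem_centralizer_singleton_iff.mpr (mem_centralizer_iff.mp h.2 x hx)
    have h2 : Nat.card (hC T K) ≤ 2 := by
      obtain ⟨d, hd⟩ := card_dvd_of_le (inf_le_left : hC T K ≤ zJ T)
      rcases d with _ | _ | d
      · have := Nat.card_pos (α := zJ T); omega
      · exact absurd ((Subgroup.eq_of_le_of_card_ge inf_le_left (hd.trans (mul_one _)).le : hC T K = zJ T) ▸ hcZ) hcH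
      · nlinarith
    have ht' : t * x * t⁻¹ ∈ hC T K := by
      have := mem_hC_cj (g := t) hx
      rwa [cj_of_mem_normalizer (le_normalizer ht), cj_of_mem_normalizer (hN ht)] at this
    rcases two_cases h2 hx hx1 _ ht' with e | e
    · exact absurd (conj_eq_one_iff.mp e) hx1
    · exact mul_inv_eq_iff_eq_mul.mp e
  by_cases hzH : z ∈ hC T K
  · exact htH z hzH
  -- `z` is the product of `c` and an element of `C_{Z₀}(K)`
  have hb := X.lh.jcomp_card Z X.jc X.kl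
  rcases eq_or_ne z c with rfl | hzc
  · exact htc
  obtain ⟨x, hx, hx1⟩ : ∃ x ∈ hC T K, x ≠ 1 := by
    by_contra hno
    push Not at hno
    have hbot : hC T K = ⊥ := (Subgroup.eq_bot_iff_forall _).mpr hno
    rw [hbot, card_bot] at hb
    rcases two_cases (by omega : Nat.card (zJ T) ≤ 2) hcZ hc1 z hz with e | e
    · exact hzH (e ▸ (hC T K).one_mem)
    · exact hzc e
  rcases four_cases h4 hcZ hx.1 hc1 hx1 (fun e => hcK fun y hy =>
    mem_centralizer_singleton_iff.mpr (mem_centralizer_iff.mp (e ▸ hx.2) y hy)) (om_sq hcZ) z hz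
    with rfl | rfl | rfl | rfl
  · exact Commute.one_right t
  · exact absurd rfl hzc
  · exact htH _ hx
  · exact htc.mul_right (htH x hx)

theorem TopHyp.om_sylow_le (P : Sylow 2 G) (hTP : T ≤ (P : Subgroup G)) :
    Cfsg.omegaCenterOf (P : Subgroup G) ≤ Cfsg.omegaCenterOf T := fun _ hz =>
  have hzV := X.lh.om_sylow_le X.m.zn hTP hz
  mem_om.mpr ⟨X.lh.Vc_le X.m.zn hzV, fun t ht => (mem_om.mp hz).2.1 t (hTP ht), (mem_om.mp hz).2.2⟩

/-- The situation `T < P`. -/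
theorem TopHyp.lt_facts (P : Sylow 2 G) (hTP : T < (P : Subgroup G)) :
    T ≤ normalizer (K : Set G) ∧ Nat.card (zJ T) ≤ 4 ∧
      Nat.card (Cfsg.omegaCenterOf (P : Subgroup G)) = 2 ∧
      ∃ g, g ∈ (P : Subgroup G) ∧ g ∈ normalizer (T : Set G) ∧ g ∉ L ∧
        ∀ x ∈ hC T K, g * x * g⁻¹ ∈ hC T K → x = 1 := by
  obtain ⟨g, hgP, hgT, hgJ, hgL⟩ := X.exists_g P hTP
  have hgM := X.m.normalizer_jay_le X.max hgJ
  have hneL : cj g L ≠ L := fun e => hgL (X.mem_of_cj_eq e)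
  have hJ := X.cj_jay hgJ
  have h4 := X.card_zJ_le_four (X.conj hgM) hJ hneL
  have hfree : ∀ x ∈ hC T K, g * x * g⁻¹ ∈ hC T K → x = 1 := fun x hx hgx =>
    conj_eq_one_iff.mp (mem_bot.mp ((X.inter_bot (X.conj hgM) hJ hneL).le ⟨hgx, mem_hC_cj hx⟩))
  refine ⟨X.le_normalizer_of hgJ hgL, h4, ?_, g, hgP, hgT, hgL, hfree⟩
  have hne : Cfsg.omegaCenterOf (P : Subgroup G) ≠ ⊥ :=
    om_ne_bot P.isPGroup' fun e => X.max.1.2.1 (le_bot_iff.mp (e ▸ hTP.le))
  have h1 : 1 < Nat.card (Cfsg.omegaCenterOf (P : Subgroup G)) :=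
    Finite.one_lt_card_iff_nontrivial.mpr ((Subgroup.nontrivial_iff_ne_bot _).mpr hne)
  refine le_antisymm ?_ h1
  by_contra hgt
  set Z' := Cfsg.omegaCenterOf (P : Subgroup G) with hZ'
  have hle : Z' ≤ zJ T := (X.om_sylow_le P hTP.le).trans om_le_om_jay
  have heq : Z' = zJ T := by
    obtain ⟨d, hd⟩ := card_dvd_of_le hle
    rcases d with _ | _ | d
    · have := Nat.card_pos (α := zJ T); omega
    · exact Subgroup.eq_of_le_of_card_ge hle (hd.trans (mul_one _)).le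
    · nlinarith
  obtain ⟨x, hx, hx1⟩ : ∃ x ∈ hC T K, x ≠ 1 := by
    by_contra hno
    push Not at hno
    have hb := X.lh.jcomp_card X.m.zn X.jc X.kl
    rw [(Subgroup.eq_bot_iff_forall (hC T K)).mpr hno, card_bot, ← heq] at hb
    omega
  refine hx1 (hfree x hx ?_)
  have hxZ : x ∈ Z' := heq ▸ hx.1
  rw [((mem_om.mp hxZ).2.1 g hgP).eq, mul_inv_cancel_right]
  exact hx

end

end Cfsg.Agent.H85.ZN
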