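import Cfsg.Agent.H85.ZN.Offend

/-!
The subgroup over `O₂(L)` of index three attached to a transvection involution of `L`, and its
subgroup generated by elements of odd order.
-/

set_option autoImplicit false
set_option linter.style.haveILetI false
set_option linter.unusedSectionVars false

namespace Cfsg.Agent.H85.ZN

open Subgroup Cfsg.Agent.Thompson

variable {G : Type*} [Group G] [Finite G]

/-- `W` is the plane of the transvection induced by `a` on `Ω₁Z(O₂(L))`. -/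
def IsPlaneOf (L : Subgroup G) (a : G) (W : Subgroup G) : Prop :=
  a * a = 1 ∧ ∃ (S : Setup ↥(Hq L) ↥(Vc L)) (ha : a ∈ L) (ht : IsTv ↥(Vc L) (img L ⟨a, ha⟩)),
    W = (S.plane ht).map (Vc L).subtype

/-- The set defining `piece`. -/
def pieceSet (L : Subgroup G) (a : G) : Set G :=
  {x | ∃ hx : x ∈ L, (∃ (S : Setup ↥(Hq L) ↥(Vc L)) (ha : a ∈ L)
    (ht : IsTv ↥(Vc L) (img L ⟨a, ha⟩)), img L ⟨x, hx⟩ ∈ zpowers (S.dOf ht)) ∧
    a * x * a * x ∈ Cfsg.pCoreOf 2 L}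

/-- The index three extension of `O₂(L)` inverted by `a`. -/
def piece (L : Subgroup G) (a : G) : Subgroup G := closure (pieceSet L a)

instance coreSubgroupOf_normal (L : Subgroup G) :
    ((Cfsg.pCoreOf 2 L).subgroupOf L).Normal :=
  normal_subgroupOf_of_le_normalizer (le_normalizer_pCoreOf L)

/-- The projection modulo `O₂(L)`. -/
abbrev proj (L : Subgroup G) : ↥L →* ↥L ⧸ (Cfsg.pCoreOf 2 L).subgroupOf L := QuotientGroup.mk' _

theorem proj_eq_one {L : Subgroup G} {x : L} : proj L x = 1 ↔ (x : G) ∈ Cfsg.pCoreOf 2 L :=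
  (QuotientGroup.eq_one_iff x).trans mem_subgroupOf

section

variable {L T : Subgroup G} (Z : ZHyp G) (h : LHyp L T)
include Z h

theorem LHyp.proj_commute {g c : L} (hg : (g : G) ∈ gen2 L) (hc : (c : G) ∈ Cn L) :
    Commute (proj L g) (proj L c) := by
  have : proj L (g * c * g⁻¹ * c⁻¹) = 1 := proj_eq_one.mpr (h.comm_gen2 Z hg hc)
  simp only [map_mul, map_inv] at this
  exact mul_inv_eq_iff_eq_mul.mp (mul_inv_eq_one.mp this)

theorem LHyp.proj_sq {c : L} (hc : (c : G) ∈ Cn L) (h2 : proj L c * proj L c = 1) :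
    proj L c = 1 := by
  rw [← map_mul, proj_eq_one] at h2
  exact proj_eq_one.mpr (h.mem_core_of_sq Z hc h2)

omit Z h in
theorem mem_Cn_coe {L : Subgroup G} (x : L) : (x : G) ∈ Cn L ↔ img L x = 1 := by
  obtain ⟨x, hx⟩ := x
  exact mem_Cn hx

variable {a : G} (ha : a ∈ L) (ha2 : a * a = 1) (ht : IsTv ↥(Vc L) (img L ⟨a, ha⟩))
include ha2

/-- The generator of the piece. -/
theorem LHyp.exists_gen : ∃ u : L, (u : G) ∈ gen2 L ∧ img L u = (h.setup Z).dOf ht ∧
    proj L ⟨a, ha⟩ * proj L u * proj L ⟨a, ha⟩ = (proj L u)⁻¹ ∧ proj L u ^ 3 = 1 ∧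
    pieceSet L a = {x | ∃ hx : x ∈ L, proj L ⟨x, hx⟩ ∈ zpowers (proj L u)} := by
  set S := h.setup Z
  set t := img L ⟨a, ha⟩ with htdef
  set d := S.dOf ht with hd
  set α : L := ⟨a, ha⟩ with hα
  have hαα : α * α = 1 := Subtype.ext ha2
  have hαinv : α⁻¹ = α := inv_eq_of_mul_eq_one_right hαα
  have ht2 := S.tv_sq ht
  obtain ⟨y, hy⟩ := (rho L).rangeRestrict_surjective d
  set u : L := α * (y * α * y⁻¹) with hu
  have hagen : a ∈ gen2 L := subset_closure ⟨ha, 1, by rw [pow_one, pow_two, ha2]⟩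
  have hugen : (u : G) ∈ gen2 L := by
    refine mul_mem hagen (subset_closure ⟨(y * α * y⁻¹).2, 1, ?_⟩)
    rw [pow_one, ← SubgroupClass.coe_pow, conj_pow, pow_two, hαα]; simp
  have hd3 : d * d * d = 1 := by rw [← pow_three', ← S.orderOf_dOf ht, ← hd, pow_orderOf_eq_one]
  have himgu : img L u = d := by
    rw [hu, map_mul, map_mul, map_mul, map_inv, hy, ← htdef]
    calc t * (d * t * d⁻¹) = t * d * t * d⁻¹ := by simp only [mul_assoc]
      _ = d⁻¹ * d⁻¹ := by rw [S.tv_dOf ht]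
      _ = d := by rw [← mul_inv_rev]; exact inv_eq_of_mul_eq_one_right hd3
  set A := proj L α with hA
  set U := proj L u with hU
  have hAA : A * A = 1 := by rw [hA, ← map_mul, hαα, map_one]
  have hAUA : A * U * A = U⁻¹ := by
    rw [hA, hU, ← map_mul, ← map_mul, ← map_inv, hu]
    congr 1
    simp only [mul_inv_rev, inv_inv, hαinv, mul_assoc]
    rw [← mul_assoc α α, hαα, one_mul]
  have hγ : ∀ c : L, (c : G) ∈ Cn L → Commute A (proj L c) ∧ Commute U (proj L c) := fun c hc =>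
    ⟨h.proj_commute Z hagen hc, h.proj_commute Z hugen hc⟩
  have hpowAUA : ∀ n : ℤ, A * U ^ n * A = (U ^ n)⁻¹ := fun n => by
    have : (A * U * A⁻¹) ^ n = A * U ^ n * A⁻¹ := conj_zpow
    rw [inv_eq_of_mul_eq_one_right hAA, hAUA, inv_zpow] at this
    exact this.symm
  have hU3 : U ^ 3 = 1 := by
    have hc : ((u ^ 3 : L) : G) ∈ Cn L := by
      rw [mem_Cn_coe, map_pow, himgu, pow_three', hd3]
    rw [hU, ← map_pow]
    refine h.proj_sq Z hc ?_
    have h1 : A * proj L (u ^ 3) * A = (proj L (u ^ 3))⁻¹ := by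
      rw [map_pow, ← hU, ← zpow_natCast]; exact hpowAUA 3
    rw [(hγ _ hc).1.eq, mul_assoc, hAA, mul_one] at h1
    exact mul_eq_one_iff_eq_inv.mpr h1
  refine ⟨u, hugen, himgu, hAUA, hU3, ?_⟩
  ext x
  constructor
  · rintro ⟨hx, ⟨S', ha', ht', hmem⟩, hinv⟩
    refine ⟨hx, ?_⟩
    obtain ⟨n, hn⟩ := hmem
    have hc : (((u ^ n)⁻¹ * ⟨x, hx⟩ : L) : G) ∈ Cn L := by
      rw [mem_Cn_coe, map_mul, map_inv, map_zpow, himgu]
      exact inv_mul_eq_one.mpr hn
    set γ := proj L ((u ^ n)⁻¹ * ⟨x, hx⟩) with hγdef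
    have hXeq : proj L ⟨x, hx⟩ = U ^ n * γ := by
      rw [hγdef, map_mul, map_inv, map_zpow, ← hU, mul_inv_cancel_left]
    have h1 : A * proj L ⟨x, hx⟩ * A * proj L ⟨x, hx⟩ = 1 := by
      rw [hA, ← map_mul, ← map_mul, ← map_mul, proj_eq_one]; exact hinv
    rw [hXeq] at h1
    have hcU : Commute γ (U ^ n) := ((hγ _ hc).2.symm).zpow_right n
    have hγ2 : γ * γ = 1 := by
      calc γ * γ = (U ^ n)⁻¹ * γ * (U ^ n * γ) := by
            rw [← mul_assoc, mul_assoc ((U ^ n)⁻¹) γ, hcU.eq, inv_mul_cancel_left]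
        _ = A * U ^ n * A * γ * (U ^ n * γ) := by rw [hpowAUA]
        _ = A * (U ^ n * γ) * A * (U ^ n * γ) := by
            have : A * γ = γ * A := (hγ _ hc).1.eq
            rw [mul_assoc (A * U ^ n) A γ, this]; simp only [mul_assoc]
        _ = 1 := h1
    rw [hXeq, show γ = 1 from h.proj_sq Z hc hγ2, mul_one]
    exact zpow_mem_zpowers U n
  · rintro ⟨hx, n, hn : U ^ n = proj L ⟨x, hx⟩⟩
    refine ⟨hx, ⟨S, ha, ht, ?_⟩, ?_⟩
    · have hc : (((u ^ n)⁻¹ * ⟨x, hx⟩ : L) : G) ∈ Cn L := by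
        refine pCoreOf_le_Cn L (proj_eq_one.mp ?_)
        rw [map_mul, map_inv, map_zpow, ← hU, hn, inv_mul_cancel]
      rw [mem_Cn_coe, map_mul, map_inv, inv_mul_eq_one, map_zpow, himgu] at hc
      exact hc ▸ zpow_mem_zpowers d n
    · have h1 : proj L (α * ⟨x, hx⟩ * α * ⟨x, hx⟩) = 1 := by
        rw [map_mul, map_mul, map_mul, ← hn, ← hA, hpowAUA, inv_mul_cancel]
      exact proj_eq_one.mp h1

theorem LHyp.piece_eq {u : L}
    (hu : pieceSet L a = {x | ∃ hx : x ∈ L, proj L ⟨x, hx⟩ ∈ zpowers (proj L u)}) :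
    piece L a = ((zpowers (proj L u)).comap (proj L)).map L.subtype := by
  rw [piece, hu]
  refine le_antisymm ((closure_le _).mpr fun x ⟨hx, hm⟩ => ⟨⟨x, hx⟩, hm, rfl⟩) ?_
  rintro _ ⟨⟨x, hx⟩, hm, rfl⟩
  exact subset_closure ⟨hx, hm⟩

include ha ht in
theorem LHyp.mem_piece {x : G} : x ∈ piece L a ↔ x ∈ pieceSet L a := by
  refine ⟨fun hx => ?_, fun hx => subset_closure hx⟩
  obtain ⟨u, -, -, -, -, hu⟩ := h.exists_gen Z ha ha2 ht
  rw [h.piece_eq Z ha2 hu] at hx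
  obtain ⟨⟨x, hxL⟩, hm, rfl⟩ := hx
  rw [hu]; exact ⟨hxL, hm⟩

end

end Cfsg.Agent.H85.ZN
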