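import Cfsg.Agent.H85.ZN.Dich

/-!
The two parabolic-like subgroups over a maximal straddling subgroup.
-/

set_option autoImplicit false
set_option linter.style.haveILetI false
set_option linter.unusedSectionVars false

namespace Cfsg.Agent.H85.ZN

open Subgroup Cfsg.Agent.Thompson

variable {G : Type*} [Group G] [Finite G]
variable {M : Subgroup G} {S : Sylow 2 G} {T L K : Subgroup G} (X : TopHyp M S T L K)
include X

/-- An element of `N(T)` outside `L`, unless `T` is a Sylow subgroup and `N(J(T)) ≤ L`. -/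
theorem TopHyp.normalizer_cases :
    (∃ g, g ∈ normalizer (T : Set G) ∧ g ∈ normalizer (jay 2 T : Set G) ∧ g ∉ L) ∨
    (∃ P : Sylow 2 G, T = (P : Subgroup G) ∧ normalizer (jay 2 T : Set G) ≤ L) := by
  obtain ⟨P, hP⟩ := X.lh.syl.2.1.exists_le_sylow
  rcases eq_or_lt_of_le hP with rfl | hlt
  swap
  · obtain ⟨g, -, hgT, hgJ, hgL⟩ := X.exists_g P hlt
    exact .inl ⟨g, hgT, hgJ, hgL⟩
  by_cases hN : normalizer (jay 2 (P : Subgroup G) : Set G) ≤ L
  · exact .inr ⟨P, rfl, hN⟩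
  obtain ⟨g, hgJ, hgL⟩ := SetLike.not_le_iff_exists.mp hN
  refine .inl ⟨g, ?_, hgJ, hgL⟩
  have hgM := X.m.normalizer_jay_le X.max hgJ
  have h4 := X.card_zJ_le_four (X.conj hgM) (X.cj_jay hgJ) fun e => hgL (X.mem_of_cj_eq e)
  have hom := X.om_eq (X.le_normalizer_of hgJ hgL) h4
  -- `C(Z)` has `P` as its only Sylow 2-subgroup
  set C := centralizer (Cfsg.omegaCenterOf (P : Subgroup G) : Set G) with hC
  have hPC : (P : Subgroup G) ≤ C := fun p hp =>
    mem_centralizer_iff.mpr fun e he => ((mem_om.mp he).2.1 p hp).eq.symm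
  have hgZ : cj g (Cfsg.omegaCenterOf (P : Subgroup G)) = Cfsg.omegaCenterOf (P : Subgroup G) := by
    rw [hom]
    exact cj_of_mem_normalizer (normalizer_le_normalizer_om _ hgJ)
  have hgC : cj g C = C := by rw [hC, centralizer_cj, hgZ]
  have hPN : Cfsg.IsSylowTwoIn (P : Subgroup G) (normalizer ((P : Subgroup G) : Set G)) :=
    ⟨le_normalizer, P.isPGroup', by
      haveI : Fact (Nat.Prime 2) := ⟨Nat.prime_two⟩
      exact Odd.of_dvd_nat
        (Nat.not_even_iff_odd.mp fun h => P.not_dvd_index (even_iff_two_dvd.mp h))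
        (Dvd.intro _ (relIndex_mul_index le_normalizer))⟩
  obtain ⟨l, hl, hle⟩ := sylowTwoIn_conj hPN (isPGroup_cj (g := g) P.isPGroup')
    (((cj_le_cj hPC).trans hgC.le).trans (X.m.zn.zc P))
  rw [cj_of_mem_normalizer hl] at hle
  exact Thompson.mem_normalizer_of_map_conj
    (Subgroup.eq_of_le_of_card_ge hle (card_cj g (P : Subgroup G)).ge)

/-- The second component. -/
theorem TopHyp.exists_pair : T ≤ normalizer (K : Set G) ∧ Nat.card (zJ T) ≤ 4 ∧
    ∃ (M' : Subgroup G) (S' : Sylow 2 G) (L' K' : Subgroup G),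
      L' ≠ L ∧ TopHyp M' S' T L' K' ∧ T ≤ normalizer (K' : Set G) := by
  obtain ⟨M', S', L', K', hne, X'⟩ : ∃ (M' : Subgroup G) (S' : Sylow 2 G) (L' K' : Subgroup G),
      L' ≠ L ∧ TopHyp M' S' T L' K' := by
    rcases X.normalizer_cases with ⟨g, hgT, hgJ, hgL⟩ | ⟨P, hP, hN⟩
    · have X1 := X.conj (X.m.normalizer_jay_le X.max hgJ)
      rw [cj_of_mem_normalizer hgT] at X1
      exact ⟨M, S, _, _, fun e => hgL (X.mem_of_cj_eq e), X1⟩
    · obtain ⟨L2, K2, hne, X2⟩ := X.exists_second P hP hN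
      exact ⟨L, P, L2, K2, hne, X2⟩
  exact ⟨X.le_normalizer_two X' hne, X.card_zJ_le_four X' rfl hne, M', S', L', K', hne, X',
    X'.le_normalizer_two X hne.symm⟩

/-- The 2-core of `⟨K, T⟩`. -/
theorem TopHyp.pprops (hN : T ≤ normalizer (K : Set G)) (h4 : Nat.card (zJ T) ≤ 4) :
    Subgroup.centralizer (Cfsg.pCoreOf 2 (K ⊔ T) : Set G) ≤ Cfsg.pCoreOf 2 (K ⊔ T) ∧
      Cfsg.IsSylowTwoIn T (K ⊔ T) ∧ (Cfsg.pCoreOf 2 (K ⊔ T)).relIndex (K ⊔ T) = 6 ∧
      ¬ ⁅K ⊔ T, K ⊔ T⁆ ≤ Cfsg.pCoreOf 2 (K ⊔ T) ∧ ⁅Cfsg.omegaCenterOf T, K ⊔ T⁆ ≠ ⊥ ∧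
      ∃ L : Subgroup G, Cfsg.IsMaximalTwoLocal L ∧ K ⊔ T ≤ L ∧ Cfsg.IsSylowTwoIn T L ∧
        ∀ L' : Subgroup G, Cfsg.IsMaximalTwoLocal L' → K ⊔ T ≤ L' → L' = L := by
  have Z := X.m.zn
  set P := K ⊔ T with hP
  have hKP : K ≤ P := le_sup_left
  have hTP : T ≤ P := le_sup_right
  have hPL : P ≤ L := sup_le X.kl X.lh.syl.1
  have hsyl : Cfsg.IsSylowTwoIn T P :=
    ⟨hTP, X.lh.syl.2.1, Odd.of_dvd_nat X.lh.syl.2.2 ⟨_, (relIndex_mul_relIndex T P L hTP hPL).symm⟩⟩
  have hQ : Cfsg.pCoreOf 2 L ≤ Cfsg.pCoreOf 2 P := le_pCoreOf (isPGroup_pCoreOf L)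
    ((pCoreOf_le_sylowTwoIn X.lh.syl).trans hTP) (hPL.trans (le_normalizer_pCoreOf L))
  obtain ⟨a, ha, hKa⟩ := X.lh.exists_eq_comp Z X.jc X.kl
  obtain ⟨k, hkL, hkK, hk3, hak, hkQ, hkd, hk1, -⟩ := X.lh.exists_k3 Z ha.tvL
  obtain ⟨c, hc1, hcW, hcZ, hline, hcK⟩ := X.lh.exists_c Z ha
  rw [← hKa] at hkK hcK
  have hTc : ∀ t ∈ T, Commute t c := fun t ht =>
    (mem_om.mp (by rw [X.om_eq hN h4]; exact hcZ : c ∈ Cfsg.omegaCenterOf T)).2.1 t ht
  set W := planeA L a with hW
  have hWK : Cfsg.wOf K = W := by rw [hKa]; exact X.lh.wOf_comp Z ha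
  have hPW : P ≤ normalizer (W : Set G) := hWK ▸
    (sup_le le_normalizer hN).trans (normalizer_le_normalizer_wOf K)
  have hW4 : Nat.card W = 4 := card_planeA (X.lh.setup Z) ha.tvL
  have hWV : W ≤ Vc L := planeA_le (X.lh.setup Z) ha.tvL
  -- the index of the core of `K`
  set Q := Cfsg.pCoreOf 2 K with hQK
  have hQle : Q ≤ K ⊓ T := by
    refine le_inf (pCoreOf_le 2 K) ?_
    rw [hQK, hKa, (X.lh.core_comp Z ha.tvL).1]
    exact inf_le_right.trans (pCoreOf_le_sylowTwoIn X.lh.syl)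
  have hQW : Q ≤ centralizer (W : Set G) := by
    rw [hQK, hKa, (X.lh.core_comp Z ha.tvL).1]
    exact inf_le_right.trans ((pCoreOf_le_Cn L).trans (inf_le_right.trans (Subgroup.centralizer_le hWV)))
  have h3 : Q.relIndex K = 3 := X.jc.2.2.1
  have key3 : ∀ H : Subgroup G, Q ≤ H → H ≤ K → H ≠ K → H = Q := by
    intro H hQH hHK hne
    have hm := relIndex_mul_relIndex Q H K hQH hHK
    rw [h3] at hm
    rcases (Nat.dvd_prime Nat.prime_three).mp (Dvd.intro _ hm) with e | e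
    · exact le_antisymm (relIndex_eq_one.mp e) hQH
    · rw [e] at hm
      exact absurd (le_antisymm hHK (relIndex_eq_one.mp (by omega))) hne
  have hKT : K ⊓ T = Q := key3 _ hQle inf_le_left fun e =>
    jcomp_not_pGroup X.jc (X.lh.syl.2.1.to_le (e.ge.trans inf_le_right))
  have hKc : K ⊓ centralizer ({c} : Set G) = Q := key3 _
    (le_inf (hQle.trans inf_le_left) fun q hq => mem_centralizer_singleton_iff.mpr
      (mem_centralizer_iff.mp (hQW hq) c hcW).symm) inf_le_left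
    fun e => hcK (inf_eq_left.mp e)
  -- the index of `T`
  have hT3 : T.relIndex P = 3 := by
    have e1 : (K ⊓ T).relIndex P = 3 * K.relIndex P := by
      rw [← relIndex_mul_relIndex _ _ _ inf_le_left hKP, hKT, h3]
    have e2 : (K ⊓ T).relIndex P = K.relIndex T * T.relIndex P := by
      rw [← relIndex_mul_relIndex _ _ _ inf_le_right hTP, inf_relIndex_right]
    have e3 : K.relIndex P = K.relIndex T := by
      haveI := normal_subgroupOf_of_le_normalizer (sup_le le_normalizer hN : P ≤ normalizer (K : Set G))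
      rw [← relIndex_subgroupOf (le_refl P), ← relIndex_subgroupOf hTP (H := K),
        subgroupOf_self, show (⊤ : Subgroup ↥P) = T.subgroupOf P ⊔ K.subgroupOf P by
          rw [← subgroupOf_sup hTP hKP, sup_comm, ← hP, subgroupOf_self], relIndex_sup_right]
    rw [e3] at e1
    have hpos : K.relIndex T ≠ 0 := index_ne_zero_of_finite
    exact Nat.eq_of_mul_eq_mul_left (Nat.pos_of_ne_zero hpos) (by rw [← e2, e1, mul_comm])
  -- the kernel on `W`
  set R := P ⊓ centralizer (W : Set G) with hR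
  have hRT : R ≤ T := by
    intro p hp
    have hp1 : p ∈ ((K ⊔ T : Subgroup G) : Set G) := hp.1
    rw [sup_comm, Subgroup.coe_mul_of_left_le_normalizer_right T K hN] at hp1
    obtain ⟨t, ht, κ, hκ, rfl⟩ := hp1
    refine T.mul_mem ht (hQle (hKc.le ⟨hκ, mem_centralizer_singleton_iff.mpr ?_⟩)).2
    have h1 : Commute (t * κ) c := (mem_centralizer_iff.mp hp.2 c hcW).symm
    have := ((hTc t ht).inv_left).mul_left h1
    rwa [inv_mul_cancel_left] at this
  have hR2 : R ≤ Cfsg.pCoreOf 2 P := le_pCoreOf (X.lh.syl.2.1.to_le hRT) inf_le_left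
    fun g hg => H61.mem_normalizer_of_conj_mem fun x hx => by
      refine ⟨P.mul_mem (P.mul_mem hg hx.1) (P.inv_mem hg), mem_centralizer_iff.mpr fun w hw => ?_⟩
      have hw' : g⁻¹ * w * g ∈ W := by
        have := (mem_normalizer_iff.mp (hPW (P.inv_mem hg)) w).mp hw; rwa [inv_inv] at this
      have h1 : Commute (g⁻¹ * w * g) x := mem_centralizer_iff.mp hx.2 _ hw'
      have := h1.map (MulAut.conj g).toMonoidHom
      simpa [mul_assoc] using this.eq
  set w := k * c * k⁻¹ with hw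
  have hwW : w ∈ W := (mem_normalizer_iff.mp (hPW (hKP hkK)) c).mp hcW
  have hkfix : ∀ x ∈ W, Commute k x → x = 1 := by
    intro x hx hkx
    have S' := X.lh.setup Z
    rw [hW, planeA_eq S' ha.tvL] at hx
    obtain ⟨v, hv, rfl⟩ := hx
    have hfix : img L ⟨k, hkL⟩ • v = v := (img_smul_eq_iff _ v).mpr hkx
    have : v = 1 := by
      refine S'.eq_one_of_dOf_fixed ha.tvL.tv ?_ hv
      rcases zpow3_cases (S'.orderOf_dOf ha.tvL.tv) hkd with e | e | e
      · exact absurd e hk1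
      · rwa [e] at hfix
      · rw [e, mul_smul] at hfix
        have h5 := congrArg (S'.dOf ha.tvL.tv • ·) hfix
        simp only [S'.dOf_cube ha.tvL.tv] at h5
        exact h5.symm
    simp [this]
  have hwc : c ≠ w := fun e => hc1 (hkfix c hcW (mul_inv_eq_iff_eq_mul.mp e.symm))
  have hw1 : w ≠ 1 := fun e => hc1 (conj_eq_one_iff.mp e)
  have hcases : ∀ x ∈ W, x = 1 ∨ x = c ∨ x = w ∨ x = c * w :=
    four_cases hW4.le hcW hwW hc1 hw1 hwc (om_sq (hWV hcW))
  have hfixW : ∀ x : G, Commute x c → Commute x w → x ∈ centralizer (W : Set G) := fun x h1 h2 =>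
    mem_centralizer_iff.mpr fun y hy => by
      rcases hcases y hy with e | e | e | e <;> rw [e]
      · simp
      · exact h1.eq.symm
      · exact h2.eq.symm
      · exact (h1.mul_right h2).eq.symm
  have hO : Cfsg.pCoreOf 2 P = R := by
    refine le_antisymm (fun q hq => ⟨pCoreOf_le 2 P hq, ?_⟩) hR2
    have hqT : ∀ q ∈ Cfsg.pCoreOf 2 P, Commute q c := fun q hq =>
      hTc q (pCoreOf_le_sylowTwoIn hsyl hq)
    refine hfixW q (hqT q hq) ?_
    have hq' : k⁻¹ * q * k ∈ Cfsg.pCoreOf 2 P := by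
      have := (mem_normalizer_iff.mp (le_normalizer_pCoreOf P (P.inv_mem (hKP hkK))) q).mp hq
      rwa [inv_inv] at this
    have := (hqT _ hq').map (MulAut.conj k).toMonoidHom
    simpa [mul_assoc, hw] using this
  -- index two in `T`
  have haT : a ∈ T := jay_le ha.mem_jay
  have haw : ¬ Commute a w := fun h => by
    rcases hline w hwW h with e | e
    · exact hw1 e
    · exact hwc e.symm
  have hR2' : R.relIndex T = 2 := by
    rw [Subgroup.relIndex, Subgroup.index_eq_two_iff]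
    refine ⟨⟨a, haT⟩, fun t => ?_⟩
    simp only [mem_subgroupOf, Subgroup.coe_mul]
    have hmemR : ∀ x ∈ T, (x ∈ R ↔ Commute x w) := fun x hx =>
      ⟨fun h => (mem_centralizer_iff.mp h.2 w hwW).symm,
        fun h => ⟨hTP hx, hfixW x (hTc x hx) h⟩⟩
    have hmove : ∀ x ∈ T, ¬ Commute x w → x * w * x⁻¹ = c * w := by
      intro x hx hne
      have hm : x * w * x⁻¹ ∈ W := (mem_normalizer_iff.mp (hPW (hTP hx)) w).mp hwW
      rcases hcases _ hm with e | e | e | e
      · exact absurd (conj_eq_one_iff.mp e) hw1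
      · refine absurd ?_ hwc
        have : x * w * x⁻¹ = x * c * x⁻¹ := by rw [e, (hTc x hx).eq, mul_inv_cancel_right]
        exact (mul_left_cancel (mul_right_cancel this)).symm
      · exact absurd (mul_inv_eq_iff_eq_mul.mp e) hne
      · exact e
    rw [hmemR _ (T.mul_mem t.2 haT), hmemR _ t.2]
    by_cases ht : Commute (t : G) w
    · refine .inr ⟨ht, fun h => haw ?_⟩
      have := ht.inv_left.mul_left h
      rwa [inv_mul_cancel_left] at this
    · refine .inl ⟨mul_inv_eq_iff_eq_mul.mp ?_, ht⟩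
      calc (t : G) * a * w * ((t : G) * a)⁻¹ = (t : G) * (a * w * a⁻¹) * (t : G)⁻¹ := by group
        _ = (t : G) * c * (t : G)⁻¹ * ((t : G) * w * (t : G)⁻¹) := by
            rw [hmove a haT haw]; group
        _ = w := by
            rw [(hTc _ t.2).eq, mul_inv_cancel_right, hmove _ t.2 ht, ← mul_assoc,
              om_sq (hWV hcW), one_mul]
  refine ⟨(Subgroup.centralizer_le hQ).trans (X.lh.cent.trans hQ), hsyl, ?_, ?_, ?_, L, X.loc, hPL, X.lh.syl,
    fun L' hL' hle => X.m.top_unique X.max X.jc X.nm X.loc X.sup_jay_le hL'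
      ((sup_le_sup_left jay_le K).trans hle)⟩
  · rw [hO, ← relIndex_mul_relIndex R T P hRT hTP, hR2', hT3]
  · intro hle
    have hK : K ≤ ⁅P, P⁆ := by
      conv_lhs => rw [← X.jc.2.1, tJ_eq]
      exact commutator_mono hKP (jay_le.trans hTP)
    refine haw ?_
    exact absurd (hO.le (hle (hK hkK))).2 fun h =>
      hc1 (hkfix c hcW (mem_centralizer_iff.mp h c hcW).symm)
  · intro hbot
    refine hc1 (hkfix c hcW ?_)
    have hc' : c ∈ Cfsg.omegaCenterOf T := by rw [X.om_eq hN h4]; exact hcZ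
    exact (commutatorElement_eq_one_iff_mul_comm.mp
      (mem_bot.mp (hbot.le (commutator_mem_commutator hc' (hKP hkK))))).symm

omit X in
/-- Distinct tops give a join with trivial 2-core. -/
theorem TopHyp.join_core (X : TopHyp M S T L K) {M' : Subgroup G} {S' : Sylow 2 G}
    {L' K' : Subgroup G} (X' : TopHyp M' S' T L' K') (hne : L' ≠ L) :
    K ≠ K' ∧ Cfsg.pCoreOf 2 ((K ⊔ T) ⊔ (K' ⊔ T)) = ⊥ := by
  refine ⟨fun e => ?_, ?_⟩
  · subst e
    exact hne (X'.m.top_unique X'.max X'.jc X'.nm X'.loc X'.sup_jay_le X.loc X.sup_jay_le).symm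
  by_contra hbot
  set U := (K ⊔ T) ⊔ (K' ⊔ T)
  have hle := X.local_le (isTwoLocal_normalizer (isPGroup_pCoreOf U) hbot)
    (((sup_le_sup_left jay_le K).trans le_sup_left).trans (le_normalizer_pCoreOf U))
  have h2 : K' ⊔ jay 2 T ≤ L :=
    (((sup_le_sup_left jay_le K').trans le_sup_right).trans (le_normalizer_pCoreOf U)).trans hle
  exact hne (X'.m.top_unique X'.max X'.jc X'.nm X'.loc X'.sup_jay_le X.loc h2).symm

/-- The cases for `Z₀`. -/
theorem TopHyp.center_cases (hTS : T ≤ (S : Subgroup G)) :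
    zJ T ⊓ Cfsg.wOf K ≠ ⊥ ∧
      ((Cfsg.omegaCenterOf (S : Subgroup G) = zJ T ∧ Nat.card ↥(zJ T) = 2) ∨
        (Cfsg.omegaCenterOf (S : Subgroup G) = zJ T ∧ Nat.card ↥(zJ T) = 4 ∧
          T = (S : Subgroup G)) ∨
        (Cfsg.omegaCenterOf T = zJ T ∧ Nat.card ↥(zJ T) = 4 ∧
          (L ⊓ Subgroup.centralizer (zJ T : Set G)).relIndex
            (Subgroup.normalizer (zJ T : Set G)) = 2)) := by
  obtain ⟨c, hc1, hcW, hcZ, hline, hcK⟩ := X.lh.jcomp_c X.m.zn X.jc X.kl
  refine ⟨fun e => hc1 (mem_bot.mp (e.le ⟨hcZ, hcW⟩)), ?_⟩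
  obtain ⟨hN, h4, -⟩ := X.exists_pair
  have hom := X.om_eq hN h4
  haveI : Fact (Nat.Prime 2) := ⟨Nat.prime_two⟩
  have hcard : Nat.card (zJ T) = 2 ∨ Nat.card (zJ T) = 4 := by
    have h2 : IsPGroup 2 (zJ T) := (X.lh.syl.2.1.to_le jay_le).to_le (om_le _)
    obtain ⟨n, hn⟩ := h2.exists_card_eq
    have h1 : 1 < Nat.card (zJ T) := Finite.one_lt_card_iff_nontrivial.mpr
      ⟨⟨c, hcZ⟩, 1, fun e => hc1 (congrArg Subtype.val e)⟩
    rcases n with _ | _ | _ | n
    · rw [hn] at h1; omega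
    · exact .inl hn
    · exact .inr hn
    · exfalso
      rw [hn, pow_succ, pow_succ, pow_succ] at h4
      have := Nat.two_pow_pos n
      omega
  rcases eq_or_lt_of_le hTS with hTe | hlt
  · rcases hcard with h | h
    · exact .inl ⟨by rw [← hTe, hom], h⟩
    · exact .inr (.inl ⟨by rw [← hTe, hom], h, hTe⟩)
  obtain ⟨-, -, h2, g, hgS, hgT, hgL, hfree⟩ := X.lt_facts S hlt
  have hZle : Cfsg.omegaCenterOf (S : Subgroup G) ≤ zJ T := hom ▸ X.om_sylow_le S hTS
  rcases hcard with h | h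
  · exact .inl ⟨Subgroup.eq_of_le_of_card_ge hZle (by rw [h, h2]), h⟩
  refine .inr (.inr ⟨hom, h, ?_⟩)
  obtain ⟨z, hz, hz1⟩ : ∃ z ∈ Cfsg.omegaCenterOf (S : Subgroup G), z ≠ 1 := by
    haveI := Finite.one_lt_card_iff_nontrivial.mp
      (by rw [h2]; omega : 1 < Nat.card (Cfsg.omegaCenterOf (S : Subgroup G)))
    obtain ⟨⟨z, hz⟩, hz1⟩ := exists_ne (1 : Cfsg.omegaCenterOf (S : Subgroup G))
    exact ⟨z, hz, fun e => hz1 (Subtype.ext e)⟩
  have hall := two_cases h2.le hz hz1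
  obtain ⟨d, hd, hd1⟩ : ∃ d ∈ hC T K, d ≠ 1 := by
    by_contra hno
    push Not at hno
    have hb := X.lh.jcomp_card X.m.zn X.jc X.kl
    rw [(Subgroup.eq_bot_iff_forall (hC T K)).mpr hno, card_bot] at hb
    omega
  have hzZ : z ∈ zJ T := hZle hz
  have hzd : z ≠ d := fun e => X.not_conj hall hd (y := 1) (by simp [e])
  have hzz : z * z = 1 := om_sq hzZ
  have hcases := four_cases h4 hzZ hd.1 hz1 hd1 hzd hzz
  have hdC : Subgroup.centralizer (zJ T : Set G) ≤ L :=
    le_trans (fun x hx => mem_centralizer_singleton_iff.mpr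
      (mem_centralizer_iff.mp hx d hd.1).symm) (X.centralizer_le hd1 (om_sq hd.1)
        (fun k hk => mem_centralizer_singleton_iff.mpr (mem_centralizer_iff.mp hd.2 k hk))
        (jay_le_centralizer_zJ hd.1))
  rw [inf_eq_right.mpr hdC]
  have hgN : g ∈ Subgroup.normalizer (zJ T : Set G) :=
    normalizer_le_normalizer_om _ (normalizer_le_normalizer_jay 2 T hgT)
  have hgz : g * z * g⁻¹ = z := by rw [((mem_om.mp hz).2.1 g hgS).eq, mul_inv_cancel_right]
  have hgd : g * d * g⁻¹ = z * d := by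
    rcases hcases _ ((mem_normalizer_iff.mp hgN d).mp hd.1) with e | e | e | e
    · exact absurd (conj_eq_one_iff.mp e) hd1
    · exact absurd (mul_left_cancel (mul_right_cancel (e.trans hgz.symm))).symm hzd
    · exact absurd (hfree d hd (by rw [e]; exact hd)) hd1
    · exact e
  have hfixz : ∀ n ∈ Subgroup.normalizer (zJ T : Set G), n * z * n⁻¹ = z := by
    intro n hn
    rcases hcases _ ((mem_normalizer_iff.mp hn z).mp hzZ) with e | e | e | e
    · exact absurd (conj_eq_one_iff.mp e) hz1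
    · exact e
    · exact absurd (X.not_conj hall hd (y := n) e.symm) not_false
    · refine absurd (X.not_conj hall hd (y := g⁻¹ * n) ?_) not_false
      calc d = g⁻¹ * (g * d * g⁻¹) * g := by group
        _ = g⁻¹ * (n * z * n⁻¹) * g := by rw [hgd, e]
        _ = _ := by group
  rw [Subgroup.relIndex, Subgroup.index_eq_two_iff]
  refine ⟨⟨g, hgN⟩, fun n => ?_⟩
  simp only [mem_subgroupOf, Subgroup.coe_mul]
  have hmem : ∀ x ∈ Subgroup.normalizer (zJ T : Set G),
      (x ∈ Subgroup.centralizer (zJ T : Set G) ↔ x * d * x⁻¹ = d) := by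
    refine fun x hx => ⟨fun hc => ?_, fun hxd => mem_centralizer_iff.mpr fun e he => ?_⟩
    · rw [← mem_centralizer_iff.mp hc d hd.1, mul_inv_cancel_right]
    · have h1 : Commute x z := mul_inv_eq_iff_eq_mul.mp (hfixz x hx)
      have h2 : Commute x d := mul_inv_eq_iff_eq_mul.mp hxd
      rcases hcases e he with e' | e' | e' | e' <;> rw [e']
      · simp
      · exact h1.eq.symm
      · exact h2.eq.symm
      · exact (h1.mul_right h2).eq.symm
  rw [hmem _ (mul_mem n.2 hgN), hmem _ n.2]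
  have hng : (n : G) * g * d * ((n : G) * g)⁻¹ = z * ((n : G) * d * (n : G)⁻¹) := by
    calc (n : G) * g * d * ((n : G) * g)⁻¹ = (n : G) * (g * d * g⁻¹) * (n : G)⁻¹ := by group
      _ = (n : G) * z * (n : G)⁻¹ * ((n : G) * d * (n : G)⁻¹) := by rw [hgd]; group
      _ = _ := by rw [hfixz _ n.2]
  rw [hng]
  rcases hcases _ ((mem_normalizer_iff.mp n.2 d).mp hd.1) with e | e | e | e
  · exact absurd (conj_eq_one_iff.mp e) hd1
  · exact absurd (mul_left_cancel (mul_right_cancel (e.trans (hfixz _ n.2).symm))).symm hzd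
  · refine .inr ⟨e, fun h' => hz1 ?_⟩
    rw [e] at h'
    exact mul_eq_right.mp h'
  · refine .inl ⟨by rw [e, ← mul_assoc, hzz, one_mul], fun h' => hz1 ?_⟩
    rw [h'] at e
    exact mul_eq_right.mp e.symm

end Cfsg.Agent.H85.ZN
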