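import Cfsg.Agent.H85.ZN.Props

/-!
The action of `⟨K, T⟩` on its four-group, and the offender argument for two components whose
four-groups commute.
-/

set_option autoImplicit false
set_option linter.style.haveILetI false
set_option linter.unusedSectionVars false

namespace Cfsg.Agent.H85.ZN

open Subgroup Cfsg.Agent.Thompson

variable {G : Type*} [Group G] [Finite G]

/-- The kernel of `T` on `W_K`. -/
abbrev qOf (T K : Subgroup G) : Subgroup G := T ⊓ centralizer (Cfsg.wOf K : Set G)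

/-- The data of a component with its action on the four-group. -/
structure Side (T K : Subgroup G) (k a c : G) : Prop where
  p : IsPGroup 2 T
  kK : k ∈ K
  k3 : k * k * k = 1
  aA : ∃ A ∈ maxIn 2 T, a ∈ A
  aa : a * a = 1
  ak : a * k * a = k⁻¹
  cW : c ∈ Cfsg.wOf K
  c1 : c ≠ 1
  cZ : c ∈ Cfsg.omegaCenterOf T
  W4 : Nat.card (Cfsg.wOf K) = 4
  Wsq : ∀ w ∈ Cfsg.wOf K, w * w = 1
  Wcomm : ∀ w ∈ Cfsg.wOf K, ∀ w' ∈ Cfsg.wOf K, Commute w w'
  WT : Cfsg.wOf K ≤ T
  kW : k ∈ normalizer (Cfsg.wOf K : Set G)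
  TW : T ≤ normalizer (Cfsg.wOf K : Set G)
  wfix : ∀ w ∈ Cfsg.wOf K, Commute k w → w = 1
  amove : ¬ Commute a (k * c * k⁻¹)
  kQ : k ∈ normalizer (qOf T K : Set G)
  split : ∀ x ∈ Cfsg.omegaCenterOf T, Commute k x ∨ Commute k (x * c)
  gen : K ≤ zpowers k ⊔ T

theorem two_mul_card_le {H K : Subgroup G} (h : H < K) : 2 * Nat.card H ≤ Nat.card K := by
  obtain ⟨d, hd⟩ := card_dvd_of_le h.le
  rcases d with _ | _ | d
  · have := Nat.card_pos (α := K); omega
  · exact absurd (Subgroup.eq_of_le_of_card_ge h.le (by rw [hd]; simp)) h.ne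
  · rw [hd, mul_comm]; exact Nat.mul_le_mul_left _ (by omega)

theorem mem_sup_zpowers_two {H : Subgroup G} {v x : G} (hv : v * v = 1)
    (hc : ∀ y ∈ H, Commute y v) (hx : x ∈ H ⊔ zpowers v) : x ∈ H ∨ x * v ∈ H := by
  rw [sup_eq_closure] at hx
  induction hx using closure_induction with
  | mem y hy =>
    rcases hy with hy | hy
    · exact .inl hy
    obtain ⟨n, rfl⟩ := mem_zpowers_iff.mp hy
    have h2 : v ^ (2 : ℤ) = 1 := by rw [show (2 : ℤ) = 1 + 1 from rfl, zpow_add, zpow_one, hv]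
    rcases Int.even_or_odd n with ⟨m, hm⟩ | ⟨m, hm⟩
    · refine .inl ?_
      rw [hm, ← two_mul, zpow_mul, h2, one_zpow]; exact H.one_mem
    · refine .inr ?_
      rw [hm, zpow_add, zpow_mul, h2, one_zpow, one_mul, zpow_one, hv]; exact H.one_mem
  | one => exact .inl H.one_mem
  | mul y w hy hw ihy ihw =>
    rcases ihy with p | p <;> rcases ihw with q | q
    · exact .inl (H.mul_mem p q)
    · exact .inr (by rw [mul_assoc]; exact H.mul_mem p q)
    · refine .inr ?_
      rw [mul_assoc, (hc _ q).eq, ← mul_assoc]; exact H.mul_mem p q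
    · refine .inl ?_
      have := H.mul_mem p q
      have e : y * v * (w * v) = y * w := by
        rw [mul_assoc, ← (hc _ q).eq, mul_assoc w, hv, mul_one]
      rwa [e] at this
  | inv y hy ihy =>
    rcases ihy with p | p
    · exact .inl (H.inv_mem p)
    · refine .inr ?_
      have h := H.inv_mem p
      have h1 := (hc _ h).eq
      rw [mul_inv_rev, inv_eq_of_mul_eq_one_right hv] at h h1
      rwa [show y⁻¹ * v = v * y⁻¹ by
        calc y⁻¹ * v = v * (v * y⁻¹ * v) := by simp [← mul_assoc, hv]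
          _ = v * (v * (v * y⁻¹)) := by rw [h1]
          _ = v * y⁻¹ := by rw [← mul_assoc v v, hv, one_mul]]

theorem card_le_two_of_pair {X : Subgroup G} {v z : G} (hz : ∀ x ∈ X, Commute x z)
    (h : ∀ x ∈ X, x * v * x⁻¹ = v ∨ x * v * x⁻¹ = v * z) :
    Nat.card X ≤ 2 * Nat.card ↥(X ⊓ centralizer ({v} : Set G)) := by
  by_cases hall : ∀ x ∈ X, x * v * x⁻¹ = v
  · rw [show X ⊓ centralizer ({v} : Set G) = X from inf_eq_left.mpr fun x hx =>
      mem_centralizer_singleton_iff.mpr (mul_inv_eq_iff_eq_mul.mp (hall x hx))]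
    omega
  push Not at hall
  obtain ⟨b, hb, hbv⟩ := hall
  refine card_le_two_mul (a := b⁻¹) fun x hx => ?_
  rcases h x hx with e | e
  · exact .inl ⟨hx, mem_centralizer_singleton_iff.mpr (mul_inv_eq_iff_eq_mul.mp e)⟩
  · refine .inr ⟨X.mul_mem (X.inv_mem hb) hx,
      mem_centralizer_singleton_iff.mpr (mul_inv_eq_iff_eq_mul.mp ?_)⟩
    have e2 := (h b hb).resolve_left hbv
    calc b⁻¹ * x * v * (b⁻¹ * x)⁻¹ = b⁻¹ * (x * v * x⁻¹) * b := by group
      _ = b⁻¹ * (b * v * b⁻¹) * b := by rw [e, e2]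
      _ = v := by group

section

variable {T K : Subgroup G} {k a c : G} (S : Side T K k a c)
include S

theorem Side.aT : a ∈ T := by
  obtain ⟨A, hA, ha⟩ := S.aA; exact hA.1 ha

theorem Side.ainv : a⁻¹ = a := inv_eq_of_mul_eq_one_right S.aa

theorem Side.k2 : k⁻¹ = k * k := by rw [inv_eq_iff_mul_eq_one, ← mul_assoc, S.k3]

theorem Side.oW : k * c * k⁻¹ ∈ Cfsg.wOf K := (mem_normalizer_iff.mp S.kW c).mp S.cW

theorem Side.o_ne_one : k * c * k⁻¹ ≠ 1 := fun e => S.c1 (conj_eq_one_iff.mp e)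

theorem Side.o_ne_c : c ≠ k * c * k⁻¹ := fun e =>
  S.c1 (S.wfix c S.cW (mul_inv_eq_iff_eq_mul.mp e.symm))

theorem Side.cases : ∀ w ∈ Cfsg.wOf K,
    w = 1 ∨ w = c ∨ w = k * c * k⁻¹ ∨ w = c * (k * c * k⁻¹) :=
  four_cases S.W4.le S.cW S.oW S.c1 S.o_ne_one S.o_ne_c (S.Wsq c S.cW)

theorem Side.tc {t : G} (ht : t ∈ T) : Commute t c := (mem_om.mp S.cZ).2.1 t ht

theorem Side.t_act {t : G} (ht : t ∈ T) : t * (k * c * k⁻¹) * t⁻¹ = k * c * k⁻¹ ∨
    t * (k * c * k⁻¹) * t⁻¹ = k * c * k⁻¹ * c := by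
  rcases S.cases _ ((mem_normalizer_iff.mp (S.TW ht) _).mp S.oW) with e | e | e | e
  · exact absurd (conj_eq_one_iff.mp e) S.o_ne_one
  · refine absurd ?_ S.o_ne_c
    have : t * (k * c * k⁻¹) * t⁻¹ = t * c * t⁻¹ := by rw [e, (S.tc ht).eq, mul_inv_cancel_right]
    exact (mul_left_cancel (mul_right_cancel this)).symm
  · exact .inl e
  · exact .inr (e.trans (S.Wcomm _ S.cW _ S.oW).eq)

theorem Side.mem_q {t : G} (ht : t ∈ T) (h : Commute t (k * c * k⁻¹)) : t ∈ qOf T K :=
  ⟨ht, mem_centralizer_iff.mpr fun w hw => by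
    rcases S.cases w hw with e | e | e | e <;> rw [e]
    · simp
    · exact (S.tc ht).eq.symm
    · exact h.eq.symm
    · exact ((S.tc ht).mul_right h).eq.symm⟩

theorem Side.q_cases {t : G} (ht : t ∈ T) : t ∈ qOf T K ∨ a * t ∈ qOf T K := by
  rcases S.t_act ht with e | e
  · exact .inl (S.mem_q ht (mul_inv_eq_iff_eq_mul.mp e))
  refine .inr (S.mem_q (T.mul_mem S.aT ht) (mul_inv_eq_iff_eq_mul.mp ?_))
  have ea := (S.t_act S.aT).resolve_left fun h => S.amove (mul_inv_eq_iff_eq_mul.mp h)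
  calc a * t * (k * c * k⁻¹) * (a * t)⁻¹ = a * (t * (k * c * k⁻¹) * t⁻¹) * a⁻¹ := by group
    _ = a * (k * c * k⁻¹) * a⁻¹ * (a * c * a⁻¹) := by rw [e]; group
    _ = k * c * k⁻¹ * c * c := by rw [ea, (S.tc S.aT).eq, mul_inv_cancel_right]
    _ = _ := by rw [mul_assoc, S.Wsq c S.cW, mul_one]

theorem Side.q_normal : T ≤ normalizer (qOf T K : Set G) := fun t ht =>
  H61.mem_normalizer_of_conj_mem fun x hx => by
    refine ⟨T.mul_mem (T.mul_mem ht hx.1) (T.inv_mem ht), mem_centralizer_iff.mpr fun w hw => ?_⟩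
    have hw' : t⁻¹ * w * t ∈ Cfsg.wOf K := by
      have := (mem_normalizer_iff.mp (S.TW (T.inv_mem ht)) w).mp hw; rwa [inv_inv] at this
    have h1 : Commute (t⁻¹ * w * t) x := mem_centralizer_iff.mp hx.2 _ hw'
    have := h1.map (MulAut.conj t).toMonoidHom
    simpa [mul_assoc] using this.eq

theorem Side.conj_q {q : G} (hq : q ∈ qOf T K) : k * q * k⁻¹ ∈ qOf T K ∧ k⁻¹ * q * k ∈ qOf T K := by
  refine ⟨(mem_normalizer_iff.mp S.kQ q).mp hq, ?_⟩
  have := (mem_normalizer_iff.mp ((normalizer (qOf T K : Set G)).inv_mem S.kQ) q).mp hq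
  rwa [inv_inv] at this

theorem Side.W_le_q : Cfsg.wOf K ≤ qOf T K := fun w hw =>
  ⟨S.WT hw, mem_centralizer_iff.mpr fun w' hw' => S.Wcomm w' hw' w hw⟩

theorem Side.q_act {q : G} (hq : q ∈ qOf T K) (w : G) (hw : w ∈ Cfsg.wOf K) : Commute q w :=
  (mem_centralizer_iff.mp hq.2 w hw).symm

theorem Side.q_ne_bot : qOf T K ≠ ⊥ := fun h => S.c1 (mem_bot.mp (h.le (S.W_le_q S.cW)))

variable {K' : Subgroup G} {k' a' c' : G} (S' : Side T K' k' a' c')
include S'

theorem Side.q_ne_q (hnn : ∀ R : Subgroup G, R ≤ T → T ≤ normalizer (R : Set G) →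
      k ∈ normalizer (R : Set G) → k' ∈ normalizer (R : Set G) → R = ⊥) :
    ¬ qOf T K ≤ qOf T K' := by
  intro hle
  have heq : qOf T K = qOf T K' := by
    refine Subgroup.eq_of_le_of_card_ge hle ?_
    have h1 : Nat.card T ≤ 2 * Nat.card (qOf T K) := card_le_two_mul fun t ht => S.q_cases ht
    have h3 : qOf T K' ≠ T := fun e =>
      S'.amove ((S'.q_act (e.ge S'.aT) _ S'.oW))
    have h4 : 2 * Nat.card (qOf T K') ≤ Nat.card T :=
      two_mul_card_le (lt_of_le_of_ne inf_le_left h3)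
    omega
  exact S.q_ne_bot (hnn _ inf_le_left S.q_normal S.kQ (heq ▸ S'.kQ))

set_option maxHeartbeats 1000000 in
/-- **Offender argument.** If the four-groups commute, `k` centralises the fixed line of the other
four-group. -/
theorem Side.fixed_of_commute
    (hnn : ∀ R : Subgroup G, R ≤ T → T ≤ normalizer (R : Set G) →
      k ∈ normalizer (R : Set G) → k' ∈ normalizer (R : Set G) → R = ⊥)
    (hcomm : ∀ x ∈ Cfsg.wOf K, ∀ y ∈ Cfsg.wOf K', Commute x y) : Commute k c' := by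
  by_contra hne
  obtain ⟨A, hA, haA⟩ := S.aA
  have hAB : ∀ x ∈ A, x ∈ A ⊓ qOf T K ∨ a * x ∈ A ⊓ qOf T K := fun x hx =>
    (S.q_cases (hA.1 hx)).imp (fun h => ⟨hx, h⟩) fun h => ⟨A.mul_mem haA hx, h⟩
  set Q := qOf T K with hQ
  set o := k * c * k⁻¹ with ho
  have hoW : o ∈ Cfsg.wOf K := S.oW
  obtain ⟨h0, hh0, hkh0⟩ : ∃ h0, c' = c * h0 ∧ Commute k h0 := by
    refine ⟨c * c', by rw [← mul_assoc, S.Wsq c S.cW, one_mul], ?_⟩
    have := (S.split c' S'.cZ).resolve_left hne
    rwa [← (S.tc (om_le _ S'.cZ)).eq]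
  have hch : Commute c h0 := by
    have : h0 = c * c' := by rw [hh0, ← mul_assoc, S.Wsq c S.cW, one_mul]
    rw [this]; exact (Commute.refl c).mul_right (S.tc (om_le _ S'.cZ)).symm
  have hTh0 : ∀ t ∈ T, Commute t h0 := fun t ht => by
    have : h0 = c * c' := by rw [hh0, ← mul_assoc, S.Wsq c S.cW, one_mul]
    rw [this]; exact (S.tc ht).mul_right (S'.tc ht)
  set z1 := k * c' * k⁻¹ with hz1
  have hz1o : z1 = o * h0 := by
    rw [hz1, hh0, ho, show k * (c * h0) * k⁻¹ = k * c * k⁻¹ * (k * h0 * k⁻¹) by group,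
      hkh0.eq, mul_inv_cancel_right]
  set z2 := a * z1 * a with hz2
  have hao : a * o * a = o * c := by
    have := (S.t_act S.aT).resolve_left fun h => S.amove (mul_inv_eq_iff_eq_mul.mp h)
    rwa [S.ainv] at this
  have hz2o : z2 = o * c * h0 := by
    rw [hz2, hz1o, ← hao]
    calc a * (o * h0) * a = a * o * (h0 * a) := by group
      _ = a * o * (a * h0) := by rw [(hTh0 a S.aT).symm.eq]
      _ = _ := by group
  have hz12 : z1 ≠ z2 := fun e => by
    rw [hz1o, hz2o] at e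
    exact S.c1 (mul_eq_left.mp (mul_right_cancel e).symm)
  have hz1c : z1 ≠ c' := fun e => hne (mul_inv_eq_iff_eq_mul.mp e)
  have hz2c : z2 ≠ c' := fun e => by
    rw [hz2o, hh0] at e
    exact S.o_ne_one (mul_eq_right.mp (mul_right_cancel e))
  have hQc : ∀ q ∈ Q, Commute q c' := fun q hq => S'.tc hq.1
  -- the elements
  set u := k' * c' * k'⁻¹ with hu
  have hu2 : u * u = 1 := S'.Wsq _ S'.oW
  have huQ : u ∈ Q :=
    ⟨S'.WT S'.oW, mem_centralizer_iff.mpr fun w hw => hcomm w hw u S'.oW⟩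
  set v1 := k * u * k⁻¹ with hv1
  have hv1Q : v1 ∈ Q := (S.conj_q huQ).1
  set v2 := a * v1 * a with hv2
  have hv2Q : v2 ∈ Q := by
    have := (mem_normalizer_iff.mp (S.q_normal S.aT) v1).mp hv1Q; rwa [S.ainv] at this
  have hv1sq : v1 * v1 = 1 := by
    rw [hv1, show k * u * k⁻¹ * (k * u * k⁻¹) = k * (u * u) * k⁻¹ by group, hu2, mul_one,
      mul_inv_cancel]
  have hv2sq : v2 * v2 = 1 := by
    rw [hv2, show a * v1 * a * (a * v1 * a) = a * v1 * (a * a) * v1 * a by group, S.aa, mul_one,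
      mul_assoc a v1 v1, hv1sq, mul_one, S.aa]
  have hact1 : ∀ q ∈ Q, q * v1 * q⁻¹ = v1 ∨ q * v1 * q⁻¹ = v1 * z1 := by
    intro q hq
    have e : q * v1 * q⁻¹ = k * (k⁻¹ * q * k * u * (k⁻¹ * q * k)⁻¹) * k⁻¹ := by rw [hv1]; group
    rcases S'.t_act (S.conj_q hq).2.1 with h | h
    · exact .inl (by rw [e, h])
    · exact .inr (by rw [e, h, hv1, hz1, hu]; group)
  have hact2 : ∀ q ∈ Q, q * v2 * q⁻¹ = v2 ∨ q * v2 * q⁻¹ = v2 * z2 := by
    intro q hq
    have hq' : a * q * a ∈ Q := by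
      have := (mem_normalizer_iff.mp (S.q_normal S.aT) q).mp hq; rwa [S.ainv] at this
    have e : q * v2 * q⁻¹ = a * (a * q * a * v1 * (a * q * a)⁻¹) * a := by
      rw [hv2, mul_inv_rev, mul_inv_rev, S.ainv]
      simp only [← mul_assoc, S.aa, one_mul]
      simp only [mul_assoc, S.aa, mul_one]
    rcases hact1 _ hq' with h | h
    · exact .inl (by rw [e, h])
    · refine .inr ?_
      rw [e, h, hv2, hz2]
      simp only [mul_assoc]
      rw [← mul_assoc a a (z1 * a), S.aa, one_mul]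
  -- they commute
  have hcom : ∀ {x y zx zy : G}, x ∈ Q → y ∈ Q → x * x = 1 → y * y = 1 → zx ≠ zy →
      (∀ q ∈ Q, Commute q zx) →
      (∀ q ∈ Q, q * x * q⁻¹ = x ∨ q * x * q⁻¹ = x * zx) →
      (∀ q ∈ Q, q * y * q⁻¹ = y ∨ q * y * q⁻¹ = y * zy) → Commute x y := by
    intro x y zx zy hx hy hx2 hy2 hz hzx ax ay
    rcases ax y hy with h | h
    · exact (mul_inv_eq_iff_eq_mul.mp h).symm
    rcases ay x hx with h' | h'
    · exact mul_inv_eq_iff_eq_mul.mp h'
    exfalso
    rw [inv_eq_of_mul_eq_one_right hy2] at h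
    rw [inv_eq_of_mul_eq_one_right hx2] at h'
    refine hz ?_
    have h1 : zx = x * (y * x * y) := by rw [h, ← mul_assoc, hx2, one_mul]
    have h2 : zy = y * (x * y * x) := by rw [h', ← mul_assoc, hy2, one_mul]
    calc zx = x * zx * x := by rw [(hzx x hx).eq, mul_assoc, hx2, mul_one]
      _ = x * (x * (y * x * y)) * x := by rw [← h1]
      _ = zy := by rw [h2, ← mul_assoc x x, hx2, one_mul]; group
  have hcz1 : ∀ q ∈ Q, Commute q z1 := fun q hq => by
    have := (hQc _ (S.conj_q hq).2).map (MulAut.conj k).toMonoidHom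
    simpa [mul_assoc, hz1] using this
  have hcu : ∀ q ∈ Q, q * u * q⁻¹ = u ∨ q * u * q⁻¹ = u * c' := fun q hq => S'.t_act hq.1
  have h12 : Commute v1 v2 := hcom hv1Q hv2Q hv1sq hv2sq hz12 hcz1 hact1 hact2
  have h1u : Commute v1 u := hcom hv1Q huQ hv1sq hu2 hz1c hcz1 hact1 hcu
  have h2u : Commute u v2 := hcom huQ hv2Q hu2 hv2sq hz2c.symm hQc hcu hact2
  -- a mover of `v1`
  obtain ⟨q1, hq1, hq1v⟩ : ∃ q ∈ Q, ¬ Commute q v1 := by
    obtain ⟨q, hq, hq'⟩ := SetLike.not_le_iff_exists.mp (S.q_ne_q S' hnn)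
    refine ⟨k * q * k⁻¹, (S.conj_q hq).1, fun h => hq' (S'.mem_q hq.1 ?_)⟩
    have := h.map (MulAut.conj k⁻¹).toMonoidHom
    simpa [mul_assoc, hv1, hu] using this
  have hv21 : ∀ e, Commute q1 e → v2 ≠ v1 * e := by
    intro e he eq
    have h1 := (hact1 q1 hq1).resolve_left fun h => hq1v (mul_inv_eq_iff_eq_mul.mp h)
    have h2 : q1 * v2 * q1⁻¹ = v1 * z1 * e := by
      rw [eq, show q1 * (v1 * e) * q1⁻¹ = q1 * v1 * q1⁻¹ * (q1 * e * q1⁻¹) by group, h1, he.eq,
        mul_inv_cancel_right]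
    rcases hact2 q1 hq1 with h | h <;> rw [h2] at h <;> rw [eq] at h
    · have h0 : z1 * e = e := mul_left_cancel (by rwa [mul_assoc v1 z1] at h)
      exact hq1v (by
        rw [mul_eq_right.mp h0, mul_one] at h1
        exact mul_inv_eq_iff_eq_mul.mp h1)
    · rw [mul_assoc v1 z1, mul_assoc v1 e] at h
      refine hz12 ?_
      have h0 := mul_left_cancel h
      have he' : Commute z1 e := by
        have hv : v1⁻¹ * v2 = e := by rw [eq, inv_mul_cancel_left]
        rw [← hv]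
        exact ((hcz1 _ hv1Q).symm.inv_right).mul_right (hcz1 _ hv2Q).symm
      rw [he'.eq] at h0
      exact mul_left_cancel h0
  -- the group `U`
  set U := zpowers o ⊔ zpowers v1 ⊔ zpowers v2 ⊔ zpowers u with hU
  have hUQ : U ≤ Q := sup_le (sup_le (sup_le (zpowers_le.mpr (S.W_le_q hoW)) (zpowers_le.mpr hv1Q))
    (zpowers_le.mpr hv2Q)) (zpowers_le.mpr huQ)
  have hUe : IsAbExp 2 U := by
    have ho' : ∀ q ∈ Q, Commute o q := fun q hq => (S.q_act hq o hoW).symm
    have h0 : IsAbExp 2 (zpowers o) := by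
      refine ⟨isMulCommutative_iff_forall.mpr ?_, ?_⟩
      · rintro _ ⟨i, rfl⟩ _ ⟨j, rfl⟩; exact (Commute.zpow_zpow_self o i j).eq
      · rintro _ ⟨i, rfl⟩
        show (o ^ i) ^ 2 = 1
        rw [← zpow_natCast (o ^ i), ← zpow_mul, mul_comm, zpow_mul, zpow_natCast, pow_two,
          S.Wsq o hoW, one_zpow]
    have hz : ∀ {x y : G}, Commute x y → ∀ e ∈ zpowers x, Commute e y := fun h e he => by
      obtain ⟨i, rfl⟩ := he; exact h.zpow_left i
    have hs : ∀ {H H' : Subgroup G} {y : G}, H ≤ centralizer ({y} : Set G) →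
        H' ≤ centralizer ({y} : Set G) → H ⊔ H' ≤ centralizer ({y} : Set G) := sup_le
    have hzc : ∀ {x y : G}, Commute x y → zpowers x ≤ centralizer ({y} : Set G) := fun h =>
      zpowers_le.mpr (mem_centralizer_singleton_iff.mpr h.eq)
    refine isAbExp_sup_zpowers (isAbExp_sup_zpowers (isAbExp_sup_zpowers h0
      (fun e he => (hz (ho' v1 hv1Q) e he).eq) (by rw [pow_two]; exact hv1sq)) ?_
      (by rw [pow_two]; exact hv2sq)) ?_ (by rw [pow_two]; exact hu2)
    · exact fun e he => mem_centralizer_singleton_iff.mp (hs (hzc (ho' v2 hv2Q)) (hzc h12) he)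
    · exact fun e he => mem_centralizer_singleton_iff.mp
        (hs (hs (hzc (ho' u huQ)) (hzc h1u)) (hzc h2u.symm) he)
  have hoU : o ∈ U := mem_sup_left (mem_sup_left (mem_sup_left (mem_zpowers o)))
  have hv1U : v1 ∈ U := mem_sup_left (mem_sup_left (mem_sup_right (mem_zpowers v1)))
  have hv2U : v2 ∈ U := mem_sup_left (mem_sup_right (mem_zpowers v2))
  have huU : u ∈ U := mem_sup_right (mem_zpowers u)
  set B := A ⊓ Q with hB
  set B1 := B ⊓ centralizer ({v1} : Set G) with hB1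
  set B0 := B1 ⊓ centralizer ({u} : Set G) with hB0
  have hcA : ∀ {b}, b ∈ B → Commute a b := fun hb => hA.2.1.comm haA hb.1
  have hB1v2 : ∀ b ∈ B1, Commute b v2 := fun b hb => by
    have h1 : Commute b v1 := mem_centralizer_singleton_iff.mp hb.2
    exact ((hcA hb.1).symm.mul_right h1).mul_right (hcA hb.1).symm
  have hB0U : ∀ b ∈ B0, ∀ x ∈ U, Commute b x := by
    intro b hb x hx
    have hzc : ∀ {y : G}, Commute b y → zpowers y ≤ centralizer ({b} : Set G) := fun h =>
      zpowers_le.mpr (mem_centralizer_singleton_iff.mpr h.eq.symm)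
    exact (mem_centralizer_singleton_iff.mp ((sup_le (sup_le (sup_le
      (hzc (S.q_act hb.1.1.2 o hoW)) (hzc (mem_centralizer_singleton_iff.mp hb.1.2)))
      (hzc (hB1v2 b hb.1))) (hzc (mem_centralizer_singleton_iff.mp hb.2)) :
        U ≤ centralizer ({b} : Set G)) hx)).symm
  set H := U ⊓ centralizer (A : Set G) with hH
  have hbd := max_bound hA (B := B0) (U := U) (inf_le_left.trans (inf_le_left.trans inf_le_left))
    (hUQ.trans inf_le_left) hUe hB0U
  rw [← hH] at hbd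
  have hA2 : Nat.card A ≤ 2 * Nat.card B := card_le_two_mul hAB
  have hB10 : Nat.card B1 ≤ 2 * Nat.card B0 := card_le_two_of_pair
    (fun x hx => hQc x hx.1.2) fun x hx => hcu x hx.1.2
  -- doubling in `U`
  have hstep : ∀ {X Y : Subgroup G} {y : G}, X ≤ Y → y ∈ Y → y ∉ X →
      2 * Nat.card X ≤ Nat.card Y :=
    fun hle hy hy' => two_mul_card_le (lt_of_le_of_ne hle fun e => hy' (e ▸ hy))
  have hHo : o ∉ H := fun h => S.amove (mem_centralizer_iff.mp h.2 a haA)
  set Co := H ⊔ zpowers o with hCo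
  have i0 : 2 * Nat.card H ≤ Nat.card Co := hstep le_sup_left (mem_sup_right (mem_zpowers o)) hHo
  have hCoU : Co ≤ U := sup_le inf_le_left (zpowers_le.mpr hoU)
  set C2 := U ⊓ centralizer (B1 : Set G) with hC2
  have hCo2 : Co ≤ U ⊓ centralizer (B : Set G) := sup_le
    (le_inf inf_le_left (inf_le_right.trans (Subgroup.centralizer_le fun b hb => hb.1)))
    (zpowers_le.mpr ⟨hoU, mem_centralizer_iff.mpr fun b hb => (S.q_act hb.2 o hoW).eq⟩)
  have jU : Nat.card C2 ≤ Nat.card U := card_le_of_le inf_le_left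
  -- `u`
  have iu : Nat.card B1 ≤ Nat.card B0 ∨ 2 * Nat.card C2 ≤ Nat.card U := by
    by_cases hb : ∃ b ∈ B1, ¬ Commute b u
    · obtain ⟨b, hb, hbu⟩ := hb
      exact .inr (hstep inf_le_left huU fun h => hbu (mem_centralizer_iff.mp h.2 b hb))
    · push Not at hb
      exact .inl (card_le_of_le fun b hb' =>
        ⟨hb', mem_centralizer_singleton_iff.mpr (hb b hb')⟩)
  have i1 : Nat.card B ≤ 2 * Nat.card B1 := card_le_two_of_pair
    (fun x hx => hcz1 x hx.2) fun x hx => hact1 x hx.2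
  have hpos : 0 < Nat.card B0 * Nat.card H := Nat.mul_pos Nat.card_pos Nat.card_pos
  have hfin : ∀ n m : ℕ, Nat.card A ≤ n * Nat.card B0 → m * Nat.card H ≤ Nat.card U → n < m →
      False := by
    intro n m h1 h2 hnm
    have h3 : Nat.card B0 * (m * Nat.card H) ≤ n * Nat.card B0 * Nat.card H :=
      ((Nat.mul_le_mul_left _ h2).trans hbd).trans (Nat.mul_le_mul_right _ h1)
    have h4 : n * (Nat.card B0 * Nat.card H) < m * (Nat.card B0 * Nat.card H) :=
      Nat.mul_lt_mul_of_pos_right hnm hpos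
    rw [← mul_assoc (Nat.card B0), mul_comm (Nat.card B0) m, mul_assoc, mul_assoc] at h3
    omega
  by_cases hb1 : ∃ b ∈ B, ¬ Commute b v1
  · obtain ⟨b, hb, hbv⟩ := hb1
    have e1 := (hact1 b hb.2).resolve_left fun h => hbv (mul_inv_eq_iff_eq_mul.mp h)
    have hbv2 : b * v2 * b⁻¹ = v2 * z2 := by
      have hab := hcA hb
      have hba : Commute a b⁻¹ := hab.inv_right
      calc b * v2 * b⁻¹ = b * a * v1 * (a * b⁻¹) := by rw [hv2]; group
        _ = a * b * v1 * (b⁻¹ * a) := by rw [hab.eq, hba.eq]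
        _ = a * (b * v1 * b⁻¹) * a := by group
        _ = a * v1 * (z1 * a) := by rw [e1]; group
        _ = _ := by rw [hv2, hz2]; simp only [mul_assoc]; rw [← mul_assoc a a (z1 * a), S.aa, one_mul]
    set C := U ⊓ centralizer (B : Set G) with hC
    have hfix : ∀ x ∈ C, b * x * b⁻¹ = x := fun x hx =>
      mul_inv_eq_iff_eq_mul.mpr (mem_centralizer_iff.mp hx.2 b hb)
    have j1 : 2 * Nat.card C ≤ Nat.card ↥(C ⊔ zpowers v1) :=
      hstep le_sup_left (mem_sup_right (mem_zpowers v1))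
        fun h => hbv (mul_inv_eq_iff_eq_mul.mp (hfix v1 h))
    have j2 : 2 * Nat.card ↥(C ⊔ zpowers v1) ≤ Nat.card C2 := by
      refine hstep (sup_le (le_inf inf_le_left (inf_le_right.trans
        (Subgroup.centralizer_le fun x hx => hx.1))) (zpowers_le.mpr ⟨hv1U,
          mem_centralizer_iff.mpr fun x hx => mem_centralizer_singleton_iff.mp hx.2⟩))
        ⟨hv2U, mem_centralizer_iff.mpr fun x hx => (hB1v2 x hx).eq⟩ fun h => ?_
      rcases mem_sup_zpowers_two hv1sq (fun y hy => hUe.comm (mem_inf.mp hy).1 hv1U) h with h | h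
      · have h2 := hfix v2 h
        rw [hbv2] at h2
        have hz2' : z2 = 1 := mul_eq_left.mp h2
        rw [hz2] at hz2'
        refine hbv (mul_inv_eq_iff_eq_mul.mp ?_)
        have hz11 : z1 = 1 := by
          calc z1 = a * (a * z1 * a) * a := by simp [← mul_assoc, S.aa, mul_assoc z1 a a]
            _ = 1 := by rw [hz2', mul_one, S.aa]
        rw [e1, hz11, mul_one]
      · have h2 := hfix _ h
        rw [show b * (v2 * v1) * b⁻¹ = b * v2 * b⁻¹ * (b * v1 * b⁻¹) by group, hbv2, e1] at h2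
        refine hz12 ?_
        have h5 : z2 * (v1 * z1) = v1 := by
          rw [mul_assoc] at h2; exact mul_left_cancel h2
        have hz2v : Commute v1 z2 := by
          rw [hz2o]
          exact ((S.q_act hv1Q o hoW).mul_right (S.tc hv1Q.1)).mul_right (hTh0 v1 hv1Q.1)
        rw [← mul_assoc, ← hz2v.eq, mul_assoc] at h5
        have h6 := mul_eq_left.mp h5
        have hz1sq : z1 * z1 = 1 := by
          rw [hz1, show k * c' * k⁻¹ * (k * c' * k⁻¹) = k * (c' * c') * k⁻¹ by group,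
            om_sq S'.cZ, mul_one, mul_inv_cancel]
        exact ((eq_inv_of_mul_eq_one_left h6).trans (inv_eq_of_mul_eq_one_right hz1sq)).symm
    have j0 : 2 * Nat.card H ≤ Nat.card C := i0.trans (card_le_of_le hCo2)
    rcases iu with h | h
    · exact hfin 4 8 (by omega) (by omega) (by omega)
    · exact hfin 8 16 (by omega) (by omega) (by omega)
  · push Not at hb1
    have hBB1 : Nat.card B ≤ Nat.card B1 :=
      card_le_of_le fun b hb => ⟨hb, mem_centralizer_singleton_iff.mpr (hb1 b hb)⟩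
    have hv1C : v1 ∈ C2 :=
      ⟨hv1U, mem_centralizer_iff.mpr fun b hb => mem_centralizer_singleton_iff.mp hb.2⟩
    have j1 : 2 * Nat.card Co ≤ Nat.card C2 := by
      refine hstep (hCo2.trans (inf_le_inf_left _ (Subgroup.centralizer_le fun b hb => hb.1))) hv1C
        fun h => ?_
      rcases mem_sup_zpowers_two (S.Wsq o hoW) (fun y hy => hUe.comm (mem_inf.mp hy).1 hoU) h with h | h
      · have h2 : a * v1 * a = v1 := by
          rw [(show Commute a v1 from mem_centralizer_iff.mp h.2 a haA).eq, mul_assoc, S.aa, mul_one]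
        exact hv21 1 (Commute.one_right q1) (by rw [mul_one]; exact h2)
      · refine hv21 c (S.tc hq1.1) ?_
        have h2 : a * (v1 * o) * a = v1 * o := by
          rw [(show Commute a (v1 * o) from mem_centralizer_iff.mp h.2 a haA).eq, mul_assoc, S.aa,
            mul_one]
        have h3 : v2 * (o * c) = v1 * o := by
          rw [← hao]
          refine Eq.trans ?_ h2
          rw [hv2]; simp only [mul_assoc]; rw [← mul_assoc a a (o * a), S.aa, one_mul]
        calc v2 = v2 * (o * c) * (o * c)⁻¹ := by group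
          _ = v1 * (o * c⁻¹ * o⁻¹) := by rw [h3]; group
          _ = v1 * c := by
              rw [inv_eq_of_mul_eq_one_right (S.Wsq c S.cW), (S.Wcomm o hoW c S.cW).eq,
                mul_inv_cancel_right]
    rcases iu with h | h
    · exact hfin 2 4 (by omega) (by omega) (by omega)
    · exact hfin 4 8 (by omega) (by omega) (by omega)

end

end Cfsg.Agent.H85.ZN
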