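import Cfsg.Agent.H85.ZN.Uniq

/-!
Consequences: subnormality of components, normalisers, conjugates.
-/

set_option autoImplicit false
set_option linter.style.haveILetI false
set_option linter.unusedSectionVars false

namespace Cfsg.Agent.H85.ZN

open Subgroup Cfsg.Agent.Thompson

variable {G : Type*} [Group G] [Finite G] {L T K : Subgroup G}

theorem jOvergroup_lhyp (hLT : L ∈ Cfsg.jOvergroups T) : LHyp L T := ⟨hLT.1, hLT.2.2⟩

/-- A subgroup `N_G(R)` of a ZN-group is of characteristic 2. -/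
theorem ZHyp.cent_normalizer (Z : ZHyp G) {R : Subgroup G} (hR : IsPGroup 2 R) (hne : R ≠ ⊥) :
    centralizer (Cfsg.pCoreOf 2 (normalizer (R : Set G)) : Set G) ≤
      Cfsg.pCoreOf 2 (normalizer (R : Set G)) := by
  intro x hx
  set N := normalizer (R : Set G)
  have hRO : R ≤ Cfsg.pCoreOf 2 N := le_pCoreOf hR le_normalizer le_rfl
  have hxN : x ∈ N := centralizer_le_normalizer _
    (mem_centralizer_iff.mpr fun r hr => mem_centralizer_iff.mp hx r (hRO hr))
  refine ⟨⟨x, hxN⟩, Z.char2.2 R hR hne (mem_centralizer_iff.mpr fun y hy => Subtype.ext ?_), rfl⟩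
  exact mem_centralizer_iff.mp hx (y : G) ⟨y, hy, rfl⟩

theorem jcomp_ne_bot (hK : Cfsg.IsJComponent T K) : K ≠ ⊥ := by
  rintro rfl
  have := hK.2.2.1
  rw [relIndex_bot_right] at this
  omega

theorem jcomp_not_pGroup (hK : Cfsg.IsJComponent T K) : ¬ IsPGroup 2 K := fun h2 => by
  refine jcomp_ne_bot hK ?_
  rw [← hK.1, Subgroup.closure_eq_bot_iff]
  rintro x ⟨hx, ho⟩
  obtain ⟨i, hi⟩ := h2 ⟨x, hx⟩
  exact eq_one_of_odd_two ho (congrArg Subtype.val hi)

theorem jcomp_jay_le_normalizer (hK : Cfsg.IsJComponent T K) :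
    jay 2 T ≤ normalizer (K : Set G) :=
  jay_le_normalizer_of_comm (by simpa only [tJ_eq] using hK.2.1)

section

variable (Z : ZHyp G) (h : LHyp L T)
include Z h

theorem LHyp.le_normalizer_plStab : L ≤ normalizer (plStab L : Set G) := by
  intro l hl
  refine H61.mem_normalizer_of_conj_mem fun g hg => ?_
  refine mem_plStab (L.mul_mem (L.mul_mem hl hg.1) (L.inv_mem hl)) fun b hb v hv => ?_
  have hb' : TvL L (l⁻¹ * b * l) := by simpa using hb.conj (h.setup Z) (L.inv_mem hl)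
  have hpl : planeA L (l⁻¹ * b * l) = cj l⁻¹ (planeA L b) := by
    simpa using planeA_conj (h.setup Z) hb (L.inv_mem hl)
  have h1 : l⁻¹ * v * l ∈ planeA L (l⁻¹ * b * l) := by
    rw [hpl, mem_cj, inv_inv]; simpa [mul_assoc] using hv
  have h2 : g * (l⁻¹ * v * l) * g⁻¹ ∈ planeA L (l⁻¹ * b * l) :=
    cj_planeA_of_plStab hg hb' ▸ conj_mem_cj h1
  rw [hpl, mem_cj, inv_inv] at h2
  simpa [mul_assoc] using h2

theorem LHyp.isSubnormal_comp {a : G} (ha : TvL L a) :
    ((compOf L a).subgroupOf L).IsSubnormal := by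
  have hPS : piece L a ≤ plStab L := h.piece_le_plStab Z ha
  have hSL : plStab L ≤ L := inf_le_left
  have hKP : compOf L a ≤ piece L a := oddCl_le _
  have hSN : plStab L ≤ normalizer (piece L a : Set G) := fun g hg =>
    h.mem_normalizer_piece Z ha (hSL hg) (cj_planeA_of_plStab hg ha)
  have hPN : piece L a ≤ normalizer (compOf L a : Set G) :=
    le_normalizer.trans (normalizer_le_normalizer_oddCl _)
  have e : ∀ {A B : Subgroup G}, A ≤ B → B ≤ L → B ≤ normalizer (A : Set G) →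
      ((A.subgroupOf L).subgroupOf (B.subgroupOf L)).Normal := by
    intro A B hAB hBL hn
    refine normal_subgroupOf_of_le_normalizer fun x hx => ?_
    rw [mem_normalizer_iff]
    intro y
    rw [mem_subgroupOf, mem_subgroupOf]
    exact mem_normalizer_iff.mp (hn hx) (y : G)
  refine .step _ _ (comap_mono hKP) ?_ (e hKP (hPS.trans hSL) hPN)
  refine .step _ _ (comap_mono hPS) ?_ (e hPS hSL hSN)
  exact (normal_subgroupOf_of_le_normalizer (h.le_normalizer_plStab Z)).isSubnormal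

theorem LHyp.jcomp_isSubnormal (hK : Cfsg.IsJComponent T K) (hKL : K ≤ L) :
    (K.subgroupOf L).IsSubnormal := by
  obtain ⟨a, ha, rfl⟩ := h.exists_eq_comp Z hK hKL
  exact h.isSubnormal_comp Z ha.tvL

/-- Components in `L` with planes meeting nontrivially are equal. -/
theorem LHyp.comp_eq_of_mem {a b : G} (ha : TvL L a) (hb : TvL L b) {v : G}
    (hv : v ∈ planeA L a) (hv' : v ∈ planeA L b) (hv1 : v ≠ 1) : compOf L a = compOf L b := by
  have hpl : planeA L b = planeA L a := by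
    set S := h.setup Z
    by_contra hne
    rw [planeA_eq S ha] at hv hne
    rw [planeA_eq S hb] at hv' hne
    obtain ⟨x, hx, rfl⟩ := hv
    obtain ⟨y, hy, e⟩ := hv'
    obtain rfl : y = x := Subtype.ext e
    have hne' : S.plane ha.tv ≠ S.plane hb.tv := fun e => hne (by rw [e])
    exact hv1 (congrArg Subtype.val
      (S.eq_one_of_dOf_fixed ha.tv ((S.of_plane_ne ha.tv hb.tv hne').1 _ hy).1 hx))
  rw [compOf, compOf, (h.piece_congr Z ha hb hpl).1]

theorem LHyp.sylow_le_normalizer (hK : Cfsg.IsJComponent T K) (hKL : K ≤ L)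
    (hne : T ⊓ centralizer (T : Set G) ⊓ Cfsg.wOf K ≠ ⊥) : T ≤ normalizer (K : Set G) := by
  obtain ⟨a, ha, rfl⟩ := h.exists_eq_comp Z hK hKL
  rw [h.wOf_comp Z ha] at hne
  obtain ⟨v, ⟨⟨-, hvC⟩, hvW⟩, hv1⟩ := (Subgroup.ne_bot_iff_exists_ne_one.mp hne).elim
    fun x hx => (⟨x, x.2, fun e => hx (Subtype.ext e)⟩ : ∃ v, v ∈ T ⊓ centralizer (T : Set G) ⊓
      planeA L a ∧ v ≠ 1)
  intro t ht
  have htL := h.syl.1 ht
  refine h.mem_normalizer_comp Z ha.tvL htL ?_
  have h1 : v ∈ cj t (planeA L a) := by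
    rw [mem_cj, show t⁻¹ * v * t = v by
      rw [mul_assoc, ← mem_centralizer_iff.mp hvC t ht, ← mul_assoc, inv_mul_cancel, one_mul]]
    exact hvW
  rw [← planeA_conj (h.setup Z) ha.tvL htL] at h1
  by_contra hne'
  rw [← planeA_conj (h.setup Z) ha.tvL htL] at hne'
  set S := h.setup Z
  have hb := ha.tvL.conj S htL
  rw [planeA_eq S ha.tvL] at hvW hne'
  rw [planeA_eq S hb] at h1 hne'
  obtain ⟨x, hx, rfl⟩ := hvW
  obtain ⟨y, hy, e⟩ := h1
  obtain rfl : y = x := Subtype.ext e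
  have hne'' : S.plane ha.tvL.tv ≠ S.plane hb.tv := fun e => hne' (by rw [e])
  exact hv1 (congrArg Subtype.val
    (S.eq_one_of_dOf_fixed ha.tvL.tv ((S.of_plane_ne ha.tvL.tv hb.tv hne'').1 _ hy).1 hx))

end

end Cfsg.Agent.H85.ZN
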