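import Cfsg.Agent.H85.ZN.Max

/-!
The unique maximal 2-local overgroup of a component outside `M`.
-/

set_option autoImplicit false
set_option linter.style.haveILetI false
set_option linter.unusedSectionVars false

namespace Cfsg.Agent.H85.ZN

open Subgroup Cfsg.Agent.Thompson

variable {G : Type*} [Group G] [Finite G]

/-- The components for `T` inside `L`. -/
def compsIn (L T : Subgroup G) : Set (Subgroup G) := {K | Cfsg.IsJComponent T K ∧ K ≤ L}

/-- The subgroup generated by the four-groups of the components. -/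
def wSum (C : Set (Subgroup G)) : Subgroup G := ⨆ K ∈ C, Cfsg.wOf K

theorem exists_maximal_local {N : Subgroup G} (hN : Cfsg.IsTwoLocal N) :
    ∃ L, Cfsg.IsMaximalTwoLocal L ∧ N ≤ L := by
  obtain ⟨L, hL, hmax⟩ :=
    Finite.exists_le_maximal (p := fun N : Subgroup G => Cfsg.IsTwoLocal N) hN
  exact ⟨L, ⟨hmax.prop, fun N' hN' hle => le_antisymm (hmax.le_of_ge hN' hle) hle⟩, hL⟩

section

variable {M : Subgroup G} {S : Sylow 2 G} {T K : Subgroup G}
variable (H : MHyp M S) (hT : T ∈ Cfsg.maxStraddlingTwoSubgroups M)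
variable (hK : Cfsg.IsJComponent T K) (hKM : ¬ K ≤ M)
include H hT hK hKM

/-- A 2-local subgroup containing `⟨K, J(T)⟩`. -/
theorem MHyp.exists_lhyp {N : Subgroup G} (hN : Cfsg.IsTwoLocal N) (hle : K ⊔ jay 2 T ≤ N) :
    ∃ T₀, LHyp N T₀ ∧ jay 2 T₀ = jay 2 T := by
  obtain ⟨T₀, hT₀, hJ⟩ := exists_sylowTwoIn (hT.1.1.to_le jay_le) (le_sup_right.trans hle)
  obtain ⟨h1, -, h3, -⟩ := H.local_outside hT hN (fun h => hKM ((le_sup_left.trans hle).trans h))
    hT₀ hJ
  exact ⟨T₀, h3, h1⟩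

theorem MHyp.compsIn_eq {L : Subgroup G} (hL : Cfsg.IsMaximalTwoLocal L)
    (hle : K ⊔ jay 2 T ≤ L) :
    compsIn L T = compsIn (normalizer (Cfsg.wOf K : Set G)) T ∧
      L = normalizer (wSum (compsIn L T) : Set G) := by
  have Z := H.zn
  obtain ⟨T₀, h, hJ₀⟩ := H.exists_lhyp hT hK hKM hL.1 hle
  set N := normalizer (Cfsg.wOf K : Set G) with hN
  have hKN : K ⊔ jay 2 T ≤ N := sup_le (le_normalizer.trans (normalizer_le_normalizer_wOf K))
    (jcomp_jay_le_normalizer_wOf hK)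
  obtain ⟨T₁, h', hJ₁⟩ :=
    H.exists_lhyp hT hK hKM (isTwoLocal_normalizer (wOf_pGroup hK) (wOf_ne_bot hK)) hKN
  obtain ⟨a, ha, hKa⟩ := h.exists_eq_comp Z (jcomp_congr hJ₀ hK) (le_sup_left.trans hle)
  -- components of `L` normalise `W`
  have h1 : compsIn L T ⊆ compsIn N T := by
    rintro K' ⟨hK', hK'L⟩
    refine ⟨hK', ?_⟩
    obtain ⟨b, hb, rfl⟩ := h.exists_eq_comp Z (jcomp_congr hJ₀ hK') hK'L
    intro x hx
    refine Thompson.mem_normalizer_of_map_conj ?_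
    rw [hKa, h.wOf_comp Z ha]
    exact cj_planeA_of_plStab (h.piece_le_plStab Z hb.tvL (oddCl_le _ hx)) ha.tvL
  -- `L` normalises the join
  have hnorm : L ≤ normalizer (wSum (compsIn L T) : Set G) := by
    intro l hl
    refine H61.mem_normalizer_of_conj_mem fun x hx => ?_
    have hle' : wSum (compsIn L T) ≤ cj l⁻¹ (wSum (compsIn L T)) := by
      refine iSup₂_le fun K' hK' => ?_
      obtain ⟨b, hb, hK'b⟩ := h.exists_eq_comp Z (jcomp_congr hJ₀ hK'.1) hK'.2
      obtain ⟨b', hb', -, hpl⟩ := h.conj_adm Z hl hb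
      intro y hy
      rw [mem_cj, inv_inv]
      have hy' : l * y * l⁻¹ ∈ planeA L b' := by
        rw [← hpl, planeA_conj (h.setup Z) hb.tvL hl]
        rw [hK'b, h.wOf_comp Z hb] at hy
        exact conj_mem_cj hy
      refine (le_iSup₂ (f := fun (K : Subgroup G) (_ : K ∈ compsIn L T) => Cfsg.wOf K)
        (compOf L b') ⟨jcomp_congr hJ₀.symm (h.isJComponent_comp Z hb'), h.comp_le Z⟩ :
          Cfsg.wOf (compOf L b') ≤ wSum (compsIn L T)) ?_
      rw [h.wOf_comp Z hb']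
      exact hy'
    have := hle' hx
    rwa [mem_cj, inv_inv] at this
  have hsum : wSum (compsIn L T) ≤ Vc L := iSup₂_le fun K' hK' => by
    obtain ⟨b, hb, hK'b⟩ := h.exists_eq_comp Z (jcomp_congr hJ₀ hK'.1) hK'.2
    rw [hK'b, h.wOf_comp Z hb]
    exact planeA_le (h.setup Z) hb.tvL
  have hsum2 : IsPGroup 2 (wSum (compsIn L T)) :=
    ((isPGroup_pCoreOf L).to_le (om_le _)).to_le hsum
  have hsumne : wSum (compsIn L T) ≠ ⊥ := fun e => wOf_ne_bot hK (le_bot_iff.mp (e ▸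
    (le_iSup₂ (f := fun (K : Subgroup G) (_ : K ∈ compsIn L T) => Cfsg.wOf K) K
      ⟨hK, le_sup_left.trans hle⟩ : Cfsg.wOf K ≤ wSum (compsIn L T))))
  have hLeq : L = normalizer (wSum (compsIn L T) : Set G) :=
    (hL.2 _ (isTwoLocal_normalizer hsum2 hsumne) hnorm).symm
  refine ⟨h1.antisymm ?_, hLeq⟩
  rintro K'' ⟨hK'', hK''N⟩
  refine ⟨hK'', ?_⟩
  obtain ⟨b, hb, hKb⟩ := h'.exists_eq_comp Z (jcomp_congr hJ₁ hK'') hK''N
  rw [hLeq]
  intro x hx
  rw [hKb] at hx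
  have hxst : x ∈ plStab N := h'.piece_le_plStab Z hb.tvL (oddCl_le _ hx)
  refine Thompson.mem_normalizer_of_map_conj ?_
  simp only [wSum, Subgroup.map_iSup]
  refine iSup_congr fun K' => iSup_congr fun hK' => ?_
  obtain ⟨c, hc, hKc⟩ := h'.exists_eq_comp Z (jcomp_congr hJ₁ (h1 hK').1) (h1 hK').2
  rw [hKc, h'.wOf_comp Z hc]
  exact cj_planeA_of_plStab hxst hc.tvL

theorem MHyp.top_unique {L L' : Subgroup G} (hL : Cfsg.IsMaximalTwoLocal L)
    (hle : K ⊔ jay 2 T ≤ L) (hL' : Cfsg.IsMaximalTwoLocal L') (hle' : K ⊔ jay 2 T ≤ L') :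
    L' = L := by
  obtain ⟨a, b⟩ := H.compsIn_eq hT hK hKM hL hle
  obtain ⟨a', b'⟩ := H.compsIn_eq hT hK hKM hL' hle'
  rw [b, b', a, a']

theorem MHyp.local_le_top {L N : Subgroup G} (hL : Cfsg.IsMaximalTwoLocal L)
    (hle : K ⊔ jay 2 T ≤ L) (hN : Cfsg.IsTwoLocal N) (hNle : K ⊔ jay 2 T ≤ N) : N ≤ L := by
  obtain ⟨L', hL', hNL'⟩ := exists_maximal_local hN
  exact hNL'.trans (H.top_unique hT hK hKM hL hle hL' (hNle.trans hNL')).le

end

/-- `L` is the maximal 2-local overgroup of the component `K` outside `M`. -/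
structure TopHyp (M : Subgroup G) (S : Sylow 2 G) (T L K : Subgroup G) : Prop where
  m : MHyp M S
  max : T ∈ Cfsg.maxStraddlingTwoSubgroups M
  lh : LHyp L T
  loc : Cfsg.IsMaximalTwoLocal L
  jc : Cfsg.IsJComponent T K
  kl : K ≤ L
  nm : ¬ K ≤ M

section

variable {M : Subgroup G} {S : Sylow 2 G} {T L K : Subgroup G}

theorem MHyp.exists_top (H : MHyp M S) (hT : T ∈ Cfsg.maxStraddlingTwoSubgroups M)
    (hK : K ∈ Cfsg.jComponentsOutside M T) : ∃ L, TopHyp M S T L K := by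
  obtain ⟨⟨hjc, -⟩, hKM, hne⟩ := hK
  set P := K ⊔ T with hP
  have hloc : Cfsg.IsTwoLocal (normalizer (Cfsg.pCoreOf 2 P : Set G)) :=
    isTwoLocal_normalizer (isPGroup_pCoreOf P) hne
  obtain ⟨L, hL, hle⟩ := exists_maximal_local hloc
  have hKL : K ≤ L := le_sup_left.trans ((le_normalizer_pCoreOf P).trans hle)
  have hTL : T ≤ L := le_sup_right.trans ((le_normalizer_pCoreOf P).trans hle)
  exact ⟨L, H, hT, (H.overgroup hT hL.1 (fun h => hKM (hKL.trans h)) hTL).1, hL, hjc, hKL, hKM⟩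

variable (X : TopHyp M S T L K)
include X

theorem TopHyp.not_le : ¬ L ≤ M := fun h => X.nm (X.kl.trans h)

theorem TopHyp.sup_jay_le : K ⊔ jay 2 T ≤ L := sup_le X.kl (jay_le.trans X.lh.syl.1)

theorem TopHyp.outside : K ∈ Cfsg.jComponentsOutside M T := by
  refine ⟨X.m.mem_zero X.max X.jc X.nm, X.nm, fun hbot => X.lh.pCoreOf_ne_bot X.m.zn ?_⟩
  have hQ := le_pCoreOf (L := K ⊔ T) (isPGroup_pCoreOf L)
    ((pCoreOf_le_sylowTwoIn X.lh.syl).trans le_sup_right)
    ((sup_le X.kl X.lh.syl.1).trans (le_normalizer_pCoreOf L))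
  rwa [hbot, le_bot_iff] at hQ

theorem TopHyp.local_le {N : Subgroup G} (hN : Cfsg.IsTwoLocal N) (hle : K ⊔ jay 2 T ≤ N) :
    N ≤ L := X.m.local_le_top X.max X.jc X.nm X.loc X.sup_jay_le hN hle

/-- The centraliser of a nontrivial element centralised by `K` and `J(T)` lies in `L`. -/
theorem TopHyp.centralizer_le {x : G} (hx : x ≠ 1) (hx2 : x * x = 1)
    (hK : K ≤ centralizer ({x} : Set G)) (hJ : jay 2 T ≤ centralizer ({x} : Set G)) :
    centralizer ({x} : Set G) ≤ L := by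
  have h2 : IsPGroup 2 (zpowers x) := fun z => by
    obtain ⟨n, hn⟩ := mem_zpowers_iff.mp z.2
    refine ⟨1, Subtype.ext ?_⟩
    rw [coe_pow, coe_one, ← hn, ← zpow_natCast (x ^ n), ← zpow_mul, mul_comm, zpow_mul,
      zpow_natCast, pow_one, pow_two, hx2, one_zpow]
  have hC : centralizer ({x} : Set G) ≤ normalizer (zpowers x : Set G) := by
    intro g hg
    refine H61.mem_normalizer_of_conj_mem fun y hy => ?_
    obtain ⟨n, rfl⟩ := mem_zpowers_iff.mp hy
    rw [← conj_zpow, mem_centralizer_singleton_iff.mp hg, mul_inv_cancel_right]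
    exact zpow_mem_zpowers x n
  exact hC.trans (X.local_le (isTwoLocal_normalizer h2 (fun e => hx (zpowers_eq_bot.mp e)))
    (sup_le (hK.trans hC) (hJ.trans hC)))

theorem TopHyp.normalizer_le : normalizer (L : Set G) ≤ L := by
  have hne := X.lh.pCoreOf_ne_bot X.m.zn
  have hle := (le_normalizer_pCoreOf L)
  have h := X.loc.2 _ (isTwoLocal_normalizer (isPGroup_pCoreOf L) hne) hle
  exact (normalizer_le_normalizer_pCoreOf L).trans h.le

end

end Cfsg.Agent.H85.ZN
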