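import Cfsg.Agent.S1349
import Cfsg.Agent.Cores.Fitting
import Mathlib.GroupTheory.PGroup
import Mathlib.GroupTheory.GroupAction.Basic

/-!
Solvable groups acting faithfully on an elementary abelian 2-group with self-centralising odd
normal subgroup: the offender bound and the structure of transvections (independent planes).
-/

set_option autoImplicit false
set_option linter.style.haveILetI false
set_option linter.unusedSectionVars false

namespace Cfsg.Agent.H85.ZN

open Subgroup

variable {H V : Type*} [Group H] [CommGroup V] [MulDistribMulAction H V]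

variable (V) in
/-- The fixed points of a set of operators. -/
def fix (S : Set H) : Subgroup V where
  carrier := {v | ∀ h ∈ S, h • v = v}
  one_mem' := fun h _ => smul_one h
  mul_mem' := fun {a b} ha hb h hh => by rw [smul_mul', ha h hh, hb h hh]
  inv_mem' := fun {a} ha h hh => by rw [smul_inv', ha h hh]

theorem mem_fix {S : Set H} {v : V} : v ∈ fix V S ↔ ∀ h ∈ S, h • v = v := Iff.rfl

theorem mem_fix_singleton {t : H} {v : V} : v ∈ fix V ({t} : Set H) ↔ t • v = v :=
  ⟨fun h => h t rfl, fun h _ hs => Set.mem_singleton_iff.mp hs ▸ h⟩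

theorem fix_anti {S T : Set H} (h : S ⊆ T) : fix V T ≤ fix V S := fun _ hv x hx => hv x (h hx)

theorem fix_closure (S : Set H) : fix V (closure S : Set H) = fix V S := by
  refine le_antisymm (fix_anti subset_closure) fun v hv h hh => ?_
  have : closure S ≤ MulAction.stabilizer H v := (closure_le _).mpr hv
  exact this hh

variable (V) in
/-- The endomorphism `v ↦ v (h • v)`. -/
def disp (h : H) : V →* V where
  toFun v := v * h • v
  map_one' := by simp
  map_mul' a b := by rw [smul_mul']; exact mul_mul_mul_comm _ _ _ _

theorem disp_apply (h : H) (v : V) : disp V h v = v * h • v := rfl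

section Elementary

variable (hV : ∀ v : V, v * v = 1)
include hV

theorem inv_eq (v : V) : v⁻¹ = v := (eq_inv_of_mul_eq_one_left (hV v)).symm

theorem mul_self_mul (v w : V) : v * (v * w) = w := by rw [← mul_assoc, hV, one_mul]

theorem smul_eq_mul_disp (h : H) (v : V) : h • v = v * disp V h v := by
  rw [disp_apply, mul_self_mul hV]

theorem disp_ker (h : H) : (disp V h).ker = fix V ({h} : Set H) := by
  ext v
  rw [MonoidHom.mem_ker, disp_apply, mem_fix_singleton]
  constructor
  · intro e
    have := congrArg (v * ·) e
    simpa [mul_self_mul hV] using this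
  · intro e; rw [e, hV]

theorem card_disp_range [Finite V] (h : H) :
    Nat.card (disp V h).range = (fix V ({h} : Set H)).index := by
  rw [← index_ker, disp_ker hV]

/-- An element of odd order centralising its own displacements acts trivially. -/
theorem smul_eq_self_of_disp_fixed [Finite H] {d : H} (hd : Odd (orderOf d)) {v : V}
    (h : d • (v * d • v) = v * d • v) : d • v = v := by
  have h2 : (d ^ 2) • v = v := by
    rw [pow_two, mul_smul]
    rw [smul_mul', mul_comm v] at h
    exact mul_left_cancel h
  obtain ⟨m, hm⟩ := hd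
  have h3 : d = (d ^ 2) ^ (m + 1) := by
    rw [← pow_mul, show 2 * (m + 1) = orderOf d + 1 by omega, pow_succ, pow_orderOf_eq_one,
      one_mul]
  have h4 : (d ^ 2) ^ (m + 1) ∈ MulAction.stabilizer H v :=
    Subgroup.pow_mem _ (MulAction.mem_stabilizer_iff.mpr h2) _
  rw [← h3] at h4
  exact h4

/-- An element of odd order commuting with a 2-group and centralising its fixed points acts
trivially. -/
theorem smul_eq_self_of_fixed_pgroup [Finite H] [Finite V] {P : Subgroup H} (hP : IsPGroup 2 P)
    {d : H} (hd : Odd (orderOf d)) (hc : ∀ a ∈ P, a * d = d * a)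
    (hf : ∀ v ∈ fix V (P : Set H), d • v = v) (v : V) : d • v = v := by
  haveI : Fact (Nat.Prime 2) := ⟨Nat.prime_two⟩
  set M := (disp V d).range with hM
  by_cases hbot : M = ⊥
  · have : v ∈ (disp V d).ker := by
      rw [MonoidHom.range_eq_bot_iff] at hbot
      rw [hbot]; simp
    rw [disp_ker hV] at this
    exact mem_fix_singleton.mp this
  have hinv : ∀ a ∈ P, ∀ m ∈ M, a • m ∈ M := by
    rintro a ha _ ⟨w, rfl⟩
    refine ⟨a • w, ?_⟩
    rw [disp_apply, disp_apply, smul_mul', ← mul_smul, ← mul_smul, hc a ha]
  letI : MulAction ↥P ↥M :=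
    { smul := fun a m => ⟨(a : H) • (m : V), hinv a a.2 m m.2⟩
      one_smul := fun m => Subtype.ext (one_smul H (m : V))
      mul_smul := fun a b m => Subtype.ext (mul_smul (a : H) b (m : V)) }
  have hdvd : 2 ∣ Nat.card ↥M := by
    obtain ⟨m, hm, hm1⟩ := (Subgroup.ne_bot_iff_exists_ne_one.mp hbot : ∃ m : ↥M, m ≠ 1) |>
      fun ⟨m, h⟩ => (⟨(m : V), m.2, fun e => h (Subtype.ext e)⟩ : ∃ m : V, m ∈ M ∧ m ≠ 1)
    have ho : orderOf m = 2 := orderOf_eq_prime (by rw [pow_two, hV]) hm1
    exact ho ▸ Subgroup.orderOf_dvd_natCard M hm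
  obtain ⟨b, hb, hb1⟩ := hP.exists_fixed_point_of_prime_dvd_card_of_fixed_point ↥M hdvd
    (a := (1 : ↥M)) (fun a => Subtype.ext (smul_one (a : H)))
  have hbP : (b : V) ∈ fix V (P : Set H) := fun a ha => congrArg Subtype.val (hb ⟨a, ha⟩)
  obtain ⟨w, hw⟩ := b.2
  rw [disp_apply] at hw
  have := smul_eq_self_of_disp_fixed hV hd (v := w) (by rw [hw]; exact hf _ hbP)
  rw [this, hV] at hw
  exact (hb1 (Subtype.ext hw)).elim

end Elementary

/-- `t` is a transvection: its fixed points have index two. -/
def IsTv (V : Type*) [CommGroup V] [MulDistribMulAction H V] (t : H) : Prop :=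
  (fix V ({t} : Set H)).index = 2

/-- The hypotheses: `F` odd nilpotent normal self-centralising in the solvable group `H`, acting
faithfully on the elementary abelian 2-group `V`. -/
structure Setup (H V : Type*) [Group H] [CommGroup V] [MulDistribMulAction H V] : Prop where
  hV : ∀ v : V, v * v = 1
  faith : ∀ h : H, (∀ v : V, h • v = v) → h = 1
  hF : Odd (Nat.card (fittingSubgroup H))
  hC : centralizer (fittingSubgroup H : Set H) ≤ fittingSubgroup H

theorem Setup.of_pCore [Finite H] (hsol : Group.IsSolvable H) (hV : ∀ v : V, v * v = 1)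
    (faith : ∀ h : H, (∀ v : V, h • v = v) → h = 1) (hO : Cfsg.pCore 2 H = ⊥) :
    Setup H V where
  hV := hV
  faith := faith
  hC := Cores.centralizer_fittingSubgroup_le
  hF := by
    haveI : Fact (Nat.Prime 2) := ⟨Nat.prime_two⟩
    rw [Nat.odd_iff]
    by_contra hne
    have h2 : 2 ∣ Nat.card (fittingSubgroup H) := Nat.dvd_of_mod_eq_zero (by omega)
    haveI := Cores.fittingSubgroup_isNilpotent (G := H)
    let P : Sylow 2 (fittingSubgroup H) := default
    haveI hPn : (P : Subgroup (fittingSubgroup H)).Normal :=
      ((Group.isNilpotent_of_finite_tfae (G := fittingSubgroup H)).out 0 3 rfl rfl).mp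
        (Cores.fittingSubgroup_isNilpotent (G := H)) 2 ⟨Nat.prime_two⟩ P
    haveI := P.characteristic_of_normal hPn
    have hPne : ((P : Subgroup (fittingSubgroup H)).map (fittingSubgroup H).subtype) ≠ ⊥ := by
      rw [Ne, Subgroup.map_eq_bot_iff_of_injective _ (fittingSubgroup H).subtype_injective]
      exact P.ne_bot_of_dvd_card h2
    exact hPne (le_bot_iff.mp (hO ▸ le_sSup
      ⟨ConjAct.normal_of_characteristic_of_normal, P.isPGroup'.map _⟩))

section

variable [Finite H] [Finite V] (S : Setup H V)
include S

theorem Setup.odd_of_mem {f : H} (hf : f ∈ fittingSubgroup H) : Odd (orderOf f) :=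
  S.hF.of_dvd_nat (Subgroup.orderOf_dvd_natCard _ hf)

/-- **Offender bound.** An elementary abelian 2-subgroup `A` has order at most the index of its
fixed points; with equality it is generated by transvections. -/
theorem offender_bound (hsol : Group.IsSolvable H) {A : Subgroup H}
    (hA : Cfsg.IsElementaryAbelian 2 A) :
    Nat.card A ≤ (fix V (A : Set H)).index ∧
      (Nat.card A = (fix V (A : Set H)).index → closure {a : H | a ∈ A ∧ IsTv V a} = A) := by
  classical
  haveI : Fact (Nat.Prime 2) := ⟨Nat.prime_two⟩
  set F := fittingSubgroup H with hFdef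
  have hA2 : IsPGroup 2 A := fun a => ⟨1, Subtype.ext (by simpa using hA.2 a a.2)⟩
  rcases eq_or_ne A ⊥ with rfl | hne
  · refine ⟨?_, fun _ => ?_⟩
    · rw [card_bot]; exact Nat.one_le_iff_ne_zero.mpr index_ne_zero_of_finite
    · exact le_bot_iff.mp ((closure_le _).mpr fun a ha => ha.1)
  obtain ⟨d, hAd⟩ := hA2.exists_card_eq
  have hd : 1 ≤ d := by
    rcases Nat.eq_zero_or_pos d with rfl | h
    · exact absurd (eq_bot_of_card_eq A (by simpa using hAd)) hne
    · exact h
  have hfaith : A ⊓ centralizer (F : Set H) = ⊥ := by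
    rw [Subgroup.eq_bot_iff_forall]
    rintro a ⟨haA, haC⟩
    have h1 := S.odd_of_mem (S.hC haC)
    have h2 : orderOf a ∣ 2 := orderOf_dvd_of_pow_eq_one (hA.2 a haA)
    exact orderOf_eq_one_iff.mp (Nat.eq_one_of_dvd_coprimes
      (Nat.coprime_two_right.mpr h1) dvd_rfl h2)
  haveI : Group.IsSolvable H := hsol
  obtain ⟨Ai, Li, n, hAi, hsup, hcomm⟩ := S1349.result F A inferInstance S.hF hA d hd hAd
    (fun a _ => (normalizer_eq_top_iff.mpr (inferInstance : F.Normal)).symm ▸ mem_top a) hfaith
  -- a generator `a i` and an element `e i` of odd order inverted by it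
  have hgen : ∀ i, ∃ a e : H, Ai i = zpowers a ∧ e ∈ Li i ∧ a * e ≠ e * a := fun i => by
    obtain ⟨_, hcard, hL, hno, hn3, ⟨iso⟩⟩ := hAi i
    obtain ⟨a, ha, ha1⟩ := (Subgroup.nontrivial_iff_exists_ne_one _).mp
      (Finite.one_lt_card_iff_nontrivial.mp (by omega : 1 < Nat.card (Ai i)))
    have haz : Ai i = zpowers a := by
      refine (Subgroup.eq_of_le_of_card_ge (zpowers_le.mpr ha) ?_).symm
      rw [hcard, Nat.card_zpowers]
      have : orderOf a ≠ 1 := fun e => ha1 (orderOf_eq_one_iff.mp e)
      have := orderOf_pos a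
      omega
    by_contra hno'
    push Not at hno'
    have hcom : ∀ x ∈ Ai i ⊔ Li i, x * a = a * x := by
      intro x hx
      rw [sup_eq_closure] at hx
      have : closure ((Ai i : Set H) ∪ Li i) ≤ centralizer ({a} : Set H) := by
        rw [closure_le]
        rintro y (hy | hy)
        · exact mem_centralizer_singleton_iff.mpr
            (congrArg Subtype.val (hA.1.is_comm.comm ⟨y, (hAi i).1 hy⟩ ⟨a, (hAi i).1 ha⟩))
        · exact mem_centralizer_singleton_iff.mpr (hno' a y haz hy).symm
      exact mem_centralizer_singleton_iff.mp (this hx)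
    have hcen : iso ⟨a, mem_sup_left ha⟩ ∈ center (DihedralGroup (n i)) := by
      rw [mem_center_iff]
      intro g
      obtain ⟨x, rfl⟩ := iso.surjective g
      rw [← map_mul, ← map_mul]
      exact congrArg iso (Subtype.ext (hcom x x.2))
    rw [DihedralGroup.center_eq_bot_of_odd_ne_one hno (by omega), mem_bot] at hcen
    exact ha1 (congrArg Subtype.val (iso.map_eq_one_iff.mp hcen))
  choose a e haz he hne' using hgen
  have haA : ∀ i, a i ∈ A := fun i => (hAi i).1 (haz i ▸ mem_zpowers (a i))
  have hAcl : closure (Set.range a) = A := by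
    refine le_antisymm ((closure_le _).mpr (by rintro _ ⟨i, rfl⟩; exact haA i)) ?_
    rw [← hsup]
    exact iSup_le fun i => haz i ▸ zpowers_le.mpr (subset_closure ⟨i, rfl⟩)
  have heF : ∀ i, e i ∈ F := fun i => (hAi i).2.2.1 (he i)
  have hce : ∀ i j, i ≠ j → a j * e i = e i * a j := fun i j hij =>
    (hcomm i j hij (e i) (mem_sup_right (he i)) (a j)
      (mem_sup_left (haz j ▸ mem_zpowers (a j)))).symm
  -- `a i` does not centralise the fixed points of the others
  have hstep : ∀ (s : Finset (Fin d)) (i : Fin d), i ∉ s →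
      fix V (a '' (insert i s : Finset (Fin d))) < fix V (a '' (s : Finset (Fin d))) := by
    intro s i hi
    refine lt_of_le_of_ne (fix_anti (Set.image_mono (by simp))) fun heq => ?_
    set P := closure (a '' (s : Set (Fin d))) with hP
    have hPA : P ≤ A := (closure_le _).mpr (by rintro _ ⟨j, _, rfl⟩; exact haA j)
    set c := a i * e i * (a i)⁻¹ * (e i)⁻¹ with hc
    have hcF : c ∈ F :=
      mul_mem ((inferInstance : F.Normal).conj_mem _ (heF i) _) (inv_mem (heF i))
    have hcP : ∀ x ∈ P, x * c = c * x := by
      intro x hx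
      have : P ≤ centralizer ({c} : Set H) := by
        rw [hP, closure_le]
        rintro _ ⟨j, hj, rfl⟩
        refine mem_centralizer_singleton_iff.mpr ?_
        have hji : i ≠ j := fun h => hi (h ▸ hj)
        have h1 : Commute (a j) (e i) := hce i j hji
        have h2 : Commute (a j) (a i) :=
          congrArg Subtype.val (hA.1.is_comm.comm ⟨_, haA j⟩ ⟨_, haA i⟩)
        exact (((h2.mul_right h1).mul_right h2.inv_right).mul_right h1.inv_right).eq
      exact mem_centralizer_singleton_iff.mp (this hx)
    have htriv : ∀ v : V, c • v = v := by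
      refine smul_eq_self_of_fixed_pgroup S.hV (hA2.to_le hPA) (S.odd_of_mem hcF) hcP fun v hv => ?_
      rw [hP, fix_closure] at hv
      have hai : ∀ w ∈ fix V (a '' (s : Set (Fin d))), a i • w = w := fun w hw => by
        rw [← heq] at hw
        exact hw (a i) ⟨i, by simp, rfl⟩
      have hei : (e i)⁻¹ • v ∈ fix V (a '' (s : Set (Fin d))) := by
        rintro _ ⟨j, hj, rfl⟩
        have h1 : Commute (a j) (e i)⁻¹ :=
          (show Commute (a j) (e i) from hce i j fun h => hi (h ▸ hj)).inv_right
        rw [← mul_smul, h1.eq, mul_smul, hv _ ⟨j, hj, rfl⟩]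
      have hai' : (a i)⁻¹ • (e i)⁻¹ • v = (e i)⁻¹ • v := by
        rw [inv_smul_eq_iff]; exact (hai _ hei).symm
      rw [hc, mul_smul, mul_smul, mul_smul, hai', smul_inv_smul, hai v hv]
    have hc1 := S.faith c htriv
    rw [hc] at hc1
    exact hne' i (mul_inv_eq_iff_eq_mul.mp (mul_inv_eq_one.mp hc1))
  have hgrow : ∀ s : Finset (Fin d), 2 ^ s.card ≤ (fix V (a '' (s : Set (Fin d)))).index := by
    intro s
    induction s using Finset.induction with
    | empty => simpa using Nat.one_le_iff_ne_zero.mpr index_ne_zero_of_finite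
    | @insert i s hi ih =>
      have hlt := hstep s i hi
      have hr := relIndex_mul_index hlt.le
      have h2 : 2 ≤ (fix V (a '' (insert i s : Finset (Fin d)))).relIndex
          (fix V (a '' (s : Finset (Fin d)))) := by
        by_contra hh
        have h0 : (fix V (a '' (insert i s : Finset (Fin d)))).relIndex
            (fix V (a '' (s : Finset (Fin d)))) ≠ 0 := index_ne_zero_of_finite
        exact hlt.not_ge (relIndex_eq_one.mp (by omega))
      rw [Finset.card_insert_of_notMem hi, pow_succ, ← hr, mul_comm]
      exact Nat.mul_le_mul h2 ih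
  have hfixA : fix V (A : Set H) = fix V (a '' (Finset.univ : Finset (Fin d))) := by
    rw [← hAcl, fix_closure, Finset.coe_univ, Set.image_univ]
  refine ⟨?_, fun heq => le_antisymm ((closure_le _).mpr fun x hx => hx.1) ?_⟩
  · rw [hAd, hfixA]
    simpa using hgrow Finset.univ
  · nth_rw 1 [← hAcl]
    refine closure_mono ?_
    rintro _ ⟨i, rfl⟩
    refine ⟨haA i, ?_⟩
    -- `a i` first, the others afterwards
    have key : ∀ s : Finset (Fin d), i ∉ s →
        (fix V ({a i} : Set H)).index * 2 ^ s.card ≤
          (fix V (a '' (insert i s : Finset (Fin d)))).index := by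
      intro s
      induction s using Finset.induction with
      | empty => intro _; simp
      | @insert j s hj ih =>
        intro his
        have his' : i ∉ s := fun h => his (Finset.mem_insert_of_mem h)
        have hji : j ∉ insert i s := fun h => (Finset.mem_insert.mp h).elim
          (fun e => his (e ▸ Finset.mem_insert_self j s)) hj
        have hlt := hstep (insert i s) j hji
        rw [Finset.insert_comm]
        have hr := relIndex_mul_index hlt.le
        have h2 : 2 ≤ (fix V (a '' (insert j (insert i s) : Finset (Fin d)))).relIndex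
            (fix V (a '' (insert i s : Finset (Fin d)))) := by
          by_contra hh
          have h0 : (fix V (a '' (insert j (insert i s) : Finset (Fin d)))).relIndex
              (fix V (a '' (insert i s : Finset (Fin d)))) ≠ 0 := index_ne_zero_of_finite
          exact hlt.not_ge (relIndex_eq_one.mp (by omega))
        rw [Finset.card_insert_of_notMem hj, pow_succ, ← mul_assoc, ← hr, mul_comm]
        exact Nat.mul_le_mul h2 (ih his')
    have h1 := key (Finset.univ.erase i) (Finset.notMem_erase i _)
    rw [Finset.insert_erase (Finset.mem_univ i), ← hfixA, ← heq, hAd,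
      Finset.card_erase_of_mem (Finset.mem_univ i), Finset.card_univ, Fintype.card_fin] at h1
    have hle : (fix V ({a i} : Set H)).index ≤ 2 := by
      have : 2 ^ d = 2 * 2 ^ (d - 1) := by rw [← pow_succ']; congr 1; omega
      rw [this] at h1
      exact Nat.le_of_mul_le_mul_right h1 (pow_pos two_pos _)
    have hne1 : (fix V ({a i} : Set H)).index ≠ 1 := fun e1 => by
      have := S.faith (a i) fun v => mem_fix_singleton.mp ((index_eq_one.mp e1) ▸ mem_top v)
      exact hne' i (by rw [this]; simp)
    have hne0 : (fix V ({a i} : Set H)).index ≠ 0 := index_ne_zero_of_finite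
    show _ = 2
    omega

end

end Cfsg.Agent.H85.ZN
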