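import Cfsg.Agent.H85.ZN.CompDef

/-!
Every component inside `L` is attached to a transvection.
-/

set_option autoImplicit false
set_option linter.style.haveILetI false
set_option linter.unusedSectionVars false

namespace Cfsg.Agent.H85.ZN

open Subgroup Cfsg.Agent.Thompson
open scoped commutatorElement

/-! ### the group generated by the transvections -/

section

variable {H V : Type*} [Group H] [CommGroup V] [MulDistribMulAction H V] [Finite H] [Finite V]

variable (H V) in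
/-- The group generated by all transvections. -/
def tvGrp : Subgroup H := closure {t : H | IsTv V t}

/-- The group generated by the elements of order three attached to the transvections. -/
noncomputable def Setup.dGrp (S : Setup H V) : Subgroup H :=
  closure {d : H | ∃ (t : H) (ht : IsTv V t), d = S.dOf ht}

variable (S : Setup H V)
include S

theorem Setup.tvGrp_normal : (tvGrp H V).Normal := by
  refine normalizer_eq_top_iff.mp (eq_top_iff.mpr fun g _ => H61.mem_normalizer_of_conj_mem ?_)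
  intro x hx
  induction hx using closure_induction with
  | mem t ht => exact subset_closure (S.isTv_conj ht g)
  | one => simp [(tvGrp H V).one_mem]
  | mul a b _ _ ha hb => simpa [mul_assoc] using (tvGrp H V).mul_mem ha hb
  | inv a _ ha => simpa [mul_assoc] using (tvGrp H V).inv_mem ha

theorem Setup.dGrp_normal : S.dGrp.Normal := by
  refine normalizer_eq_top_iff.mp (eq_top_iff.mpr fun g _ => H61.mem_normalizer_of_conj_mem ?_)
  intro x hx
  induction hx using closure_induction with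
  | mem d hd =>
    obtain ⟨t, ht, rfl⟩ := hd
    have hg := S.isTv_conj ht g
    have h1 : zpowers (S.dOf hg) = zpowers (g * S.dOf ht * g⁻¹) :=
      Subgroup.eq_of_le_of_card_ge (zpowers_le.mpr (S.plane_conj ht g hg).1) (by
        rw [Nat.card_zpowers, Nat.card_zpowers, ← MulAut.conj_apply, MulEquiv.orderOf_eq,
          S.orderOf_dOf, S.orderOf_dOf])
    exact (zpowers_le.mpr (subset_closure ⟨_, hg, rfl⟩) : zpowers (S.dOf hg) ≤ S.dGrp)
      (h1 ▸ mem_zpowers _)
  | one => simp [S.dGrp.one_mem]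
  | mul a b _ _ ha hb => simpa [mul_assoc] using S.dGrp.mul_mem ha hb
  | inv a _ ha => simpa [mul_assoc] using S.dGrp.inv_mem ha

theorem Setup.dGrp_le : S.dGrp ≤ fittingSubgroup H :=
  (closure_le _).mpr fun _ ⟨_, _, hd⟩ => hd ▸ S.dOf_mem _

theorem Setup.dGrp_comm {f : H} (hf : f ∈ fittingSubgroup H) {x : H} (hx : x ∈ S.dGrp) :
    Commute f x := by
  induction hx using closure_induction with
  | mem d hd => obtain ⟨t, ht, rfl⟩ := hd; exact S.commute_dOf ht hf
  | one => exact Commute.one_right f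
  | mul a b _ _ ha hb => exact ha.mul_right hb
  | inv a _ ha => exact ha.inv_right

theorem Setup.odd_mem_dGrp {x : H} (hx : x ∈ tvGrp H V) (ho : Odd (orderOf x)) : x ∈ S.dGrp := by
  haveI := S.dGrp_normal
  set π := QuotientGroup.mk' S.dGrp
  have hcomm : ∀ t, IsTv V t → ∀ s, IsTv V s → Commute (π t) (π s) := by
    intro t ht s hs
    by_cases hpl : S.plane ht = S.plane hs
    · obtain ⟨-, e, he, rfl⟩ := S.eq_of_plane_eq ht hs hpl
      have : π e = 1 := (QuotientGroup.eq_one_iff e).mpr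
        ((zpowers_le.mpr (subset_closure ⟨t, ht, rfl⟩) : zpowers (S.dOf ht) ≤ S.dGrp) he)
      rw [map_mul, map_mul, map_inv, this, one_mul, inv_one, mul_one]
    · exact (S.of_plane_ne ht hs hpl).2.1.map π
  have hkey : π x * π x = 1 ∧ ∀ s, IsTv V s → Commute (π x) (π s) := by
    clear ho
    induction hx using closure_induction with
    | mem t ht => exact ⟨by rw [← map_mul, S.tv_sq ht, map_one], hcomm t ht⟩
    | one => exact ⟨by simp, fun s _ => by rw [map_one]; exact Commute.one_left _⟩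
    | mul a b hca hcb ha hb =>
      refine ⟨?_, fun s hs => by rw [map_mul]; exact (ha.2 s hs).mul_left (hb.2 s hs)⟩
      have hab : Commute (π a) (π b) := by
        clear hb ha
        induction hcb using closure_induction with
        | mem s hs =>
          induction hca using closure_induction with
          | mem t ht => exact hcomm t ht s hs
          | one => rw [map_one]; exact Commute.one_left _
          | mul p q _ _ hp hq => rw [map_mul]; exact hp.mul_left hq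
          | inv p _ hp => rw [map_inv]; exact hp.inv_left
        | one => rw [map_one]; exact Commute.one_right _
        | mul p q _ _ hp hq => rw [map_mul]; exact hp.mul_right hq
        | inv p _ hp => rw [map_inv]; exact hp.inv_right
      rw [map_mul, mul_assoc (π a), ← mul_assoc (π b), ← hab.eq, mul_assoc (π a) (π b), hb.1,
        mul_one, ha.1]
    | inv a _ ha =>
      exact ⟨by rw [map_inv, ← mul_inv_rev, ha.1, inv_one],
        fun s hs => by rw [map_inv]; exact (ha.2 s hs).inv_left⟩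
  refine (QuotientGroup.eq_one_iff x).mp (eq_one_of_odd_two (k := 1) ?_ ?_)
  · exact Odd.of_dvd_nat ho (orderOf_map_dvd π x)
  · rw [pow_one, pow_two]; exact hkey.1

end

/-! ### components inside `L` -/

variable {G : Type*} [Group G] [Finite G] {L T K : Subgroup G}

theorem odd_mem_of_mul {x k q : G} (hx : x ∈ normalizer (K : Set G)) (hk : k ∈ K)
    (hxe : x = k * q) {i : ℕ} (hq : q ^ 2 ^ i = 1) (ho : Odd (orderOf x)) : x ∈ K := by
  set N := normalizer (K : Set G)
  have hkN : k ∈ N := le_normalizer hk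
  have hqN : q ∈ N := by
    have := N.mul_mem (N.inv_mem hkN) hx
    rwa [hxe, inv_mul_cancel_left] at this
  have h1 : ((⟨x, hx⟩ : N) : N ⧸ K.subgroupOf N) = ((⟨q, hqN⟩ : N) : N ⧸ K.subgroupOf N) := by
    rw [show (⟨x, hx⟩ : N) = ⟨k, hkN⟩ * ⟨q, hqN⟩ from Subtype.ext hxe, QuotientGroup.mk_mul,
      show ((⟨k, hkN⟩ : N) : N ⧸ K.subgroupOf N) = 1 from (QuotientGroup.eq_one_iff _).mpr hk,
      one_mul]
  have h2 : ((⟨x, hx⟩ : N) : N ⧸ K.subgroupOf N) = 1 := by
    refine eq_one_of_odd_two (k := i) (Odd.of_dvd_nat ho ?_) ?_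
    · have := orderOf_map_dvd (QuotientGroup.mk' (K.subgroupOf N)) (⟨x, hx⟩ : N)
      rwa [Subgroup.orderOf_mk] at this
    · rw [h1, ← QuotientGroup.mk_pow, show (⟨q, hqN⟩ : N) ^ 2 ^ i = 1 from Subtype.ext hq]
      rfl
  exact mem_subgroupOf.mp ((QuotientGroup.eq_one_iff _).mp h2)

theorem jay_le_normalizer_of_comm {J : Subgroup G} (hK : ⁅K, J⁆ = K) :
    J ≤ normalizer (K : Set G) := fun j hj => H61.mem_normalizer_of_conj_mem fun x hx => by
  have h1 : ⁅x, j⁆ ∈ K := hK ▸ commutator_mem_commutator hx hj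
  have : j * x * j⁻¹ = ⁅x, j⁆⁻¹ * x := by simp only [commutatorElement_def]; group
  rw [this]
  exact K.mul_mem (K.inv_mem h1) hx

section

variable (Z : ZHyp G) (h : LHyp L T)
include Z h

theorem LHyp.core_le_normalizer_of_jcomp (hK : Cfsg.IsJComponent T K) (hKL : K ≤ L) :
    Cfsg.pCoreOf 2 L ≤ normalizer (K : Set G) := by
  obtain ⟨hgen, hcomm, -⟩ := hK
  rw [tJ_eq] at hcomm
  set J := jay 2 T with hJ
  set H := K ⊔ J with hH
  have hJN : J ≤ normalizer (K : Set G) := jay_le_normalizer_of_comm hcomm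
  have hHM : H = ⨆ k : K, cj (k : G) J := by
    refine le_antisymm (sup_le ?_ ?_) (iSup_le fun k => cj_le_of_mem (mem_sup_left k.2) le_sup_right)
    · conv_lhs => rw [← hcomm]
      rw [commutator_le]
      intro k hk j hj
      rw [commutatorElement_def]
      refine mul_mem (mem_iSup_of_mem ⟨k, hk⟩ (conj_mem_cj hj)) ?_
      exact mem_iSup_of_mem (1 : K) (by rw [OneMemClass.coe_one, cj_one]; exact J.inv_mem hj)
    · intro j hj
      exact mem_iSup_of_mem (1 : K) (by rwa [OneMemClass.coe_one, cj_one])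
  have hKH : K = oddCl H := by
    refine le_antisymm ?_ ((closure_le _).mpr ?_)
    · conv_lhs => rw [← hgen]
      exact closure_mono fun x hx => ⟨mem_sup_left hx.1, hx.2⟩
    · rintro x ⟨hx, ho⟩
      rw [hH, ← SetLike.mem_coe, Subgroup.coe_mul_of_right_le_normalizer_left K J hJN] at hx
      obtain ⟨k, hk, j, hj, e⟩ := hx
      obtain ⟨i, hi⟩ := h.syl.2.1 ⟨j, jay_le hj⟩
      exact odd_mem_of_mul (e ▸ mul_mem (le_normalizer hk) (hJN hj)) hk e.symm
        (congrArg Subtype.val hi) ho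
  intro q hq
  rw [hKH]
  refine normalizer_le_normalizer_oddCl H (Thompson.mem_normalizer_of_map_conj ?_)
  rw [hHM, Subgroup.map_iSup]
  refine iSup_congr fun k => map_conj_of_mem_normalizer ?_
  rw [hJ, ← jay_cj]
  exact normalizer_le_normalizer_jay 2 _ (le_normalizer (pCoreOf_le_sylowTwoIn
    (h.congr Z (by
      have := sylowTwoIn_cj h.syl (k : G)
      rwa [cj_of_mem_normalizer (le_normalizer (hKL k.2))] at this)).syl hq))

set_option maxHeartbeats 800000 in
/-- Every component inside `L` is attached to an admissible transvection. -/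
theorem LHyp.exists_eq_comp (hK : Cfsg.IsJComponent T K) (hKL : K ≤ L) :
    ∃ a, Adm L T a ∧ K = compOf L a := by
  have hQN := h.core_le_normalizer_of_jcomp Z hK hKL
  obtain ⟨hgen, hcomm, hrel, -, -, -⟩ := hK
  rw [tJ_eq] at hcomm
  set S := h.setup Z
  have hJN : jay 2 T ≤ normalizer (K : Set G) := jay_le_normalizer_of_comm hcomm
  have hJL : jay 2 T ≤ L := jay_le.trans h.syl.1
  have hJgen : jay 2 T ≤ gen2 L := two_le_gen2 (h.syl.2.1.to_le jay_le) hJL
  -- `K` is not inside `C_L(V)`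
  have hnot : ¬ K ≤ Cn L := by
    intro hle
    have hKQ : K ≤ Cfsg.pCoreOf 2 L := by
      conv_lhs => rw [← hcomm]
      rw [commutator_le]
      intro k hk j hj
      have := (Cfsg.pCoreOf 2 L).inv_mem (h.comm_gen2 Z (hJgen hj) (hle hk))
      simpa [commutatorElement_def, mul_assoc] using this
    have hbot : K = ⊥ := by
      rw [← hgen, Subgroup.closure_eq_bot_iff]
      rintro x ⟨hx, ho⟩
      obtain ⟨i, hi⟩ := isPGroup_pCoreOf L ⟨x, hKQ hx⟩
      exact eq_one_of_odd_two ho (congrArg Subtype.val hi)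
    rw [hbot, relIndex_bot_right] at hrel
    omega
  -- its image lies in the abelian group of the `d`s
  haveI := S.tvGrp_normal
  have hJX : ∀ j (hj : j ∈ jay 2 T), img L ⟨j, hJL hj⟩ ∈ tvGrp ↥(Hq L) ↥(Vc L) := by
    intro j hj
    have hle : jay 2 T ≤ ((tvGrp ↥(Hq L) ↥(Vc L)).comap (img L)).map L.subtype := by
      refine (h.jay_le_tv Z).trans ((closure_le _).mpr ?_)
      rintro x (⟨-, hx⟩ | hx)
      · exact ⟨⟨x, hx.mem⟩, mem_comap.mpr (subset_closure hx.tv), rfl⟩
      · exact ⟨⟨x, hx.1⟩, mem_comap.mpr ((mem_Cn hx.1).mp hx ▸ one_mem _), rfl⟩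
    obtain ⟨⟨y, hy⟩, hm, e⟩ := hle hj
    obtain rfl : y = j := e
    exact hm
  have hKX : ∀ k (hk : k ∈ K), img L ⟨k, hKL hk⟩ ∈ tvGrp ↥(Hq L) ↥(Vc L) := by
    intro k hk
    have hle : K ≤ ((tvGrp ↥(Hq L) ↥(Vc L)).comap (img L)).map L.subtype := by
      conv_lhs => rw [← hcomm]
      rw [commutator_le]
      intro x hx j hj
      refine ⟨⁅(⟨x, hKL hx⟩ : L), ⟨j, hJL hj⟩⁆, mem_comap.mpr ?_, rfl⟩
      rw [commutatorElement_def, map_mul, map_mul, map_mul, map_inv, map_inv]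
      exact mul_mem (S.tvGrp_normal.conj_mem _ (hJX j hj) _) (inv_mem (hJX j hj))
    obtain ⟨⟨y, hy⟩, hm, e⟩ := hle hk
    obtain rfl : y = k := e
    exact hm
  have hKD : ∀ k (hk : k ∈ K), img L ⟨k, hKL hk⟩ ∈ S.dGrp := by
    intro k hk
    have hle : K ≤ ((S.dGrp).comap (img L)).map L.subtype := by
      conv_lhs => rw [← hgen]
      rw [closure_le]
      rintro x ⟨hx, ho⟩
      refine ⟨⟨x, hKL hx⟩, mem_comap.mpr (S.odd_mem_dGrp (hKX x hx) (Odd.of_dvd_nat ho ?_)), rfl⟩
      exact (orderOf_map_dvd (img L) (⟨x, hKL hx⟩ : L)).trans (dvd_of_eq (Subgroup.orderOf_mk _ _))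
    obtain ⟨⟨y, hy⟩, hm, e⟩ := hle hk
    obtain rfl : y = k := e
    exact hm
  -- the core of `K`
  have hcore : Cfsg.pCoreOf 2 K = K ⊓ Cfsg.pCoreOf 2 L := by
    refine le_antisymm (fun x hx => ?_) (le_pCoreOf ((isPGroup_pCoreOf L).to_le inf_le_right)
      inf_le_left fun g hg => H61.mem_normalizer_of_conj_mem fun x hx =>
        ⟨K.mul_mem (K.mul_mem hg hx.1) (K.inv_mem hg),
          (mem_normalizer_iff.mp (le_normalizer_pCoreOf L (hKL hg)) x).mp hx.2⟩)
    have hxK := pCoreOf_le 2 _ hx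
    obtain ⟨i, hi⟩ := isPGroup_pCoreOf _ ⟨x, hx⟩
    have hi' : x ^ 2 ^ i = 1 := congrArg Subtype.val hi
    refine ⟨hxK, h.mem_core_of_two Z ?_ i hi'⟩
    rw [mem_Cn (hKL hxK)]
    refine eq_one_of_odd_two (k := i) (S.odd_of_mem (S.dGrp_le (hKD x hxK))) ?_
    rw [← map_pow, show (⟨x, hKL hxK⟩ : L) ^ 2 ^ i = 1 from Subtype.ext hi', map_one]
  -- a transvection acting on `K`
  obtain ⟨a, ha, k0, hk0, hne⟩ : ∃ a, ∃ ha : Adm L T a, ∃ k0, ∃ hk0 : k0 ∈ K,
      ¬ Commute (img L ⟨a, ha.tvL.mem⟩) (img L ⟨k0, hKL hk0⟩) := by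
    by_contra hall
    push Not at hall
    refine hnot ?_
    conv_lhs => rw [← hcomm]
    rw [commutator_le]
    intro k hk j hj
    have hle : jay 2 T ≤
        ((centralizer ({img L ⟨k, hKL hk⟩} : Set ↥(Hq L))).comap (img L)).map L.subtype := by
      refine (h.jay_split Z).trans (sup_le ((closure_le _).mpr fun a ha => ?_) fun x hx => ?_)
      · exact ⟨⟨a, ha.tvL.mem⟩, mem_centralizer_singleton_iff.mpr (hall a ha k hk).eq, rfl⟩
      · refine ⟨⟨x, pCoreOf_le 2 L hx.2⟩, mem_centralizer_singleton_iff.mpr ?_, rfl⟩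
        rw [(mem_Cn (pCoreOf_le 2 L hx.2)).mp (pCoreOf_le_Cn L hx.2), one_mul, mul_one]
    obtain ⟨⟨y, hy⟩, hm, e⟩ := hle hj
    obtain rfl : y = j := e
    have hm' := mem_centralizer_singleton_iff.mp (mem_comap.mp hm)
    refine (mem_Cn (L.mul_mem (L.mul_mem (L.mul_mem (hKL hk) hy) (L.inv_mem (hKL hk)))
      (L.inv_mem hy))).mpr ?_
    show img L (⟨k, hKL hk⟩ * ⟨y, hy⟩ * ⟨k, hKL hk⟩⁻¹ * ⟨y, hy⟩⁻¹) = 1
    rw [map_mul, map_mul, map_mul, map_inv, map_inv, ← hm', mul_inv_cancel_right, mul_inv_cancel]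
  -- modulo `O₂(L)`
  have hker : (Cfsg.pCoreOf 2 L).subgroupOf L = (proj L).ker := (QuotientGroup.ker_mk' _).symm
  have hcard : Nat.card ((K.subgroupOf L).map (proj L)) = 3 := by
    rw [← relIndex_ker, ← hker, relIndex_subgroupOf hKL, ← hrel, hcore, inf_relIndex_left]
  set p0 := proj L ⟨k0, hKL hk0⟩ with hp0
  set A := proj L ⟨a, ha.tvL.mem⟩ with hA
  have hAA : A * A = 1 := by
    rw [hA, ← map_mul, show (⟨a, ha.tvL.mem⟩ : L) * ⟨a, ha.tvL.mem⟩ = 1 from Subtype.ext ha.tvL.1,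
      map_one]
  have himg_of : ∀ x y : L, proj L x = proj L y → img L x = img L y := by
    intro x y e
    have : ((x⁻¹ * y : L) : G) ∈ Cn L :=
      pCoreOf_le_Cn L (proj_eq_one.mp (by rw [map_mul, map_inv, e, inv_mul_cancel]))
    rw [mem_Cn_coe, map_mul, map_inv, inv_mul_eq_one] at this
    exact this
  have hp01 : p0 ≠ 1 := fun e => hne (by
    rw [himg_of ⟨k0, hKL hk0⟩ 1 (e.trans (map_one _).symm), map_one]
    exact Commute.one_right _)
  have hmem0 : p0 ∈ (K.subgroupOf L).map (proj L) := ⟨⟨k0, hKL hk0⟩, hk0, rfl⟩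
  have hord : orderOf p0 = 3 := by
    have h1 : orderOf p0 ∣ 3 := by
      rw [← Nat.card_zpowers, ← hcard]; exact card_dvd_of_le (zpowers_le.mpr hmem0)
    exact ((Nat.dvd_prime Nat.prime_three).mp h1).resolve_left
      fun e => hp01 (orderOf_eq_one_iff.mp e)
  have hmapK : (K.subgroupOf L).map (proj L) = zpowers p0 :=
    (Subgroup.eq_of_le_of_card_ge (zpowers_le.mpr hmem0)
      (by rw [hcard, Nat.card_zpowers, hord])).symm
  have hmK : ∀ x (hx : x ∈ K), proj L ⟨x, hKL hx⟩ ∈ zpowers p0 := fun x hx =>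
    hmapK ▸ ⟨⟨x, hKL hx⟩, hx, rfl⟩
  have haK : a ∈ normalizer (K : Set G) := hJN ha.mem_jay
  have hinv : A * p0 * A = p0⁻¹ := by
    have hconj : a * k0 * a ∈ K := by
      have := (mem_normalizer_iff.mp haK k0).mp hk0
      rwa [ha.tvL.inv_eq] at this
    have h1 := hmK _ hconj
    rw [show (⟨a * k0 * a, hKL hconj⟩ : L) = ⟨a, ha.tvL.mem⟩ * ⟨k0, hKL hk0⟩ * ⟨a, ha.tvL.mem⟩ from
      rfl, map_mul, map_mul] at h1
    rcases zpow3_cases hord h1 with e | e | e
    · refine absurd ?_ hp01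
      calc p0 = A * A * p0 * (A * A) := by rw [hAA, one_mul, mul_one]
        _ = A * (A * p0 * A) * A := by group
        _ = 1 := by rw [e, mul_one, hAA]
    · exfalso
      apply hne
      have h2 := himg_of (⟨a, ha.tvL.mem⟩ * ⟨k0, hKL hk0⟩ * ⟨a, ha.tvL.mem⟩) ⟨k0, hKL hk0⟩
        (by rw [map_mul, map_mul]; exact e)
      rw [map_mul, map_mul] at h2
      show img L ⟨a, _⟩ * img L ⟨k0, _⟩ = img L ⟨k0, _⟩ * img L ⟨a, _⟩
      conv_rhs => rw [← h2]
      rw [mul_assoc (_ * _) (img L ⟨a, ha.tvL.mem⟩), S.tv_sq ha.tvL.tv, mul_one]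
    · rw [e]
      refine (inv_eq_of_mul_eq_one_right ?_).symm
      rw [← mul_assoc, ← pow_three', ← hord, pow_orderOf_eq_one]
  set f := img L ⟨k0, hKL hk0⟩ with hf
  set t := img L ⟨a, ha.tvL.mem⟩ with ht
  have htf : t * f * t = f⁻¹ := by
    have := himg_of (⟨a, ha.tvL.mem⟩ * ⟨k0, hKL hk0⟩ * ⟨a, ha.tvL.mem⟩) ⟨k0, hKL hk0⟩⁻¹
      (by rw [map_mul, map_mul, map_inv]; exact hinv)
    rwa [map_mul, map_mul, map_inv] at this
  have hf3 : f * f * f = 1 := by
    have := himg_of (⟨k0, hKL hk0⟩ * ⟨k0, hKL hk0⟩ * ⟨k0, hKL hk0⟩) 1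
      (by rw [map_mul, map_mul, map_one, ← hp0, ← pow_three', ← hord, pow_orderOf_eq_one])
    rwa [map_mul, map_mul, map_one] at this
  have hfd : f ∈ zpowers (S.dOf ha.tvL.tv) := by
    have h1 := S.mem_zpowers_dOf ha.tvL.tv (S.dGrp_le (hKD k0 hk0))
    have e : t * (f * t * f⁻¹) = f := by
      rw [← mul_assoc, ← mul_assoc, htf, ← mul_inv_rev]
      exact inv_eq_of_mul_eq_one_right hf3
    change t * (f * t * f⁻¹) ∈ _ at h1
    rwa [e] at h1
  have hKP : ∀ x ∈ K, x ∈ piece L a := by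
    intro x hx
    refine subset_closure ⟨hKL hx, ⟨S, ha.tvL.mem, ha.tvL.tv, ?_⟩, ?_⟩
    · obtain ⟨n, hn⟩ := hmK x hx
      have hn' : proj L (⟨k0, hKL hk0⟩ ^ n) = proj L ⟨x, hKL hx⟩ := by rw [map_zpow]; exact hn
      rw [← himg_of _ _ hn', map_zpow]
      exact (zpowers (S.dOf ha.tvL.tv)).zpow_mem hfd n
    · obtain ⟨n, hn : p0 ^ n = proj L ⟨x, hKL hx⟩⟩ := hmK x hx
      have h1 : proj L (⟨a, ha.tvL.mem⟩ * ⟨x, hKL hx⟩ * ⟨a, ha.tvL.mem⟩ * ⟨x, hKL hx⟩) = 1 := by
        have hAp : A * p0 ^ n * A = (p0 ^ n)⁻¹ := by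
          have : (A * p0 * A⁻¹) ^ n = A * p0 ^ n * A⁻¹ := conj_zpow
          rw [inv_eq_of_mul_eq_one_right hAA, hinv, inv_zpow] at this
          exact this.symm
        rw [map_mul, map_mul, map_mul, ← hn, ← hA, hAp, inv_mul_cancel]
      exact proj_eq_one.mp h1
  refine ⟨a, ha, le_antisymm ?_ ?_⟩
  · conv_lhs => rw [← hgen]
    exact (closure_le _).mpr fun x hx => mem_oddCl (hKP x hx.1) hx.2
  · rw [compOf, oddCl, closure_le]
    rintro x ⟨hxP, ho⟩
    obtain ⟨u, -, -, -, -, hmem, hordu⟩ := h.gen Z ha.tvL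
    have hz : zpowers p0 = zpowers (proj L u) :=
      Subgroup.eq_of_le_of_card_ge (zpowers_le.mpr ((hmem k0).mp (hKP k0 hk0)).2)
        (by rw [Nat.card_zpowers, Nat.card_zpowers, hord, hordu])
    obtain ⟨hxL, hxu⟩ := (hmem x).mp hxP
    rw [← hz, ← hmapK] at hxu
    obtain ⟨⟨k, hkL⟩, hk, hkx⟩ := hxu
    have hqQ : k⁻¹ * x ∈ Cfsg.pCoreOf 2 L :=
      (proj_eq_one (x := (⟨k, hkL⟩ : L)⁻¹ * ⟨x, hxL⟩)).mp
        (by rw [map_mul, map_inv, hkx, inv_mul_cancel])
    obtain ⟨i, hi⟩ := isPGroup_pCoreOf L ⟨_, hqQ⟩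
    refine odd_mem_of_mul ?_ hk (mul_inv_cancel_left k x).symm (congrArg Subtype.val hi) ho
    rw [show x = k * (k⁻¹ * x) from (mul_inv_cancel_left k x).symm]
    exact mul_mem (le_normalizer hk) (hQN hqQ)

end

end Cfsg.Agent.H85.ZN
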