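import Cfsg.Agent.H85.ZN.Side

/-!
Two components each of which centralises the fixed line of the other: the four-groups do not commute.
-/

set_option autoImplicit false
set_option linter.style.haveILetI false
set_option linter.unusedSectionVars false

namespace Cfsg.Agent.H85.ZN

open Subgroup Cfsg.Agent.Thompson

variable {G : Type*} [Group G] [Finite G]

/-- Two commuting sides, each fixing the line of the other. -/
structure Dbl (T K K' : Subgroup G) (k a c k' a' c' : G) : Prop where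
  s : Side T K k a c
  s' : Side T K' k' a' c'
  hnn : ∀ R : Subgroup G, R ≤ T → T ≤ normalizer (R : Set G) →
    k ∈ normalizer (R : Set G) → k' ∈ normalizer (R : Set G) → R = ⊥
  comm : ∀ x ∈ Cfsg.wOf K, ∀ y ∈ Cfsg.wOf K', Commute x y
  kc : Commute k c'
  kc' : Commute k' c
  edge : ∀ t : G, t * t = 1 → Commute t c → Commute t c' → t ∈ T
  hN : centralizer ({c'} : Set G) ≤ normalizer (Cfsg.wOf K : Set G)
  hN' : centralizer ({c} : Set G) ≤ normalizer (Cfsg.wOf K' : Set G)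
  swap : ∀ y : G, y * c * y⁻¹ = c' → ∃ l : G, Commute l c' ∧ l * y * c' * (l * y)⁻¹ = c
  swap' : ∀ y : G, y * c' * y⁻¹ = c → ∃ l : G, Commute l c ∧ l * y * c * (l * y)⁻¹ = c'

/-- Conjugate edges. -/
def Adj (c c' v w : G) : Prop :=
  ∃ x : G, (v = x * c' * x⁻¹ ∧ w = x * c * x⁻¹) ∨ (v = x * c * x⁻¹ ∧ w = x * c' * x⁻¹)

/-- Walks along conjugate edges. -/
def Walk (c c' : G) : ℕ → G → G → Prop
  | 0, v, w => v = w
  | n + 1, v, w => ∃ u, Walk c c' n v u ∧ Adj c c' u w

theorem Side.t_act_all {T K : Subgroup G} {k a c : G} (S : Side T K k a c) {t w : G} (ht : t ∈ T)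
    (hw : w ∈ Cfsg.wOf K) : t * w * t⁻¹ = w ∨ t * w * t⁻¹ = w * c := by
  have hc : t * c * t⁻¹ = c := by rw [(S.tc ht).eq, mul_inv_cancel_right]
  rcases S.cases w hw with e | e | e | e <;> subst e
  · left; simp
  · exact .inl hc
  · exact S.t_act ht
  · have e1 : t * (c * (k * c * k⁻¹)) * t⁻¹ = c * (t * (k * c * k⁻¹) * t⁻¹) := by
      calc t * (c * (k * c * k⁻¹)) * t⁻¹ = t * c * t⁻¹ * (t * (k * c * k⁻¹) * t⁻¹) := by group
        _ = _ := by rw [hc]
    rcases S.t_act ht with h | h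
    · exact .inl (by rw [e1, h])
    · exact .inr (by rw [e1, h]; group)

section

variable {c c' : G}

theorem adj_symm {v w : G} (h : Adj c c' v w) : Adj c c' w v := by
  obtain ⟨x, h | h⟩ := h
  exacts [⟨x, .inr h.symm⟩, ⟨x, .inl h.symm⟩]

theorem adj_comm {v w : G} : Adj c c' v w ↔ Adj c' c v w := by
  constructor <;> rintro ⟨x, h | h⟩ <;> first | exact ⟨x, .inr h⟩ | exact ⟨x, .inl h⟩

theorem adj_conj {v w : G} (g : G) (h : Adj c c' v w) :
    Adj c c' (g * v * g⁻¹) (g * w * g⁻¹) := by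
  obtain ⟨x, ⟨hv, hw⟩ | ⟨hv, hw⟩⟩ := h
  · exact ⟨g * x, .inl ⟨by rw [hv]; group, by rw [hw]; group⟩⟩
  · exact ⟨g * x, .inr ⟨by rw [hv]; group, by rw [hw]; group⟩⟩

theorem walk_cons : ∀ {n : ℕ} {v u w : G}, Adj c c' v u → Walk c c' n u w →
    Walk c c' (n + 1) v w
  | 0, v, _, _, h, e => by cases e; exact ⟨v, rfl, h⟩
  | _ + 1, _, _, _, h, ⟨p, hp, hpw⟩ => ⟨p, walk_cons h hp, hpw⟩

theorem walk_head : ∀ {n : ℕ} {v w : G}, Walk c c' (n + 1) v w →
    ∃ u, Adj c c' v u ∧ Walk c c' n u w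
  | 0, _, w, ⟨_, e, h⟩ => by cases e; exact ⟨w, h, rfl⟩
  | _ + 1, _, _, ⟨p, hp, hpw⟩ => by
    obtain ⟨u, hu, hup⟩ := walk_head hp
    exact ⟨u, hu, p, hup, hpw⟩

theorem walk_symm : ∀ {n : ℕ} {v w : G}, Walk c c' n v w → Walk c c' n w v
  | 0, _, _, e => Eq.symm e
  | _ + 1, _, _, ⟨_, hp, hpw⟩ => walk_cons (adj_symm hpw) (walk_symm hp)

theorem walk_trans : ∀ {m n : ℕ} {v u w : G}, Walk c c' n v u → Walk c c' m u w →
    Walk c c' (n + m) v w
  | 0, _, _, _, _, h, e => by cases e; exact h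
  | _ + 1, _, _, _, _, h, ⟨p, hp, hpw⟩ => ⟨p, walk_trans h hp, hpw⟩

theorem walk_conj (g : G) : ∀ {n : ℕ} {v w : G}, Walk c c' n v w →
    Walk c c' n (g * v * g⁻¹) (g * w * g⁻¹)
  | 0, _, _, e => by cases e; rfl
  | _ + 1, _, _, ⟨_, hp, hpw⟩ => ⟨_, walk_conj g hp, adj_conj g hpw⟩

end

variable {T K K' : Subgroup G} {k a c k' a' c' : G} (D : Dbl T K K' k a c k' a' c')
include D

theorem Dbl.symm : Dbl T K' K k' a' c' k a c :=
  ⟨D.s', D.s, fun R h1 h2 h3 h4 => D.hnn R h1 h2 h4 h3, fun x hx y hy => (D.comm y hy x hx).symm,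
    D.kc', D.kc, fun t h h1 h2 => D.edge t h h2 h1, D.hN', D.hN, D.swap', D.swap⟩

/-- The neighbours of `c'`. -/
theorem Dbl.around {w : G} (h : Adj c c' c' w) : ∃ x, Commute x c' ∧ w = x * c * x⁻¹ := by
  obtain ⟨x, ⟨hv, hw⟩ | ⟨hv, hw⟩⟩ := h
  · exact ⟨x, mul_inv_eq_iff_eq_mul.mp hv.symm, hw⟩
  · obtain ⟨l, hl, hlx⟩ := D.swap x hv.symm
    refine ⟨l⁻¹, hl.inv_left, ?_⟩
    rw [hw, ← hlx]; group

theorem Dbl.around_mem {w : G} (h : Adj c c' c' w) : w ∈ Cfsg.wOf K := by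
  obtain ⟨x, hx, rfl⟩ := D.around h
  exact (mem_normalizer_iff.mp (D.hN (mem_centralizer_singleton_iff.mpr hx.eq)) c).mp D.s.cW

/-- Involutions centralising an edge act on the neighbours of its ends. -/
theorem Dbl.act {t v w w' : G} (ht : t * t = 1) (htv : Commute t v) (htw : Commute t w)
    (h : Adj c c' v w) (h' : Adj c c' v w') : t * w' * t = w' ∨ t * w' * t = w' * w := by
  suffices key : ∀ {T K K' : Subgroup G} {k a c k' a' c' : G}, Dbl T K K' k a c k' a' c' →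
      ∀ {t x w' : G}, t * t = 1 → Commute t (x * c' * x⁻¹) → Commute t (x * c * x⁻¹) →
      Adj c c' (x * c' * x⁻¹) w' → t * w' * t = w' ∨ t * w' * t = w' * (x * c * x⁻¹) by
    obtain ⟨x, ⟨hv, hw⟩ | ⟨hv, hw⟩⟩ := h <;> subst hv hw
    · exact key D ht htv htw h'
    · exact key D.symm ht htv htw (adj_comm.mp h')
  intro T K K' k a c k' a' c' D t x w' ht htv htw h'
  set t0 := x⁻¹ * t * x with ht0
  have hti : t⁻¹ = t := inv_eq_of_mul_eq_one_right ht
  have ht0T : t0 ∈ T := by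
    refine D.edge t0 ?_ ?_ ?_
    · rw [ht0, show x⁻¹ * t * x * (x⁻¹ * t * x) = x⁻¹ * (t * t) * x by group, ht, mul_one,
        inv_mul_cancel]
    · have := htw.map (MulAut.conj x⁻¹).toMonoidHom
      simpa [mul_assoc, ht0] using this
    · have := htv.map (MulAut.conj x⁻¹).toMonoidHom
      simpa [mul_assoc, ht0] using this
  have hadj : Adj c c' c' (x⁻¹ * w' * x) := by
    have := adj_conj x⁻¹ h'
    simpa [mul_assoc] using this
  have e : t * w' * t = x * (t0 * (x⁻¹ * w' * x) * t0⁻¹) * x⁻¹ := by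
    conv_lhs => arg 2; rw [← hti]
    rw [ht0]; group
  rcases D.s.t_act_all ht0T (D.around_mem hadj) with h | h
  · exact .inl (by rw [e, h]; group)
  · exact .inr (by rw [e, h]; group)

theorem Dbl.adj_commute {v w : G} (h : Adj c c' v w) : Commute v w := by
  have h0 : Commute c' c := (D.s'.tc (D.s.WT D.s.cW)).symm
  obtain ⟨x, ⟨hv, hw⟩ | ⟨hv, hw⟩⟩ := h <;> subst hv hw
  · simpa using h0.map (MulAut.conj x).toMonoidHom
  · simpa using h0.symm.map (MulAut.conj x).toMonoidHom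

theorem Dbl.two_commute {v u w : G} (h : Adj c c' v u) (h' : Adj c c' v w) : Commute u w := by
  suffices key : ∀ {T K K' : Subgroup G} {k a c k' a' c' : G}, Dbl T K K' k a c k' a' c' →
      ∀ {x u w : G}, Adj c c' (x * c' * x⁻¹) u → Adj c c' (x * c' * x⁻¹) w → Commute u w by
    obtain ⟨x, ⟨hv, -⟩ | ⟨hv, -⟩⟩ := id h <;> subst hv
    · exact key D h h'
    · exact key D.symm (adj_comm.mp h) (adj_comm.mp h')
  intro T K K' k a c k' a' c' D x u w h h'
  have h1 : Adj c c' c' (x⁻¹ * u * x) := by simpa [mul_assoc] using adj_conj x⁻¹ h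
  have h2 : Adj c c' c' (x⁻¹ * w * x) := by simpa [mul_assoc] using adj_conj x⁻¹ h'
  have := (D.s.Wcomm _ (D.around_mem h1) _ (D.around_mem h2)).map (MulAut.conj x).toMonoidHom
  simpa [mul_assoc] using this

theorem Dbl.three_commute {v u p w : G} (h1 : Adj c c' v u) (h2 : Adj c c' u p)
    (h3 : Adj c c' p w) : Commute v w := by
  suffices key : ∀ {x v w : G}, Adj c c' (x * c' * x⁻¹) v → Adj c c' (x * c * x⁻¹) w →
      Commute v w by
    obtain ⟨x, ⟨hu, hp⟩ | ⟨hu, hp⟩⟩ := h2 <;> subst hu hp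
    · exact key (adj_symm h1) h3
    · exact (key h3 (adj_symm h1)).symm
  intro x v w h1 h3
  have h1' : Adj c c' c' (x⁻¹ * v * x) := by simpa [mul_assoc] using adj_conj x⁻¹ h1
  have h3' : Adj c' c c (x⁻¹ * w * x) := by
    simpa [mul_assoc] using adj_comm.mp (adj_conj x⁻¹ h3)
  have := (D.comm _ (D.around_mem h1') _ (D.symm.around_mem h3')).map (MulAut.conj x).toMonoidHom
  simpa [mul_assoc] using this

theorem Dbl.c'_sq : c' * c' = 1 := om_sq D.s'.cZ

/-- Some connected conjugates do not commute. -/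
theorem Dbl.exists_walk : ∃ n v w, Walk c c' n v w ∧ (∃ x, v = x * c' * x⁻¹) ∧ ¬ Commute v w := by
  by_contra hno
  push Not at hno
  set X : Subgroup G := zpowers k ⊔ zpowers k' ⊔ T with hX
  have hadj : Adj c c' c' c := ⟨1, .inl ⟨by simp, by simp⟩⟩
  have hreach : ∀ x ∈ X, ∃ n, Walk c c' n c' (x * c' * x⁻¹) := by
    have hfix : ∀ y : G, Commute y c' → ∃ n, Walk c c' n c' (y * c' * y⁻¹) := fun y hy =>
      ⟨0, by rw [hy.eq, mul_inv_cancel_right]; rfl⟩
    have hmul : ∀ x y : G, (∃ n, Walk c c' n c' (x * c' * x⁻¹)) →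
        (∃ n, Walk c c' n c' (y * c' * y⁻¹)) → ∃ n, Walk c c' n c' (x * y * c' * (x * y)⁻¹) := by
      rintro x y ⟨n, hn⟩ ⟨m, hm⟩
      refine ⟨n + m, walk_trans hn ?_⟩
      have := walk_conj x hm
      rwa [show x * (y * c' * y⁻¹) * x⁻¹ = x * y * c' * (x * y)⁻¹ by group] at this
    have hinv : ∀ x : G, (∃ n, Walk c c' n c' (x * c' * x⁻¹)) →
        ∃ n, Walk c c' n c' (x⁻¹ * c' * x⁻¹⁻¹) := by
      rintro x ⟨n, hn⟩
      refine ⟨n, ?_⟩
      have := walk_symm (walk_conj x⁻¹ hn)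
      rwa [show x⁻¹ * (x * c' * x⁻¹) * x⁻¹⁻¹ = c' by group] at this
    have hgen : ∀ y : G, y = k ∨ y = k' ∨ y ∈ T → ∃ n, Walk c c' n c' (y * c' * y⁻¹) := by
      rintro y (rfl | rfl | hy)
      · exact hfix _ D.kc
      · refine ⟨2, c, ⟨c', rfl, hadj⟩, y, .inr ⟨?_, rfl⟩⟩
        rw [D.kc'.eq, mul_inv_cancel_right]
      · exact hfix _ (D.s'.tc hy)
    intro x hx
    rw [hX, sup_eq_closure, zpowers_eq_closure, zpowers_eq_closure, ← Subgroup.closure_union] at hx
    have hsub : closure ((closure ({k} ∪ {k'} : Set G) : Set G) ∪ (T : Set G)) ≤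
        closure (({k} ∪ {k'} : Set G) ∪ (T : Set G)) := by
      rw [closure_le]
      exact Set.union_subset (SetLike.coe_subset_coe.mpr (closure_mono Set.subset_union_left))
        (Set.subset_union_right.trans subset_closure)
    replace hx := hsub hx
    induction hx using closure_induction with
    | mem y hy =>
      rcases hy with (hy | hy) | hy
      · exact hgen y (.inl hy)
      · exact hgen y (.inr (.inl hy))
      · exact hgen y (.inr (.inr hy))
    | one => exact hfix 1 (Commute.one_left c')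
    | mul x y _ _ p q => exact hmul x y p q
    | inv x _ p => exact hinv x p
  have hcc : ∀ x ∈ X, Commute (x * c' * x⁻¹) c' ∧ Commute (x * c' * x⁻¹) c := by
    intro x hx
    obtain ⟨n, hn⟩ := hreach x hx
    refine ⟨hno n _ _ (walk_symm hn) ⟨x, rfl⟩, ?_⟩
    exact hno (n + 1) _ _ ⟨c', walk_symm hn, hadj⟩ ⟨x, rfl⟩
  set s : Set G := {y | ∃ x ∈ X, y = x * c' * x⁻¹} with hs
  have hsT : s ⊆ T := by
    rintro _ ⟨x, hx, rfl⟩
    refine D.edge _ ?_ (hcc x hx).2 (hcc x hx).1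
    rw [show x * c' * x⁻¹ * (x * c' * x⁻¹) = x * (c' * c') * x⁻¹ by group, D.c'_sq, mul_one,
      mul_inv_cancel]
  have hN : X ≤ normalizer (closure s : Set G) := fun g hg =>
    H61.mem_normalizer_of_conj_mem fun y hy => by
      induction hy using closure_induction with
      | mem y hy =>
        obtain ⟨x, hx, rfl⟩ := hy
        exact subset_closure ⟨g * x, X.mul_mem hg hx, by group⟩
      | one => simp [(closure s).one_mem]
      | mul x y _ _ p q => simpa [mul_assoc] using (closure s).mul_mem p q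
      | inv x _ p => simpa [mul_assoc] using (closure s).inv_mem p
  have hbot := D.hnn (closure s) ((closure_le _).mpr hsT) (le_sup_right.trans hN)
    (hN (mem_sup_left (mem_sup_left (mem_zpowers k))))
    (hN (mem_sup_left (mem_sup_right (mem_zpowers k'))))
  exact D.s'.c1 (mem_bot.mp (hbot.le (subset_closure ⟨1, X.one_mem, by simp⟩)))

theorem Dbl.conj_end_sq {n : ℕ} {v w : G} (h : Walk c c' n v w) (hv : ∃ x, v = x * c' * x⁻¹) :
    v * v = 1 ∧ w * w = 1 := by
  have hcsq : c * c = 1 := om_sq D.s.cZ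
  have hconj : ∀ x e : G, e * e = 1 → x * e * x⁻¹ * (x * e * x⁻¹) = 1 := fun x e he => by
    rw [show x * e * x⁻¹ * (x * e * x⁻¹) = x * (e * e) * x⁻¹ by group, he, mul_one, mul_inv_cancel]
  obtain ⟨x, rfl⟩ := hv
  refine ⟨hconj _ _ D.c'_sq, ?_⟩
  cases n with
  | zero => cases h; exact hconj _ _ D.c'_sq
  | succ n =>
    obtain ⟨u, -, y, ⟨-, hw⟩ | ⟨-, hw⟩⟩ := h <;> rw [hw]
    · exact hconj _ _ hcsq
    · exact hconj _ _ D.c'_sq

/-- Two non-commuting conjugates at distance four. -/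
theorem Dbl.exists_four : ∃ v r p q w, Adj c c' v r ∧ Adj c c' r p ∧ Adj c c' p q ∧ Adj c c' q w ∧
    ¬ Commute v w := by
  classical
  have hex : ∃ n, ∃ v w, Walk c c' n v w ∧ (∃ x, v = x * c' * x⁻¹ ∨ v = x * c * x⁻¹) ∧
      v * v = 1 ∧ w * w = 1 ∧ ¬ Commute v w := by
    obtain ⟨n, v, w, h, ⟨x, hx⟩, hne⟩ := D.exists_walk
    exact ⟨n, v, w, h, ⟨x, .inl hx⟩, (D.conj_end_sq h ⟨x, hx⟩).1, (D.conj_end_sq h ⟨x, hx⟩).2, hne⟩
  obtain ⟨v, w, hwalk, -, hv2, hw2, hne⟩ := Nat.find_spec hex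
  have hmin : ∀ {m : ℕ} {p q : G}, m < Nat.find hex → Walk c c' m p q →
      (∃ x, p = x * c' * x⁻¹ ∨ p = x * c * x⁻¹) → p * p = 1 → q * q = 1 → Commute p q := by
    intro m p q hm hpq hp hp2 hq2
    by_contra hc
    exact Nat.find_min hex hm ⟨p, q, hpq, hp, hp2, hq2, hc⟩
  rcases hn : Nat.find hex with _ | _ | n
  · rw [hn] at hwalk; cases hwalk; exact absurd (Commute.refl v) hne
  · rw [hn] at hwalk
    obtain ⟨u, e, h⟩ := hwalk
    cases e
    exact absurd (D.adj_commute h) hne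
  rw [hn] at hwalk
  have hkind : ∀ {p q : G}, Adj c c' p q → (∃ x, p = x * c' * x⁻¹ ∨ p = x * c * x⁻¹) ∧ p * p = 1 := by
    rintro p q ⟨x, ⟨rfl, -⟩ | ⟨rfl, -⟩⟩
    · refine ⟨⟨x, .inl rfl⟩, ?_⟩
      rw [show x * c' * x⁻¹ * (x * c' * x⁻¹) = x * (c' * c') * x⁻¹ by group, D.c'_sq, mul_one,
        mul_inv_cancel]
    · refine ⟨⟨x, .inr rfl⟩, ?_⟩
      rw [show x * c * x⁻¹ * (x * c * x⁻¹) = x * (c * c) * x⁻¹ by group, om_sq D.s.cZ, mul_one,
        mul_inv_cancel]
  obtain ⟨r, hvr, htail⟩ := walk_head hwalk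
  obtain ⟨s, hrs, htail2⟩ := walk_head htail
  obtain ⟨q, ⟨p, hfront2, hpq⟩, hqw⟩ := hwalk
  have hvk := hkind hvr
  have hwk := hkind (adj_symm hqw)
  have hp2 := (hkind hpq).2
  have hq2 := (hkind hqw).2
  have hr2 := (hkind hrs).2
  have hs2 := (hkind (adj_symm hrs)).2
  -- `v` and the edge `(q, p)`
  have hvq' : Walk c c' (n + 1) v q := ⟨p, hfront2, hpq⟩
  have hvq : Commute v q := hmin (by omega) hvq' hvk.1 hv2 hq2
  have hvp : Commute v p := hmin (by omega) hfront2 hvk.1 hv2 hp2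
  have hwr : Commute w r := hmin (by omega) (walk_symm htail) hwk.1 hw2 hr2
  have hws : Commute w s := hmin (by omega) (walk_symm htail2) hwk.1 hw2 hs2
  have hwp : Commute w p := (D.two_commute (adj_symm hpq) hqw).symm
  have hvs : Commute v s := D.two_commute (adj_symm hvr) hrs
  have hvinv : v⁻¹ = v := inv_eq_of_mul_eq_one_right hv2
  have hwinv : w⁻¹ = w := inv_eq_of_mul_eq_one_right hw2
  have e1 : v * w * v = w * p := by
    refine (D.act hv2 hvq hvp (adj_symm hpq) hqw).resolve_left fun h => hne ?_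
    refine mul_inv_eq_iff_eq_mul.mp ?_
    rw [hvinv]; exact h
  have e2 : w * v * w = v * s := by
    refine (D.act hw2 hwr hws hrs (adj_symm hvr)).resolve_left fun h => hne ?_
    refine (mul_inv_eq_iff_eq_mul.mp (?_ : w * v * w⁻¹ = v)).symm
    rw [hwinv]; exact h
  have hps : p = s := by
    calc p = w * (w * p) := by rw [← mul_assoc, hw2, one_mul]
      _ = w * v * w * v := by rw [← e1]; group
      _ = v * s * v := by rw [e2]
      _ = s := by rw [hvs.eq, mul_assoc, hv2, mul_one]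
  exact ⟨v, r, s, q, w, hvr, hrs, hps ▸ hpq, hqw, hne⟩

/-- One of the four-groups does not commute with its conjugates. -/
theorem Dbl.exists_noncommuting : (¬ Commute (k' * c' * k'⁻¹) (k * (k' * c' * k'⁻¹) * k⁻¹)) ∨
    ¬ Commute (k * c * k⁻¹) (k' * (k * c * k⁻¹) * k'⁻¹) := by
  suffices key : ∀ {T K K' : Subgroup G} {k a c k' a' c' : G}, Dbl T K K' k a c k' a' c' →
      ∀ {v r q w : G}, Adj c c' v r → Adj c c' r c' → Adj c c' c' q → Adj c c' q w →
      Commute (k' * c' * k'⁻¹) (k * (k' * c' * k'⁻¹) * k⁻¹) → Commute v w by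
    by_contra hno
    push Not at hno
    obtain ⟨hno1, hno2⟩ := hno
    obtain ⟨v, r, p, q, w, h1, h2, h3, h4, hne⟩ := D.exists_four
    obtain ⟨x, ⟨hx, -⟩ | ⟨hx, -⟩⟩ := id h3
    · refine hne ?_
      have e : x⁻¹ * p * x⁻¹⁻¹ = c' := by rw [hx]; group
      have h2' := adj_conj x⁻¹ h2
      have h3' := adj_conj x⁻¹ h3
      rw [e] at h2' h3'
      have := key D (adj_conj x⁻¹ h1) h2' h3' (adj_conj x⁻¹ h4) hno1
      simpa [mul_assoc] using this.map (MulAut.conj x).toMonoidHom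
    · refine hne ?_
      have e : x⁻¹ * p * x⁻¹⁻¹ = c := by rw [hx]; group
      have h2' := adj_conj x⁻¹ h2
      have h3' := adj_conj x⁻¹ h3
      rw [e] at h2' h3'
      have := key D.symm (adj_comm.mp (adj_conj x⁻¹ h1)) (adj_comm.mp h2') (adj_comm.mp h3')
        (adj_comm.mp (adj_conj x⁻¹ h4)) hno2
      simpa [mul_assoc] using this.map (MulAut.conj x).toMonoidHom
  intro T K K' k a c k' a' c' D v r q w h1 h2 h3 h4 hcom
  have S := D.s
  have S' := D.s'
  -- the neighbours of `c'` come from powers of `k`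
  have hnb : ∀ {r : G}, Adj c c' c' r →
      r = c ∨ r = k * c * k⁻¹ ∨ r = k⁻¹ * c * k⁻¹⁻¹ := by
    intro r hr
    have hm := D.around_mem hr
    obtain ⟨x, -, hx⟩ := D.around hr
    have hr1 : r ≠ 1 := fun e => S.c1 (conj_eq_one_iff.mp (hx ▸ e))
    have hm2 : k⁻¹ * c * k⁻¹⁻¹ ∈ Cfsg.wOf K :=
      (mem_normalizer_iff.mp ((normalizer _).inv_mem S.kW) c).mp S.cW
    rcases S.cases r hm with e | e | e | e
    · exact absurd e hr1
    · exact .inl e
    · exact .inr (.inl e)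
    · refine .inr (.inr ?_)
      rcases S.cases _ hm2 with f | f | f | f
      · exact absurd (conj_eq_one_iff.mp f) S.c1
      · refine absurd (S.wfix c S.cW ?_) S.c1
        have h0 : Commute k⁻¹ c := mul_inv_eq_iff_eq_mul.mp f
        simpa using h0.inv_left
      · refine absurd (S.wfix c S.cW (mul_inv_eq_iff_eq_mul.mp ?_)) S.c1
        calc k * c * k⁻¹ = k⁻¹ * c * k⁻¹⁻¹ := f.symm
          _ = k * k * c * (k * k)⁻¹ := by rw [← S.k2]
          _ = k * (k * c * k⁻¹) * k⁻¹ := by group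
          _ = k * (k⁻¹ * c * k⁻¹⁻¹) * k⁻¹ := by rw [f]
          _ = c := by group
      · rw [e, f]
  have hpow : ∀ {r : G}, Adj c c' c' r → ∃ κ, (κ = 1 ∨ κ = k ∨ κ = k⁻¹) ∧ r = κ * c * κ⁻¹ := by
    intro r hr
    rcases hnb hr with e | e | e
    · exact ⟨1, .inl rfl, by simpa using e⟩
    · exact ⟨k, .inr (.inl rfl), e⟩
    · exact ⟨k⁻¹, .inr (.inr rfl), e⟩
  obtain ⟨κ, hκ, hr⟩ := hpow (adj_symm h2)
  obtain ⟨μ, hμ, hq⟩ := hpow h3
  have hmem : ∀ {κ v : G}, Adj c c' (κ * c * κ⁻¹) v → κ⁻¹ * v * κ ∈ Cfsg.wOf K' := fun {κ v} h =>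
    D.symm.around_mem (adj_comm.mp (by simpa [mul_assoc] using adj_conj κ⁻¹ h))
  have hv := hmem (hr ▸ adj_symm h1)
  have hw := hmem (hq ▸ h4)
  -- conjugates of `u` by powers of `k` commute
  set u := k' * c' * k'⁻¹ with hu
  have hk3 := S.k3
  have hconj : ∀ {κ μ : G}, (κ = 1 ∨ κ = k ∨ κ = k⁻¹) → (μ = 1 ∨ μ = k ∨ μ = k⁻¹) →
      Commute (κ * u * κ⁻¹) (μ * u * μ⁻¹) := by
    have h1u : Commute u (k⁻¹ * u * k⁻¹⁻¹) := by
      simpa [mul_assoc] using (hcom.map (MulAut.conj k⁻¹).toMonoidHom).symm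
    have h2u : Commute (k * u * k⁻¹) (k⁻¹ * u * k⁻¹⁻¹) := by
      have h5 := hcom.map (MulAut.conj k).toMonoidHom
      simp only [MulEquiv.coe_toMonoidHom, MulAut.conj_apply] at h5
      rwa [show k * (k * u * k⁻¹) * k⁻¹ = k * k * u * (k * k)⁻¹ by group, ← S.k2] at h5
    rintro κ μ (rfl | rfl | rfl) (rfl | rfl | rfl) <;>
      (try simp only [one_mul, inv_one, mul_one]) <;>
      first
      | exact Commute.refl _ | exact hcom | exact hcom.symm | exact h1u | exact h1u.symm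
      | exact h2u | exact h2u.symm
  have hcfix : ∀ {κ : G}, (κ = 1 ∨ κ = k ∨ κ = k⁻¹) → κ * c' * κ⁻¹ = c' := by
    rintro κ (rfl | rfl | rfl)
    · simp
    · rw [D.kc.eq, mul_inv_cancel_right]
    · rw [D.kc.inv_left.eq, mul_inv_cancel_right]
  have hc'u : ∀ {κ : G}, (κ = 1 ∨ κ = k ∨ κ = k⁻¹) → Commute c' (κ * u * κ⁻¹) := by
    intro κ hκ
    have := (S'.Wcomm c' S'.cW u S'.oW).map (MulAut.conj κ).toMonoidHom
    simp only [MulEquiv.coe_toMonoidHom, MulAut.conj_apply] at this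
    rwa [hcfix hκ] at this
  have hin : ∀ {κ x : G}, (κ = 1 ∨ κ = k ∨ κ = k⁻¹) → κ⁻¹ * x * κ ∈ Cfsg.wOf K' →
      x = 1 ∨ x = c' ∨ x = κ * u * κ⁻¹ ∨ x = c' * (κ * u * κ⁻¹) := by
    intro κ x hκ hx
    have e : x = κ * (κ⁻¹ * x * κ) * κ⁻¹ := by group
    rcases S'.cases _ hx with h | h | h | h <;> rw [h] at e
    · exact .inl (by simpa using e)
    · exact .inr (.inl (e.trans (hcfix hκ)))
    · exact .inr (.inr (.inl e))
    · refine .inr (.inr (.inr (e.trans ?_)))
      calc κ * (c' * u) * κ⁻¹ = κ * c' * κ⁻¹ * (κ * u * κ⁻¹) := by group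
        _ = _ := by rw [hcfix hκ]
  rcases hin hκ hv with e | e | e | e <;> rcases hin hμ hw with f | f | f | f <;> rw [e, f] <;>
    first
    | exact Commute.one_left _ | exact Commute.one_right _ | exact Commute.refl _
    | exact hc'u hμ | exact (hc'u hκ).symm | exact hconj hκ hμ
    | exact (Commute.refl c').mul_right (hc'u hμ)
    | exact (hconj hκ hμ).mul_left (hc'u hμ) |>.symm.symm
    | exact (hc'u hμ).mul_left (hconj hκ hμ)
    | exact ((hc'u hκ).symm).mul_right (hconj hκ hμ)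
    | exact (Commute.refl c').mul_left ((hc'u hκ).symm)
    | exact ((Commute.refl c').mul_right (hc'u hμ)).mul_left
        ((hc'u hκ).symm.mul_right (hconj hκ hμ))

set_option maxHeartbeats 1000000 in
/-- The configuration does not occur. -/
theorem Dbl.false : False := by
  suffices key : ∀ {T K K' : Subgroup G} {k a c k' a' c' : G}, Dbl T K K' k a c k' a' c' →
      ¬ Commute (k' * c' * k'⁻¹) (k * (k' * c' * k'⁻¹) * k⁻¹) → False by
    rcases D.exists_noncommuting with h | h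
    exacts [key D h, key D.symm h]
  intro T K K' k a c k' a' c' D hne
  set Q := qOf T K with hQ
  set Q' := qOf T K' with hQ'
  set R := closure {e : G | ∃ d ∈ Q ⊓ Q', e = d * d} with hR
  -- squares are invariant under a generator moving the conjugates
  have hinv : ∀ {T K K' : Subgroup G} {k a c k' a' c' : G}, Dbl T K K' k a c k' a' c' →
      ¬ Commute (k' * c' * k'⁻¹) (k * (k' * c' * k'⁻¹) * k⁻¹) →
      k ∈ normalizer ((closure {e : G | ∃ d ∈ qOf T K ⊓ qOf T K', e = d * d}) : Set G) := by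
    intro T K K' k a c k' a' c' D hne
    have S := D.s
    have S' := D.s'
    set u := k' * c' * k'⁻¹ with hu
    have huD : u ∈ qOf T K ⊓ qOf T K' :=
      ⟨⟨S'.WT S'.oW, mem_centralizer_iff.mpr fun w hw => D.comm w hw u S'.oW⟩, S'.W_le_q S'.oW⟩
    set R := closure {e : G | ∃ d ∈ qOf T K ⊓ qOf T K', e = d * d} with hR
    have hle : R ≤ cj k R := by
      rw [hR, closure_le]
      rintro _ ⟨d, hd, rfl⟩
      obtain ⟨e, he, hede, heu⟩ : ∃ e ∈ qOf T K ⊓ qOf T K', e * e = d * d ∧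
          Commute e (k * u * k⁻¹) := by
        by_cases hdu : Commute d (k * u * k⁻¹)
        · exact ⟨d, hd, rfl, hdu⟩
        have hmove : ∀ x ∈ qOf T K, ¬ Commute x (k * u * k⁻¹) →
            x * (k * u * k⁻¹) * x⁻¹ = k * u * k⁻¹ * c' := by
          intro x hx hne'
          have hx' := (S.conj_q hx).2
          have e : x * (k * u * k⁻¹) * x⁻¹ =
              k * (k⁻¹ * x * k * u * (k⁻¹ * x * k)⁻¹) * k⁻¹ := by group
          rcases S'.t_act hx'.1 with h | h <;> rw [h] at e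
          · exact absurd (mul_inv_eq_iff_eq_mul.mp e) hne'
          · rw [e]
            calc k * (u * c') * k⁻¹ = k * u * (c' * k⁻¹) := by group
              _ = k * u * (k⁻¹ * c') := by rw [D.kc.inv_left.symm.eq]
              _ = _ := by group
        refine ⟨d * u, (qOf T K ⊓ qOf T K').mul_mem hd huD, ?_, mul_inv_eq_iff_eq_mul.mp ?_⟩
        · have hdu' : Commute d u := S'.q_act hd.2 u S'.oW
          calc d * u * (d * u) = d * (u * d) * u := by group
            _ = d * (d * u) * u := by rw [hdu'.symm.eq]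
            _ = d * d * (u * u) := by group
            _ = d * d := by rw [S'.Wsq u S'.oW, mul_one]
        · have h1 := hmove d hd.1 hdu
          have h2 := hmove u huD.1 hne
          have hdc : d * c' * d⁻¹ = c' := by rw [(S'.tc hd.1.1).eq, mul_inv_cancel_right]
          calc d * u * (k * u * k⁻¹) * (d * u)⁻¹ = d * (u * (k * u * k⁻¹) * u⁻¹) * d⁻¹ := by group
            _ = d * (k * u * k⁻¹) * d⁻¹ * (d * c' * d⁻¹) := by rw [h2]; group
            _ = _ := by rw [h1, hdc, mul_assoc, om_sq S'.cZ, mul_one]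
      rw [SetLike.mem_coe, mem_cj]
      refine subset_closure ⟨k⁻¹ * e * k, ⟨(S.conj_q he.1).2, S'.mem_q (S.conj_q he.1).2.1 ?_⟩, ?_⟩
      · simpa [mul_assoc, hu] using heu.map (MulAut.conj k⁻¹).toMonoidHom
      · rw [← hede]; group
    exact Thompson.mem_normalizer_of_map_conj
      (Subgroup.eq_of_le_of_card_ge hle (card_cj k R).le).symm
  have S := D.s
  have S' := D.s'
  have hTD : T ≤ normalizer ((Q ⊓ Q' : Subgroup G) : Set G) := fun t ht =>
    H61.mem_normalizer_of_conj_mem fun x hx =>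
      ⟨(mem_normalizer_iff.mp (S.q_normal ht) x).mp hx.1,
        (mem_normalizer_iff.mp (S'.q_normal ht) x).mp hx.2⟩
  have hRN : normalizer ((Q ⊓ Q' : Subgroup G) : Set G) ≤ normalizer (R : Set G) := fun g hg =>
    H61.mem_normalizer_of_conj_mem fun y hy => by
      induction hy using closure_induction with
      | mem y hy =>
        obtain ⟨d, hd, rfl⟩ := hy
        exact subset_closure ⟨g * d * g⁻¹, (mem_normalizer_iff.mp hg d).mp hd, by group⟩
      | one => simp [R.one_mem]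
      | mul x y _ _ p q => simpa [mul_assoc] using R.mul_mem p q
      | inv x _ p => simpa [mul_assoc] using R.inv_mem p
  set u := k' * c' * k'⁻¹ with hu
  set u1 := k * u * k⁻¹ with hu1
  have huQ : u ∈ Q := ⟨S'.WT S'.oW, mem_centralizer_iff.mpr fun w hw => D.comm w hw u S'.oW⟩
  have hu1Q : u1 ∈ Q := (S.conj_q huQ).1
  have husq : u * u = 1 := S'.Wsq u S'.oW
  have hu1sq : u1 * u1 = 1 := by
    rw [hu1, show k * u * k⁻¹ * (k * u * k⁻¹) = k * (u * u) * k⁻¹ by group, husq, mul_one,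
      mul_inv_cancel]
  have hu1i : u1⁻¹ = u1 := inv_eq_of_mul_eq_one_right hu1sq
  have hk' : k' ∈ normalizer (R : Set G) := by
    by_cases hne' : Commute (k * c * k⁻¹) (k' * (k * c * k⁻¹) * k'⁻¹)
    swap
    · have := hinv D.symm hne'
      rwa [inf_comm] at this
    set o := k * c * k⁻¹ with ho
    set o' := k' * o * k'⁻¹ with ho'
    have hoQ' : o ∈ Q' := ⟨S.WT S.oW, mem_centralizer_iff.mpr fun w hw => (D.comm o S.oW w hw).symm⟩
    have ho'Q' : o' ∈ Q' := (S'.conj_q hoQ').1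
    have ho'Q : o' ∈ Q := S.mem_q ho'Q'.1 hne'.symm
    -- the kernel at the conjugate of `o`
    set E1 := cj k' (Q ⊓ Q') with hE1
    have hmemE : ∀ x, x ∈ E1 ↔ x ∈ Q' ∧ Commute x o' := by
      intro x
      rw [hE1, mem_cj]
      constructor
      · rintro ⟨h1, h2⟩
        refine ⟨?_, ?_⟩
        · have := (S'.conj_q h2).1
          rwa [show k' * (k'⁻¹ * x * k') * k'⁻¹ = x by group] at this
        · simpa [mul_assoc, ho'] using (S.q_act h1 o S.oW).map (MulAut.conj k').toMonoidHom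
      · rintro ⟨h1, h2⟩
        have h3 := (S'.conj_q h1).2
        have h6 : Commute (k'⁻¹ * x * k') o := by
          simpa [mul_assoc, ho'] using h2.map (MulAut.conj k'⁻¹).toMonoidHom
        exact ⟨S.mem_q h3.1 h6, h3⟩
    have hu1N : u1 ∈ normalizer (E1 : Set G) := H61.mem_normalizer_of_conj_mem fun x hx => by
      obtain ⟨hxQ, hxo⟩ := (hmemE x).mp hx
      refine (hmemE _).mpr ⟨(mem_normalizer_iff.mp (S'.q_normal hu1Q.1) x).mp hxQ, ?_⟩
      -- `u1` moves `o'` by a central element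
      have h1 : u1 * o' * u1⁻¹ = o' ∨ u1 * o' * u1⁻¹ = o' * c' := by
        have e : o' * u1 * o'⁻¹ = k * (k⁻¹ * o' * k * u * (k⁻¹ * o' * k)⁻¹) * k⁻¹ := by
          rw [hu1]; group
        rcases S'.t_act (S.conj_q ho'Q).2.1 with h | h <;> rw [h] at e
        · left
          rw [← hu1] at e
          calc u1 * o' * u1⁻¹ = o' * u1 * o'⁻¹ * o' * u1⁻¹ := by rw [e]
            _ = o' := by group
        · right
          have e' : o' * u1 * o'⁻¹ = u1 * c' := by
            rw [e, hu1]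
            calc k * (u * c') * k⁻¹ = k * u * (c' * k⁻¹) := by group
              _ = k * u * (k⁻¹ * c') := by rw [D.kc.inv_left.symm.eq]
              _ = _ := by group
          have h5 : u1⁻¹ * o' * u1 = c' * o' := by
            calc u1⁻¹ * o' * u1 = u1⁻¹ * (o' * u1 * o'⁻¹) * o' := by group
              _ = c' * o' := by rw [e']; group
          rw [hu1i] at h5 ⊢
          rw [h5, (S'.tc ho'Q.1).symm.eq]
      have h2 := hxo.map (MulAut.conj u1).toMonoidHom
      simp only [MulEquiv.coe_toMonoidHom, MulAut.conj_apply] at h2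
      rcases h1 with h | h <;> rw [h] at h2
      · exact h2
      · have hc'x : Commute (u1 * x * u1⁻¹) c' :=
          S'.tc (T.mul_mem (T.mul_mem hu1Q.1 hxQ.1) (T.inv_mem hu1Q.1))
        have h3 := h2.mul_right hc'x
        rwa [mul_assoc o' c' c', om_sq S'.cZ, mul_one] at h3
    have hcjT : cj k' T ≤ normalizer (E1 : Set G) := fun y hy => by
      rw [hE1, normalizer_cj]
      exact cj_le_cj hTD hy
    have hQ'N : Q' ≤ normalizer (E1 : Set G) := fun q hq => hcjT (mem_cj.mpr (S'.conj_q hq).2.1)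
    have hu1nQ : u1 ∉ Q' := fun h => hne ((S'.q_act h u S'.oW).symm)
    have hTN : T ≤ normalizer (E1 : Set G) := by
      have hmove : ∀ x ∈ T, x ∉ Q' → x * u * x⁻¹ = u * c' := fun x hx hxQ =>
        (S'.t_act hx).resolve_left fun h => hxQ (S'.mem_q hx (mul_inv_eq_iff_eq_mul.mp h))
      intro t ht
      by_cases htQ : t ∈ Q'
      · exact hQ'N htQ
      have hmem : u1 * t ∈ Q' := by
        refine S'.mem_q (T.mul_mem hu1Q.1 ht) (mul_inv_eq_iff_eq_mul.mp ?_)
        have hcc : u1 * c' * u1⁻¹ = c' := by rw [(S'.tc hu1Q.1).eq, mul_inv_cancel_right]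
        calc u1 * t * u * (u1 * t)⁻¹ = u1 * (t * u * t⁻¹) * u1⁻¹ := by group
          _ = u1 * u * u1⁻¹ * (u1 * c' * u1⁻¹) := by rw [hmove t ht htQ]; group
          _ = u := by rw [hmove u1 hu1Q.1 hu1nQ, hcc, mul_assoc, om_sq S'.cZ, mul_one]
      rw [show t = u1⁻¹ * (u1 * t) by group]
      exact mul_mem (inv_mem hu1N) (hQ'N hmem)
    have hk'E : k' ∈ normalizer (E1 : Set G) := by
      have h1 := mul_mem (hTN S'.aT) (hcjT (conj_mem_cj (g := k') S'.aT))
      have e : a' * (k' * a' * k'⁻¹) = k' := by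
        calc a' * (k' * a' * k'⁻¹) = a' * k' * a' * k'⁻¹ := by group
          _ = k'⁻¹ * k'⁻¹ := by rw [S'.ak]
          _ = k' := by rw [← mul_inv_rev, ← S'.k2, inv_inv]
      rwa [e] at h1
    refine hRN ?_
    have hEN : k' ∈ cj k' (normalizer ((Q ⊓ Q' : Subgroup G) : Set G)) := by
      rw [← normalizer_cj]; exact hk'E
    rw [mem_cj] at hEN
    simpa using hEN
  have hRT : R ≤ T := (closure_le _).mpr fun _ ⟨d, hd, e⟩ => e ▸ T.mul_mem hd.1.1 hd.1.1
  have hbot : R = ⊥ := D.hnn R hRT (hTD.trans hRN) (hinv D hne) hk'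
  -- two conjugates moving `u` have a product of square one
  set u2 := k⁻¹ * u * k with hu2
  have hu2Q : u2 ∈ Q := (S.conj_q huQ).2
  have hu2sq : u2 * u2 = 1 := by
    rw [hu2, show k⁻¹ * u * k * (k⁻¹ * u * k) = k⁻¹ * (u * u) * k by group, husq, mul_one,
      inv_mul_cancel]
  have hne2 : ¬ Commute u2 u := fun h => by
    have := h.map (MulAut.conj k).toMonoidHom
    simp only [MulEquiv.coe_toMonoidHom, MulAut.conj_apply, hu2] at this
    exact hne (by simpa [mul_assoc, hu1] using this)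
  have hm1 : u1 * u * u1⁻¹ = u * c' :=
    (S'.t_act hu1Q.1).resolve_left fun h => hne ((mul_inv_eq_iff_eq_mul.mp h : Commute u1 u).symm)
  have hm2 : u2 * u * u2⁻¹ = u * c' :=
    (S'.t_act hu2Q.1).resolve_left fun h => hne2 (mul_inv_eq_iff_eq_mul.mp h)
  have hp : u1 * u2 ∈ Q ⊓ Q' := by
    refine ⟨Q.mul_mem hu1Q hu2Q, S'.mem_q (T.mul_mem hu1Q.1 hu2Q.1) (mul_inv_eq_iff_eq_mul.mp ?_)⟩
    have hcc : u1 * c' * u1⁻¹ = c' := by rw [(S'.tc hu1Q.1).eq, mul_inv_cancel_right]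
    calc u1 * u2 * u * (u1 * u2)⁻¹ = u1 * (u2 * u * u2⁻¹) * u1⁻¹ := by group
      _ = u1 * u * u1⁻¹ * (u1 * c' * u1⁻¹) := by rw [hm2]; group
      _ = u := by rw [hm1, hcc, mul_assoc, om_sq S'.cZ, mul_one]
  have h1 : u1 * u2 * (u1 * u2) = 1 := mem_bot.mp (hbot.le (subset_closure ⟨_, hp, rfl⟩))
  have hcom : Commute u1 u2 := by
    have := inv_eq_of_mul_eq_one_right h1
    rw [mul_inv_rev, hu1i, inv_eq_of_mul_eq_one_right hu2sq] at this
    exact this.symm
  have h2 := hcom.map (MulAut.conj k⁻¹).toMonoidHom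
  refine hne ?_
  simp only [MulEquiv.coe_toMonoidHom, MulAut.conj_apply, inv_inv] at h2
  rw [show k⁻¹ * u1 * k = u by rw [hu1]; group,
    show k⁻¹ * u2 * k = u1 by
      rw [hu2, hu1, show k⁻¹ * (k⁻¹ * u * k) * k = k⁻¹ * k⁻¹ * u * (k * k) by group,
        ← mul_inv_rev, ← S.k2, inv_inv]] at h2
  exact h2

end Cfsg.Agent.H85.ZN
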